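import Mathlib
import Cfsg.Agent.Lib.CharP.Zsigmondy

/-!
A finite additive subgroup of a ring of odd prime characteristic which contains `1`, is closed
under `(a, b) ↦ a * b * a` and consists of units apart from `0`, is commutative
(finite special Jordan division algebras of odd characteristic, elementary proof).
-/

set_option autoImplicit false
set_option linter.unusedSectionVars false

namespace Cfsg.Agent.OstromWagner

open Polynomial
open scoped Pointwise

variable {R : Type*} [Ring R]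

/-- A finite "division set" in a ring of odd prime characteristic. -/
structure DS (p : ℕ) (B : AddSubgroup R) : Prop where
  one_mem : (1 : R) ∈ B
  tri : ∀ a ∈ B, ∀ b ∈ B, a * b * a ∈ B
  unit : ∀ a ∈ B, a ≠ 0 → IsUnit a
  prime : p.Prime
  odd : Odd p
  char : ∀ x : R, p • x = 0
  fin : Finite B

namespace DS

variable {p : ℕ} {B : AddSubgroup R} (hB : DS p B)
include hB

theorem eq_zero_of_double {x : R} (h : x + x = 0) : x = 0 := by
  obtain ⟨k, hk⟩ := hB.odd
  have := hB.char x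
  rwa [hk, add_nsmul, mul_nsmul, two_nsmul, h, nsmul_zero, zero_add, one_nsmul] at this

theorem half_mem {x : R} (h : x + x ∈ B) : x ∈ B := by
  obtain ⟨k, hk⟩ := hB.odd
  have := nsmul_mem h (k + 1)
  rwa [← two_nsmul, ← mul_nsmul, show 2 * (k + 1) = p + 1 by omega, add_nsmul, hB.char, zero_add,
    one_nsmul] at this

theorem sq_mem {a : R} (ha : a ∈ B) : a * a ∈ B := by simpa using hB.tri a ha 1 hB.one_mem

theorem pow_mem {a : R} (ha : a ∈ B) : ∀ n : ℕ, a ^ n ∈ B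
  | 0 => by simpa using hB.one_mem
  | 1 => by simpa using ha
  | n + 2 => by
    have := hB.tri a ha _ (pow_mem ha n)
    rwa [← pow_succ', ← pow_succ] at this

theorem dd_mem {a x : R} (ha : a ∈ B) (hx : x ∈ B) : a * x + x * a ∈ B := by
  have h := sub_mem (sub_mem (hB.tri (a + 1) (add_mem ha hB.one_mem) x hx) (hB.tri a ha x hx)) hx
  have e : (a + 1) * x * (a + 1) - a * x * a - x = a * x + x * a := by
    simp only [add_mul, mul_add, one_mul, mul_one]; abel
  rwa [e] at h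

theorem mul_mem_of_commute {a b : R} (ha : a ∈ B) (hb : b ∈ B) (h : Commute a b) : a * b ∈ B :=
  hB.half_mem (by have := hB.dd_mem ha hb; rwa [← h.eq] at this)

theorem exists_inv {a : R} (ha : a ∈ B) (h0 : a ≠ 0) :
    ∃ m : ℕ, a * a ^ m = 1 ∧ a ^ m * a = 1 := by
  have := hB.fin
  obtain ⟨i, j, hne, hij⟩ :=
    Finite.exists_ne_map_eq_of_infinite (fun n : ℕ => (⟨a ^ n, hB.pow_mem ha n⟩ : B))
  have hij' : a ^ i = a ^ j := congrArg Subtype.val hij
  obtain ⟨m, hm⟩ : ∃ m, a ^ (m + 1) = 1 := by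
    rcases lt_or_gt_of_ne hne with hlt | hlt
    · refine ⟨j - i - 1, ((hB.unit a ha h0).pow i).mul_left_cancel ?_⟩
      rw [← pow_add, mul_one, show i + (j - i - 1 + 1) = j by omega, hij']
    · refine ⟨i - j - 1, ((hB.unit a ha h0).pow j).mul_left_cancel ?_⟩
      rw [← pow_add, mul_one, show j + (i - j - 1 + 1) = i by omega, hij']
  exact ⟨m, by rw [← pow_succ', hm], by rw [← pow_succ, hm]⟩

theorem inverse_mem {a : R} (ha : a ∈ B) : Ring.inverse a ∈ B := by
  by_cases h0 : a = 0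
  · rw [h0, Ring.inverse_zero]; exact zero_mem B
  obtain ⟨m, h1, h2⟩ := hB.exists_inv ha h0
  have : Ring.inverse a = a ^ m := by
    have := Ring.inverse_unit (⟨a, a ^ m, h1, h2⟩ : Rˣ)
    simpa using this
  rw [this]; exact hB.pow_mem ha m

theorem inverse_inverse {a : R} (ha : a ∈ B) : Ring.inverse (Ring.inverse a) = a := by
  by_cases h0 : a = 0
  · simp [h0]
  obtain ⟨u, rfl⟩ := hB.unit a ha h0
  simp

theorem eq_zero_or {a b : R} (ha : a ∈ B) (h : a * b = 0) : a = 0 ∨ b = 0 := by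
  by_cases h0 : a = 0
  · exact Or.inl h0
  · exact Or.inr ((hB.unit a ha h0).mul_right_eq_zero.1 h)

/-- The centre. -/
def Zr : Subring R where
  carrier := {x | x ∈ B ∧ ∀ y ∈ B, Commute x y}
  zero_mem' := ⟨zero_mem B, fun y _ => Commute.zero_left y⟩
  one_mem' := ⟨hB.one_mem, fun y _ => Commute.one_left y⟩
  add_mem' ha hb := ⟨add_mem ha.1 hb.1, fun y hy => (ha.2 y hy).add_left (hb.2 y hy)⟩
  neg_mem' ha := ⟨neg_mem ha.1, fun y hy => (ha.2 y hy).neg_left⟩
  mul_mem' {a b} ha hb := ⟨hB.mul_mem_of_commute ha.1 hb.1 (ha.2 b hb.1), fun y hy =>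
    (ha.2 y hy).mul_left (hb.2 y hy)⟩

theorem mem_Zr {x : R} : x ∈ hB.Zr ↔ x ∈ B ∧ ∀ y ∈ B, Commute x y := Iff.rfl

theorem Zr_mul_mem {z x : R} (hz : z ∈ hB.Zr) (hx : x ∈ B) : z * x ∈ B :=
  hB.mul_mem_of_commute hz.1 hx (hz.2 x hx)

/-- The centre is commutative. -/
instance instCommRingZr : CommRing hB.Zr :=
  { (inferInstance : Ring hB.Zr) with
    mul_comm := fun x y => Subtype.ext (x.2.2 y y.2.1) }

/-- A commutative subring inside `B`, as an additive subgroup. -/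
structure CF (hB : DS p B) (C : AddSubgroup R) : Prop where
  le : C ≤ B
  one_mem : (1 : R) ∈ C
  mul_mem : ∀ x ∈ C, ∀ y ∈ C, x * y ∈ C
  comm : ∀ x ∈ C, ∀ y ∈ C, Commute x y

theorem isField_of {S : Subring R} (hle : ∀ x ∈ S, x ∈ B) (hc : ∀ x ∈ S, ∀ y ∈ S, Commute x y)
    (h10 : (1 : R) ≠ 0) : IsField S where
  exists_pair_ne := ⟨1, 0, fun h => h10 (congrArg Subtype.val h)⟩
  mul_comm x y := Subtype.ext (hc x x.2 y y.2)
  mul_inv_cancel {x} hx := by
    obtain ⟨m, hm, -⟩ := hB.exists_inv (hle x x.2) (fun h => hx (Subtype.ext h))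
    exact ⟨x ^ m, Subtype.ext (by simpa using hm)⟩

theorem finite_sub {S : Subring R} (hle : ∀ x ∈ S, x ∈ B) : Finite S :=
  have := hB.fin
  Finite.of_injective (fun x : S => (⟨x, hle x x.2⟩ : B))
    (fun a b e => Subtype.ext (congrArg (fun z : B => (z : R)) e))

theorem ringChar_sub_ne (S : Subring R) (h10 : (1 : R) ≠ 0) : ringChar S ≠ 2 := fun h => by
  have h2 := ringChar.Nat.cast_ringChar (R := S)
  rw [h, Nat.cast_two, ← one_add_one_eq_two] at h2
  exact h10 (hB.eq_zero_of_double (congrArg Subtype.val h2))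

/-- The subring carried by a `CF`. -/
def CF.ring {C : AddSubgroup R} (hC : CF hB C) : Subring R :=
  { C with
    mul_mem' := fun {u w} hu hw => hC.mul_mem u hu w hw
    one_mem' := hC.one_mem }

theorem CF.pow_mem' {C : AddSubgroup R} (hC : CF hB C) {x : R} (hx : x ∈ C) (n : ℕ) : x ^ n ∈ C :=
  _root_.pow_mem (show x ∈ hC.ring hB from hx) n

theorem CF.pow_card {C : AddSubgroup R} (hC : CF hB C) (h10 : (1 : R) ≠ 0) {x : R} (hx : x ∈ C)
    (h0 : x ≠ 0) : x ^ (Nat.card C - 1) = 1 := by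
  letI : Field (hC.ring hB) :=
    (hB.isField_of (S := hC.ring hB) (fun y hy => hC.le hy) hC.comm h10).toField
  have := hB.finite_sub (S := hC.ring hB) (fun y hy => hC.le hy)
  cases nonempty_fintype (hC.ring hB)
  have h := FiniteField.pow_card_sub_one_eq_one (⟨x, hx⟩ : hC.ring hB)
    (fun e => h0 (congrArg Subtype.val e))
  rw [← Nat.card_eq_fintype_card,
    show Nat.card (hC.ring hB) = Nat.card C from Nat.card_congr (Equiv.refl _)] at h
  have h' := congrArg Subtype.val h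
  simpa using h'

theorem CF.square {C : AddSubgroup R} (hC : CF hB C) (h10 : (1 : R) ≠ 0) {x : R} (hx : x ∈ C)
    (h0 : x ≠ 0) :
    (x ^ (Nat.card C / 2) = 1 → ∃ s ∈ C, s * s = x) ∧
      (x ^ (Nat.card C / 2) = 1 ∨ x ^ (Nat.card C / 2) = -1) := by
  letI : Field (hC.ring hB) :=
    (hB.isField_of (S := hC.ring hB) (fun y hy => hC.le hy) hC.comm h10).toField
  have := hB.finite_sub (S := hC.ring hB) (fun y hy => hC.le hy)
  cases nonempty_fintype (hC.ring hB)
  have hchar : ringChar (hC.ring hB) ≠ 2 := hB.ringChar_sub_ne (hC.ring hB) (h10)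
  have hcard : Fintype.card (hC.ring hB) = Nat.card C := by
    rw [← Nat.card_eq_fintype_card]; exact Nat.card_congr (Equiv.refl _)
  have hx0 : (⟨x, hx⟩ : hC.ring hB) ≠ 0 := fun e => h0 (congrArg Subtype.val e)
  refine ⟨fun h => ?_, ?_⟩
  · obtain ⟨s, hs⟩ := (FiniteField.isSquare_iff hchar hx0).2
      (Subtype.ext (by rw [hcard]; simpa using h))
    exact ⟨s, s.2, (congrArg Subtype.val hs).symm⟩
  · rw [← hcard]
    rcases FiniteField.pow_dichotomy hchar hx0 with h | h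
    · left; simpa using congrArg Subtype.val h
    · right; simpa using congrArg Subtype.val h

section counterexample

variable (hIH : ∀ C : AddSubgroup R, DS p C → C < B → ∀ a ∈ C, ∀ b ∈ C, Commute a b)
  (hnc : ¬ ∀ a ∈ B, ∀ b ∈ B, Commute a b)

omit hB in
theorem one_ne_zero_of (hnc : ¬ ∀ a ∈ B, ∀ b ∈ B, Commute a b) : (1 : R) ≠ 0 := fun h =>
  hnc fun a _ b _ => by
    rw [show a = 0 by rw [← mul_one a, h, mul_zero]]; exact Commute.zero_left b

omit hB in
/-- The centraliser of `c` in `B`. -/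
def cen (_hB : DS p B) (c : R) : AddSubgroup R where
  carrier := {x | x ∈ B ∧ Commute c x}
  zero_mem' := ⟨zero_mem B, Commute.zero_right _⟩
  add_mem' ha hb := ⟨add_mem ha.1 hb.1, ha.2.add_right hb.2⟩
  neg_mem' ha := ⟨neg_mem ha.1, ha.2.neg_right⟩

theorem mem_cen {c x : R} : x ∈ hB.cen c ↔ x ∈ B ∧ Commute c x := Iff.rfl

include hIH in
theorem cen_CF {c : R} (hc : c ∈ B) (hcz : c ∉ hB.Zr) : CF hB (hB.cen c) := by
  have hds : DS p (hB.cen c) :=
    ⟨⟨hB.one_mem, Commute.one_right _⟩,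
     fun a ha b hb => ⟨hB.tri a ha.1 b hb.1, (ha.2.mul_right hb.2).mul_right ha.2⟩,
     fun a ha => hB.unit a ha.1, hB.prime, hB.odd, hB.char,
     have := hB.fin
     Finite.of_injective (fun x : hB.cen c => (⟨x, x.2.1⟩ : B))
      (fun a b e => Subtype.ext (congrArg (fun z : B => (z : R)) e))⟩
  have hlt : hB.cen c < B := lt_of_le_of_ne (fun x hx => hx.1)
    (fun e => hcz ⟨hc, fun y hy => (e.ge hy).2⟩)
  have hcomm := hIH _ hds hlt
  exact ⟨fun x hx => hx.1, ⟨hB.one_mem, Commute.one_right _⟩, fun x hx y hy =>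
    ⟨hB.mul_mem_of_commute hx.1 hy.1 (hcomm x hx y hy), hx.2.mul_right hy.2⟩, hcomm⟩

include hnc in
/-- The centre is a field. -/
theorem Zr_isField : IsField hB.Zr :=
  hB.isField_of (fun _ hx => hx.1) (fun _ hx y hy => hx.2 y hy.1) (one_ne_zero_of hnc)

theorem Zr_CF : CF hB hB.Zr.toAddSubgroup :=
  ⟨fun _ hx => hx.1, hB.Zr.one_mem, fun _ hx _ hy => hB.Zr.mul_mem hx hy,
   fun _ hx y hy => hx.2 y hy.1⟩

include hIH hnc

/-- There are no square roots of central elements outside the centre. -/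
theorem no_root {r : R} (hr : r ∈ B) (hrr : r * r ∈ hB.Zr) : r ∈ hB.Zr := by
  have h10 := one_ne_zero_of hnc
  by_contra hrz
  have hr0 : r ≠ 0 := fun h => hrz (h ▸ zero_mem _)
  obtain ⟨x, hx, hxr⟩ : ∃ x ∈ B, ¬ Commute r x := by
    by_contra h
    push Not at h
    exact hrz ⟨hr, h⟩
  set ν := r * r with hν
  have hν0 : ν ≠ 0 := fun h => hr0 ((hB.eq_zero_or hr h).elim id id)
  obtain ⟨⟨ν', hν'⟩, hνν⟩ := (hB.Zr_isField hnc).mul_inv_cancel
    (show (⟨ν, hrr⟩ : hB.Zr) ≠ 0 from fun h => hν0 (congrArg Subtype.val h))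
  have hνν' : ν * ν' = 1 := congrArg Subtype.val hνν
  have hν'ν : ν' * ν = 1 := by rw [(hν'.2 ν hrr.1).eq, hνν']
  set N := x - ν' * (r * x * r) with hN
  have hNB : N ∈ B := sub_mem hx (hB.Zr_mul_mem hν' (hB.tri r hr x hx))
  have h1 : r * N = r * x - x * r := by
    have : r * (ν' * (r * x * r)) = x * r := by
      rw [← mul_assoc, ← (hν'.2 r hr).eq, mul_assoc, ← mul_assoc r (r * x) r, ← mul_assoc r r x,
        ← hν, mul_assoc ν x r, ← mul_assoc ν' ν, hν'ν, one_mul]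
    rw [hN, mul_sub, this]
  have h2 : N * r = x * r - r * x := by
    have : ν' * (r * x * r) * r = r * x := by
      rw [mul_assoc ν', mul_assoc (r * x) r r, ← hν,
        show r * x * ν = ν * (r * x) by
          rw [mul_assoc, ← (hrr.2 x hx).eq, ← mul_assoc, ← (hrr.2 r hr).eq, mul_assoc],
        ← mul_assoc, hν'ν, one_mul]
    rw [hN, sub_mul, this]
  have hanti : r * N + N * r = 0 := by rw [h1, h2]; abel
  have hN0 : N ≠ 0 := fun h => hxr (by rw [h, mul_zero] at h1; exact sub_eq_zero.1 h1.symm)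
  have hnot : ¬ Commute r N := fun h => by
    rw [← h.eq] at hanti
    rcases hB.eq_zero_or hr (hB.eq_zero_of_double hanti) with h' | h'
    exacts [hr0 h', hN0 h']
  have hμ : N * N ∈ hB.Zr := by
    by_contra hμ
    have hC := hB.cen_CF hIH (hB.sq_mem hNB) hμ
    refine hnot (hC.comm r ⟨hr, ?_⟩ N ⟨hNB, ?_⟩)
    · have hrN : r * N = -(N * r) := eq_neg_of_add_eq_zero_left hanti
      show N * N * r = r * (N * N)
      rw [← mul_assoc, hrN, neg_mul, mul_assoc N r N, hrN, mul_neg, neg_neg, mul_assoc]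
    · exact ((Commute.refl N).mul_right (Commute.refl N)).symm
  -- solve `a² - ν b² = μ` in the centre
  letI : Field hB.Zr := (hB.Zr_isField hnc).toField
  have := hB.finite_sub (S := hB.Zr) (fun y hy => hy.1)
  cases nonempty_fintype hB.Zr
  have hchar : ringChar hB.Zr ≠ 2 := hB.ringChar_sub_ne hB.Zr (h10)
  obtain ⟨a, b, hab⟩ := FiniteField.exists_root_sum_quadratic
    (f := (X ^ 2 - C (⟨N * N, hμ⟩ : hB.Zr))) (g := C (-(⟨ν, hrr⟩ : hB.Zr)) * X ^ 2)
    (degree_X_pow_sub_C two_pos _)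
    (by rw [degree_mul, degree_C (neg_ne_zero.2 fun h => hν0 (congrArg Subtype.val h)), zero_add,
      degree_X_pow]; rfl)
    (Nat.odd_iff.1 (FiniteField.odd_card_of_char_ne_two hchar |> Nat.odd_iff.2))
  have hab' : (a : R) * a - N * N + -ν * ((b : R) * b) = 0 := by
    simp only [eval_sub, eval_mul, eval_pow, eval_X, eval_C] at hab
    have := congrArg Subtype.val hab
    simpa [pow_two] using this
  have ha := a.2
  have hb := b.2
  have hbr : (b : R) * r ∈ B := hB.Zr_mul_mem hb hr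
  have hprod : ((a : R) + ((b : R) * r + N)) * ((a : R) - ((b : R) * r + N)) = 0 := by
    have hsq : ((b : R) * r + N) * ((b : R) * r + N) = ν * ((b : R) * b) + N * N := by
      have e1 : (b : R) * r * ((b : R) * r) = ν * ((b : R) * b) := by
        rw [mul_assoc, ← mul_assoc r, ← (hb.2 r hr).eq, mul_assoc, ← mul_assoc, ← hν,
          (hrr.2 _ (hB.mul_mem_of_commute hb.1 hb.1 (Commute.refl _))).eq]
      have e2 : (b : R) * r * N + N * ((b : R) * r) = (b : R) * (r * N + N * r) := by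
        rw [mul_add, mul_assoc, ← mul_assoc N, ← (hb.2 N hNB).eq, mul_assoc]
      rw [add_mul, mul_add, mul_add, e1, add_assoc, ← add_assoc (_ * r * N), e2, hanti, mul_zero,
        zero_add]
    have hac : Commute (a : R) ((b : R) * r + N) := ha.2 _ (add_mem hbr hNB)
    rw [add_mul, mul_sub, mul_sub, hsq, ← hac.eq]
    rw [← hab']; rw [neg_mul]; abel
  have hcase : N = -(a : R) - (b : R) * r ∨ N = (a : R) - (b : R) * r := by
    rcases hB.eq_zero_or (add_mem ha.1 (add_mem hbr hNB)) hprod with h | h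
    · left
      rw [eq_sub_iff_add_eq, eq_neg_iff_add_eq_zero, ← h]; abel
    · right
      rw [eq_sub_iff_add_eq, ← sub_eq_zero]
      rw [← neg_eq_zero, ← h]; abel
  have hrb : Commute r ((b : R) * r) := (hb.2 r hr).symm.mul_right (Commute.refl r)
  rcases hcase with h | h <;> exact hnot (h ▸ Commute.sub_right (by
    first | exact ((ha.2 r hr).symm).neg_right | exact (ha.2 r hr).symm) hrb)

/-- `q` is the size of the centre. -/
theorem card_Zr : 3 ≤ Nat.card hB.Zr ∧ Odd (Nat.card hB.Zr) := by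
  letI : Field hB.Zr := (hB.Zr_isField hnc).toField
  have := hB.finite_sub (S := hB.Zr) (fun y hy => hy.1)
  cases nonempty_fintype hB.Zr
  have hchar : ringChar hB.Zr ≠ 2 := hB.ringChar_sub_ne hB.Zr (one_ne_zero_of hnc)
  rw [Nat.card_eq_fintype_card]
  have h1 := FiniteField.odd_card_of_char_ne_two hchar
  have h2 : 1 < Fintype.card hB.Zr := Fintype.one_lt_card
  exact ⟨by omega, Nat.odd_iff.2 h1⟩

/-- A nonsquare in the centre. -/
theorem exists_nu : ∃ ν ∈ hB.Zr, ν ≠ 0 ∧ ν ^ (Nat.card hB.Zr - 1) = 1 ∧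
    ∀ s ∈ B, s * s ≠ ν := by
  letI : Field hB.Zr := (hB.Zr_isField hnc).toField
  have := hB.finite_sub (S := hB.Zr) (fun y hy => hy.1)
  cases nonempty_fintype hB.Zr
  have hchar : ringChar hB.Zr ≠ 2 := hB.ringChar_sub_ne hB.Zr (one_ne_zero_of hnc)
  obtain ⟨ν, hν⟩ := FiniteField.exists_nonsquare (F := hB.Zr) hchar
  have h0 : ν ≠ 0 := fun h => hν (h ▸ IsSquare.zero)
  refine ⟨ν, ν.2, fun h => h0 (Subtype.ext h), ?_, fun s hs h => hν
    ⟨⟨s, hB.no_root hIH hnc hs (h ▸ ν.2)⟩, Subtype.ext h.symm⟩⟩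
  have := congrArg Subtype.val (FiniteField.pow_card_sub_one_eq_one ν h0)
  rw [Nat.card_eq_fintype_card]
  simpa using this

end counterexample

/-- The module structure over the centre. -/
instance instModuleZr : Module hB.Zr B where
  smul z x := ⟨(z : R) * x, hB.Zr_mul_mem z.2 x.2⟩
  one_smul x := Subtype.ext (one_mul (x : R))
  mul_smul a b x := Subtype.ext (mul_assoc (a : R) b x)
  smul_zero a := Subtype.ext (mul_zero (a : R))
  smul_add a x y := Subtype.ext (mul_add (a : R) x y)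
  add_smul a b x := Subtype.ext (add_mul (a : R) b x)
  zero_smul x := Subtype.ext (zero_mul (x : R))

theorem coe_smul_Zr (z : hB.Zr) (x : B) : ((z • x : B) : R) = (z : R) * x := rfl

section counterexample2

variable (hIH : ∀ C : AddSubgroup R, DS p C → C < B → ∀ a ∈ C, ∀ b ∈ C, Commute a b)
  (hnc : ¬ ∀ a ∈ B, ∀ b ∈ B, Commute a b)
include hnc

/-- A subgroup stable under the centre has `q`-power order. -/
theorem card_eq_q_pow {C : AddSubgroup R} (hle : C ≤ B)
    (hz : ∀ z ∈ hB.Zr, ∀ x ∈ C, z * x ∈ C) : ∃ d, Nat.card C = Nat.card hB.Zr ^ d := by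
  let f : hB.Zr →+* hB.Zr := RingHom.id _
  letI : Field hB.Zr := (hB.Zr_isField hnc).toField
  have := hB.fin
  have := hB.finite_sub (S := hB.Zr) (fun y hy => hy.1)
  cases nonempty_fintype hB.Zr
  let S : Submodule hB.Zr B :=
    { carrier := {x | (x : R) ∈ C}
      zero_mem' := zero_mem C
      add_mem' := fun {a b} ha hb => show ((a + b : B) : R) ∈ C from add_mem ha hb
      smul_mem' := fun z x hx => hz z z.2 x hx }
  refine ⟨Module.finrank hB.Zr S, ?_⟩
  rw [← Module.natCard_eq_pow_finrank (K := hB.Zr) (V := S)]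
  exact Nat.card_congr ⟨fun x => ⟨⟨x.1, hle x.2⟩, x.2⟩, fun x => ⟨x.1.1, x.2⟩, fun _ => rfl,
    fun _ => rfl⟩

include hIH

theorem mem_cen_Zr {c : R} (hc : c ∈ B) {z : R} (hz : z ∈ hB.Zr) : z ∈ hB.cen c :=
  ⟨hz.1, (hz.2 c hc).symm⟩

/-- A field inside `B` containing the centre has odd degree over it. -/
theorem CF_odd_degree {C : AddSubgroup R} (hC : CF hB C) (hZ : ∀ z ∈ hB.Zr, z ∈ C) :
    ∃ d, Nat.card C = Nat.card hB.Zr ^ d ∧ Odd d ∧
      ∃ ν ∈ hB.Zr, ν ≠ 0 ∧ ν ^ (Nat.card C / 2) = -1 := by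
  have h10 := one_ne_zero_of hnc
  obtain ⟨hq3, hqodd⟩ := hB.card_Zr hIH hnc
  obtain ⟨ν, hν, hν0, hνq, hns⟩ := hB.exists_nu hIH hnc
  obtain ⟨d, hd⟩ := hB.card_eq_q_pow hnc hC.le (fun z hz x hx => hC.mul_mem z (hZ z hz) x hx)
  set q := Nat.card hB.Zr with hq
  have hsq := hC.square hB h10 (hZ ν hν) hν0
  have hne : ν ^ (Nat.card C / 2) ≠ 1 := fun h => by
    obtain ⟨s, hs, hss⟩ := hsq.1 h
    exact hns s (hC.le hs) hss
  refine ⟨d, hd, ?_, ν, hν, hν0, hsq.2.resolve_left hne⟩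
  rcases Nat.even_or_odd d with ⟨e, he⟩ | h
  · exfalso
    apply hne
    obtain ⟨t, ht⟩ : q ^ 2 - 1 ∣ (q ^ 2) ^ e - 1 := by
      simpa using Nat.sub_dvd_pow_sub_pow (q ^ 2) 1 e
    obtain ⟨u, hu⟩ : ∃ u, q = 2 * u + 1 := hqodd
    have h1 : Nat.card C / 2 = (q - 1) * ((u + 1) * t) := by
      have hpow : Nat.card C = (q ^ 2) ^ e := by rw [hd, he, ← two_mul, pow_mul]
      have h2 : (q ^ 2) ^ e = 2 * ((q - 1) * ((u + 1) * t)) + 1 := by
        have h3 : (q ^ 2) ^ e = (q ^ 2 - 1) * t + 1 := by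
          rw [← ht]; exact (Nat.sub_add_cancel (Nat.one_le_pow _ _ (by positivity))).symm
        rw [h3, hu, show 2 * u + 1 - 1 = 2 * u by omega,
          show (2 * u + 1) ^ 2 - 1 = 2 * (2 * u) * (u + 1) by
            rw [show (2 * u + 1) ^ 2 = 2 * (2 * u) * (u + 1) + 1 by ring, Nat.add_sub_cancel]]
        ring
      rw [hpow, h2]; omega
    rw [h1, pow_mul, hνq, one_pow]
  · exact h

/-- `|B| = q ^ D` with `D` odd. -/
theorem exists_degree : ∃ D, Nat.card B = Nat.card hB.Zr ^ D ∧ Odd D ∧ 1 < D := by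
  classical
  have hfin := hB.fin
  obtain ⟨hq3, hqodd⟩ := hB.card_Zr hIH hnc
  obtain ⟨D, hD⟩ := hB.card_eq_q_pow hnc (le_refl B) (fun z hz x hx => hB.Zr_mul_mem hz hx)
  set q := Nat.card hB.Zr with hq
  cases nonempty_fintype B
  let f : B → Set R := fun c => (hB.cen (c : R) : Set R)
  set W := (Finset.univ : Finset B).filter fun x : B => (x : R) ∉ hB.Zr with hW
  have hZcard : ((Finset.univ : Finset B).filter fun x : B => (x : R) ∈ hB.Zr).card = q := by
    rw [← Fintype.card_subtype, ← Nat.card_eq_fintype_card]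
    exact Nat.card_congr ⟨fun x => ⟨x.1.1, x.2⟩, fun z => ⟨⟨z.1, z.2.1⟩, z.2⟩, fun _ => rfl,
      fun _ => rfl⟩
  have hsum : q ^ D = q + W.card := by
    rw [← hD, Nat.card_eq_fintype_card, ← Finset.card_univ,
      ← Finset.card_filter_add_card_filter_not (fun x : B => (x : R) ∈ hB.Zr), hZcard]
  have hdiv : q ^ 2 - 1 ∣ W.card := by
    rw [Finset.card_eq_sum_card_fiberwise (f := f) (t := W.image f)
      (fun x hx => Finset.mem_image_of_mem f hx)]
    refine Finset.dvd_sum fun F hF => ?_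
    obtain ⟨c, hc, rfl⟩ := Finset.mem_image.1 hF
    have hcz : (c : R) ∉ hB.Zr := (Finset.mem_filter.1 hc).2
    have hCF := hB.cen_CF hIH c.2 hcz
    have hfib : W.filter (fun x => f x = f c) =
        ((Finset.univ : Finset B).filter fun x : B => (x : R) ∈ hB.cen (c : R)) \
          ((Finset.univ : Finset B).filter fun x : B => (x : R) ∈ hB.Zr) := by
      ext x
      simp only [hW, Finset.mem_filter, Finset.mem_univ, true_and, Finset.mem_sdiff, f]
      constructor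
      · rintro ⟨hx, he⟩
        exact ⟨(Set.ext_iff.1 he (x : R)).1 ⟨x.2, Commute.refl _⟩, hx⟩
      · rintro ⟨hxc, hx⟩
        refine ⟨hx, Set.ext fun y => ⟨fun hy => ⟨hy.1, ?_⟩, fun hy => ⟨hy.1, ?_⟩⟩⟩
        · exact (hB.cen_CF hIH x.2 hx).comm _ ⟨c.2, hxc.2.symm⟩ y hy
        · exact hCF.comm _ hxc y hy
    obtain ⟨d, hd, hdodd, -⟩ := hB.CF_odd_degree hIH hnc hCF
      (fun z hz => hB.mem_cen_Zr hIH hnc c.2 hz)
    have hcard : ((Finset.univ : Finset B).filter fun x : B => (x : R) ∈ hB.cen (c : R)).card =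
        q ^ d := by
      rw [← Fintype.card_subtype, ← Nat.card_eq_fintype_card, ← hd]
      exact Nat.card_congr ⟨fun x => ⟨x.1.1, x.2⟩, fun z => ⟨⟨z.1, z.2.1⟩, z.2⟩, fun _ => rfl,
        fun _ => rfl⟩
    rw [hfib, Finset.card_sdiff_of_subset (fun x hx => by
      simp only [Finset.mem_filter, Finset.mem_univ, true_and] at hx ⊢
      exact hB.mem_cen_Zr hIH hnc c.2 hx), hcard, hZcard]
    obtain ⟨k, rfl⟩ := hdodd
    have := Nat.sub_dvd_pow_sub_pow (q ^ 2) 1 k
    rw [one_pow] at this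
    rw [pow_succ q (2 * k), pow_mul, show (q ^ 2) ^ k * q - q = ((q ^ 2) ^ k - 1) * q by
      rw [Nat.sub_mul, one_mul]]
    exact Dvd.dvd.mul_right this q
  have hWne : W.card ≠ 0 := fun h => hnc fun a ha b hb => by
    have : (⟨a, ha⟩ : B) ∉ W := by rw [Finset.card_eq_zero.1 h]; exact Finset.notMem_empty _
    simp only [hW, Finset.mem_filter, Finset.mem_univ, true_and, not_not] at this
    exact this.2 b hb
  refine ⟨D, hD, ?_, ?_⟩
  · rcases Nat.even_or_odd D with ⟨e, he⟩ | h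
    · exfalso
      have h1 : q ^ 2 - 1 ∣ q ^ D - 1 := by
        rw [he, ← two_mul, pow_mul]
        simpa using Nat.sub_dvd_pow_sub_pow (q ^ 2) 1 e
      have h2 : q ^ D - 1 = (q - 1) + W.card := by omega
      rw [h2, Nat.dvd_add_left hdiv] at h1
      have h3 := Nat.le_of_dvd (by omega) h1
      have h4 : q < q ^ 2 := by rw [pow_two]; exact lt_mul_self (by omega)
      omega
    · exact h
  · by_contra h
    have : q ^ D ≤ q ^ 1 := Nat.pow_le_pow_right (by omega) (by omega)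
    rw [pow_one] at this
    omega

/-- Every element is a central multiple of a square. -/
theorem exists_root {v : R} (hv : v ∈ B) (hv0 : v ≠ 0) :
    ∃ z ∈ hB.Zr, z ≠ 0 ∧ ∃ s ∈ B, s ≠ 0 ∧ z * (s * s) = v := by
  have h10 := one_ne_zero_of hnc
  by_cases hvz : v ∈ hB.Zr
  · exact ⟨v, hvz, hv0, 1, hB.one_mem, h10, by simp⟩
  have hCF := hB.cen_CF hIH hv hvz
  have hvC : v ∈ hB.cen v := ⟨hv, Commute.refl v⟩
  obtain ⟨d, hd, hdodd, ν, hν, hν0, hνp⟩ := hB.CF_odd_degree hIH hnc hCF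
    (fun z hz => hB.mem_cen_Zr hIH hnc hv hz)
  rcases (hCF.square hB h10 hvC hv0).2 with h | h
  · obtain ⟨s, hs, hss⟩ := (hCF.square hB h10 hvC hv0).1 h
    exact ⟨1, hB.Zr.one_mem, h10, s, hs.1, fun e => hv0 (by rw [← hss, e, mul_zero]),
      by rw [one_mul, hss]⟩
  · have hνv : ν * v ∈ hB.cen v := hCF.mul_mem _ (hB.mem_cen_Zr hIH hnc hv hν) v hvC
    have hνv0 : ν * v ≠ 0 := fun e => by
      rcases hB.eq_zero_or hν.1 e with h' | h'
      exacts [hν0 h', hv0 h']
    obtain ⟨s, hs, hss⟩ := (hCF.square hB h10 hνv hνv0).1 (by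
      rw [(hν.2 v hv).mul_pow, hνp, h]; simp)
    obtain ⟨⟨z, hz⟩, hzν⟩ := (hB.Zr_isField hnc).mul_inv_cancel
      (show (⟨ν, hν⟩ : hB.Zr) ≠ 0 from fun e => hν0 (congrArg Subtype.val e))
    have hzν' : ν * z = 1 := congrArg Subtype.val hzν
    refine ⟨z, hz, fun e => h10 (by rw [← hzν', e, mul_zero]), s, hs.1,
      fun e => hνv0 (by rw [← hss, e, mul_zero]), ?_⟩
    rw [hss, ← mul_assoc, ← (hν.2 z hz.1).eq, hzν', one_mul]

/-- No conjugation fixing the centre induces an automorphism of order two. -/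
theorem no_sigma (l : Rˣ) (hlz : ∀ z ∈ hB.Zr, Commute (l : R) z)
    (hl : ∀ x ∈ B, (l : R) * x * (↑l⁻¹ : R) ∈ B)
    (hll : ∀ x ∈ B, (l : R) * ((l : R) * x * (↑l⁻¹ : R)) * (↑l⁻¹ : R) = x) :
    ∀ x ∈ B, (l : R) * x * (↑l⁻¹ : R) = x := by
  classical
  have h10 := one_ne_zero_of hnc
  let σ : R → R := fun x => (l : R) * x * (↑l⁻¹ : R)
  have hfix : ∀ x : R, Commute (l : R) x → σ x = x := fun x h => by
    show (l : R) * x * (↑l⁻¹ : R) = x
    rw [h.eq, mul_assoc, Units.mul_inv, mul_one]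
  have hadd : ∀ x y : R, σ (x + y) = σ x + σ y := fun x y => by simp only [σ, mul_add, add_mul]
  have hsub : ∀ x y : R, σ (x - y) = σ x - σ y := fun x y => by simp only [σ, mul_sub, sub_mul]
  have hmul : ∀ x y : R, σ (x * y) = σ x * σ y := fun x y => by
    simp only [σ, mul_assoc]; rw [← mul_assoc (↑l⁻¹ : R) (l : R), Units.inv_mul, one_mul]
  intro x hx
  by_contra hne
  set N := x - σ x with hN
  have hNB : N ∈ B := sub_mem hx (hl x hx)
  have hN0 : N ≠ 0 := fun h => hne (sub_eq_zero.1 h).symm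
  have hσN : σ N = -N := by rw [hN, hsub, show σ (σ x) = x from hll x hx]; abel
  have hNz : N ∉ hB.Zr := fun h => hN0 (hB.eq_zero_of_double (by
    conv_lhs => arg 2; rw [← hfix N (hlz N h)]
    rw [hσN, add_neg_cancel]))
  have hNNz : N * N ∉ hB.Zr := fun h => hNz (hB.no_root hIH hnc hNB h)
  have hCF := hB.cen_CF hIH (hB.sq_mem hNB) hNNz
  have hNC : N ∈ hB.cen (N * N) := ⟨hNB, ((Commute.refl N).mul_left (Commute.refl N))⟩
  have hσNN : σ (N * N) = N * N := by rw [hmul, hσN, neg_mul_neg]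
  have hσC : ∀ y ∈ hB.cen (N * N), σ y ∈ hB.cen (N * N) := fun y hy => ⟨hl y hy.1, by
    show N * N * σ y = σ y * (N * N)
    rw [← hσNN, ← hmul, ← hmul, hy.2.eq]⟩
  have hσσ : ∀ y ∈ B, σ (σ y) = y := hll
  obtain ⟨m, hm, -⟩ := hB.exists_inv hNB hN0
  set N' := N ^ m
  have hN'C : N' ∈ hB.cen (N * N) := hCF.pow_mem' hB hNC m
  have hσN' : σ N' = -N' := by
    have h1 : σ N * σ N' = 1 := by
      rw [← hmul, hm]
      exact hfix 1 (Commute.one_right _)
    rw [hσN, neg_mul, neg_eq_iff_eq_neg] at h1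
    calc σ N' = N' * N * σ N' := by rw [(hCF.comm N' hN'C N hNC).eq, hm, one_mul]
      _ = -N' := by rw [mul_assoc, h1, mul_neg, mul_one]
  -- the fixed subfield
  let K : AddSubgroup R :=
    { carrier := {y | y ∈ hB.cen (N * N) ∧ σ y = y}
      zero_mem' := ⟨zero_mem _, by simp [σ]⟩
      add_mem' := fun ha hb => ⟨add_mem ha.1 hb.1, by rw [hadd, ha.2, hb.2]⟩
      neg_mem' := fun {a} ha => ⟨neg_mem ha.1, by
        show (l : R) * (-a) * (↑l⁻¹ : R) = -a
        rw [mul_neg, neg_mul, show (l : R) * a * (↑l⁻¹ : R) = a from ha.2]⟩ }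
  have hK : CF hB K := ⟨fun y hy => hy.1.1, ⟨hCF.one_mem, hfix 1 (Commute.one_right _)⟩,
    fun y hy y' hy' => ⟨hCF.mul_mem y hy.1 y' hy'.1, by rw [hmul, hy.2, hy'.2]⟩,
    fun y hy y' hy' => hCF.comm y hy.1 y' hy'.1⟩
  have := hB.fin
  have : Finite (hB.cen (N * N)) := Finite.of_injective (fun y => (⟨y.1, y.2.1⟩ : B))
    (fun a b e => Subtype.ext (congrArg (fun z : B => (z : R)) e))
  have : Finite K := Finite.of_injective (fun y : K => (⟨y.1, y.2.1⟩ : hB.cen (N * N)))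
    (fun a b e => Subtype.ext (congrArg (fun z : hB.cen (N * N) => (z : R)) e))
  let F : K × K → hB.cen (N * N) := fun y =>
    ⟨(y.1 : R) + (y.2 : R) * N, add_mem y.1.2.1 (hCF.mul_mem _ y.2.2.1 N hNC)⟩
  have hbij : Function.Bijective F := by
    constructor
    · rintro ⟨a, b⟩ ⟨a', b'⟩ e
      have e1 : (a : R) + (b : R) * N = a' + b' * N := congrArg Subtype.val e
      have e2 := congrArg σ e1
      rw [hadd, hadd, hmul, hmul, a.2.2, b.2.2, a'.2.2, b'.2.2, hσN, mul_neg, mul_neg] at e2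
      have ha : (a : R) - a' = 0 := hB.eq_zero_of_double (by
        calc (a : R) - a' + ((a : R) - a')
            = ((a : R) + (b : R) * N) + ((a : R) + -((b : R) * N)) - ((a' : R) + a') := by abel
          _ = 0 := by rw [e1, e2]; abel)
      have ha' : a = a' := Subtype.ext (sub_eq_zero.1 ha)
      subst ha'
      have hb : ((b : R) - b') * N = 0 := by rw [sub_mul, sub_eq_zero]; exact add_left_cancel e1
      rcases hB.eq_zero_or (sub_mem (hK.le b.2) (hK.le b'.2)) hb with h | h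
      · exact Prod.ext rfl (Subtype.ext (sub_eq_zero.1 h))
      · exact absurd h hN0
    · rintro ⟨y, hy⟩
      have h2 : ∃ k : ℕ, k • ((2 : ℕ) • (1 : R)) = 1 := by
        obtain ⟨k, hk⟩ := hB.odd
        refine ⟨k + 1, ?_⟩
        rw [← mul_nsmul, show 2 * (k + 1) = p + 1 by omega, add_nsmul, hB.char, zero_add, one_nsmul]
      obtain ⟨k, hk⟩ := h2
      have hσy := hσC y hy
      have hσk : ∀ w : R, σ (k • w) = k • σ w := fun w => by
        simp only [σ, mul_smul_comm, smul_mul_assoc]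
      refine ⟨(⟨k • (y + σ y), nsmul_mem (add_mem hy hσy) k, ?_⟩,
        ⟨k • ((y - σ y) * N'), nsmul_mem (hCF.mul_mem _ (sub_mem hy hσy) _ hN'C) k, ?_⟩), ?_⟩
      · rw [hσk, hadd, hσσ y hy.1, add_comm]
      · rw [hσk, hmul, hsub, hσσ y hy.1, hσN', mul_neg, ← neg_mul, neg_sub]
      · apply Subtype.ext
        show k • (y + σ y) + k • ((y - σ y) * N') * N = y
        rw [smul_mul_assoc, mul_assoc (y - σ y), (hCF.comm N' hN'C N hNC).eq, hm, mul_one,
          ← nsmul_add, show y + σ y + (y - σ y) = (2 : ℕ) • (1 : R) * y by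
            rw [smul_mul_assoc, one_mul, two_nsmul]; abel, ← smul_mul_assoc, hk, one_mul]
  have hcard : Nat.card (hB.cen (N * N)) = Nat.card K * Nat.card K := by
    rw [← Nat.card_prod]; exact (Nat.card_eq_of_bijective F hbij).symm
  obtain ⟨d, -, -, ν, hν, hν0, hνp⟩ := hB.CF_odd_degree hIH hnc hCF
    (fun z hz => hB.mem_cen_Zr hIH hnc (hB.sq_mem hNB) hz)
  have hνK : ν ∈ K := ⟨hB.mem_cen_Zr hIH hnc (hB.sq_mem hNB) hν, hfix ν (hlz ν hν)⟩
  have hν1 := hK.pow_card hB h10 hνK hν0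
  obtain ⟨e, hKodd⟩ : Odd (Nat.card K) := by
    obtain ⟨e, he⟩ := hB.card_eq_q_pow hnc hK.le (fun z hz y hy =>
      hK.mul_mem z ⟨hB.mem_cen_Zr hIH hnc (hB.sq_mem hNB) hz, hfix z (hlz z hz)⟩ y hy)
    rw [he]; exact Odd.pow (hB.card_Zr hIH hnc).2
  have heq : Nat.card (hB.cen (N * N)) / 2 = (Nat.card K - 1) * (e + 1) := by
    rw [hcard, hKodd, Nat.add_sub_cancel,
      show (2 * e + 1) * (2 * e + 1) = 2 * (2 * e * (e + 1)) + 1 by ring]
    omega
  rw [heq, pow_mul, hν1, one_pow] at hνp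
  exact h10 (hB.eq_zero_of_double (show (1 : R) + 1 = 0 by
    conv_lhs => arg 2; rw [hνp]
    exact add_neg_cancel 1))

end counterexample2

section structureGroup

/-- The linear map `x ↦ s x s`. -/
noncomputable def Ul (s : R) (hs : s ∈ B) (h0 : s ≠ 0) : B ≃ₗ[hB.Zr] B where
  toFun x := ⟨s * x * s, hB.tri s hs _ x.2⟩
  map_add' x y := Subtype.ext (by simp [mul_add, add_mul])
  map_smul' z x := Subtype.ext (by
    show s * ((z : R) * x) * s = (z : R) * (s * x * s)
    rw [← mul_assoc s, ← (z.2.2 s hs).eq]; simp [mul_assoc])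
  invFun x := ⟨Ring.inverse s * x * Ring.inverse s, hB.tri _ (hB.inverse_mem hs) _ x.2⟩
  left_inv x := by
    obtain ⟨u, rfl⟩ := hB.unit s hs h0
    ext; simp [mul_assoc]
  right_inv x := by
    obtain ⟨u, rfl⟩ := hB.unit s hs h0
    ext; simp [mul_assoc]

@[simp] theorem Ul_apply (s : R) (hs : s ∈ B) (h0 : s ≠ 0) (x : B) :
    (hB.Ul s hs h0 x : R) = s * x * s := rfl

/-- Multiplication by a central element. -/
noncomputable def Ml (z : R) (hz : z ∈ hB.Zr) (h0 : z ≠ 0) : B ≃ₗ[hB.Zr] B where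
  toFun x := ⟨z * x, hB.Zr_mul_mem hz x.2⟩
  map_add' x y := Subtype.ext (by simp [mul_add])
  map_smul' w x := Subtype.ext (by
    show z * ((w : R) * x) = (w : R) * (z * x)
    rw [← mul_assoc, (hz.2 w w.2.1).eq, mul_assoc])
  invFun x := ⟨Ring.inverse z * x, hB.mul_mem_of_commute (hB.inverse_mem hz.1) x.2 (by
    obtain ⟨u, rfl⟩ := hB.unit z hz.1 h0
    rw [Ring.inverse_unit]; exact (hz.2 x x.2).units_inv_left)⟩
  left_inv x := by
    obtain ⟨u, rfl⟩ := hB.unit z hz.1 h0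
    ext; simp
  right_inv x := by
    obtain ⟨u, rfl⟩ := hB.unit z hz.1 h0
    ext; simp

@[simp] theorem Ml_apply (z : R) (hz : z ∈ hB.Zr) (h0 : z ≠ 0) (x : B) :
    (hB.Ml z hz h0 x : R) = z * x := rfl

/-- The structure group. -/
noncomputable def Γ : Subgroup (B ≃ₗ[hB.Zr] B) :=
  Subgroup.closure ({g | ∃ s hs h0, g = hB.Ul s hs h0} ∪ {g | ∃ z hz h0, g = hB.Ml z hz h0})

theorem Ul_mem (s : R) (hs : s ∈ B) (h0 : s ≠ 0) : hB.Ul s hs h0 ∈ hB.Γ :=
  Subgroup.subset_closure (Or.inl ⟨s, hs, h0, rfl⟩)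

theorem Ml_mem (z : R) (hz : z ∈ hB.Zr) (h0 : z ≠ 0) : hB.Ml z hz h0 ∈ hB.Γ :=
  Subgroup.subset_closure (Or.inr ⟨z, hz, h0, rfl⟩)

theorem rep {g : B ≃ₗ[hB.Zr] B} (hg : g ∈ hB.Γ) :
    ∃ l m : Rˣ, (∀ z ∈ hB.Zr, Commute (l : R) z) ∧ ∀ x : B, (g x : R) = l * x * m := by
  refine Subgroup.closure_induction ?_ ⟨1, 1, fun z _ => by simp, fun x => by simp⟩ ?_ ?_ hg
  · rintro g (⟨s, hs, h0, rfl⟩ | ⟨z, hz, h0, rfl⟩)
    · obtain ⟨u, hu⟩ := hB.unit s hs h0
      exact ⟨u, u, fun w hw => hu ▸ (hw.2 s hs).symm, fun x => by rw [Ul_apply, hu]⟩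
    · obtain ⟨u, hu⟩ := hB.unit z hz.1 h0
      exact ⟨u, 1, fun w hw => hu ▸ (hw.2 z hz.1).symm, fun x => by simp [hu]⟩
  · rintro g h - - ⟨l, m, hl, hg⟩ ⟨l', m', hl', hh⟩
    exact ⟨l * l', m' * m, fun z hz => by rw [Units.val_mul]; exact (hl z hz).mul_left (hl' z hz),
      fun x => by rw [LinearEquiv.mul_apply, hg, hh]; simp [mul_assoc]⟩
  · rintro g - ⟨l, m, hl, hg⟩
    refine ⟨l⁻¹, m⁻¹, fun z hz => (hl z hz).units_inv_left, fun x => ?_⟩
    have := hg (g⁻¹ x)
    rw [show g (g⁻¹ x) = x from g.apply_symm_apply x] at this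
    rw [this]; simp [mul_assoc]

/-- Conjugation by the inversion map, with the effect on determinants. -/
theorem exists_theta {g : B ≃ₗ[hB.Zr] B} (hg : g ∈ hB.Γ) :
    ∃ g' ∈ hB.Γ, LinearEquiv.det g' = (LinearEquiv.det g)⁻¹ ∧
      ∀ x : B, (g' x : R) = Ring.inverse
        (g ⟨Ring.inverse (x : R), hB.inverse_mem x.2⟩ : R) := by
  refine Subgroup.closure_induction ?_ ⟨1, Subgroup.one_mem _, by simp, fun x => ?_⟩ ?_ ?_ hg
  · rintro g (⟨s, hs, h0, rfl⟩ | ⟨z, hz, h0, rfl⟩)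
    · refine ⟨_, inv_mem (hB.Ul_mem s hs h0), map_inv _ _, fun x => ?_⟩
      show Ring.inverse s * (x : R) * Ring.inverse s = Ring.inverse (s * Ring.inverse (x : R) * s)
      by_cases hx : (x : R) = 0
      · simp [hx]
      obtain ⟨u, rfl⟩ := hB.unit s hs h0
      obtain ⟨v, hv⟩ := hB.unit _ x.2 hx
      rw [← hv, Ring.inverse_unit, Ring.inverse_unit, ← Units.val_mul, ← Units.val_mul,
        ← Units.val_mul, ← Units.val_mul, Ring.inverse_unit]
      simp [mul_assoc]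
    · refine ⟨_, inv_mem (hB.Ml_mem z hz h0), map_inv _ _, fun x => ?_⟩
      show Ring.inverse z * (x : R) = Ring.inverse (z * Ring.inverse (x : R))
      by_cases hx : (x : R) = 0
      · simp [hx]
      obtain ⟨u, rfl⟩ := hB.unit z hz.1 h0
      obtain ⟨v, hv⟩ := hB.unit _ x.2 hx
      rw [← hv, Ring.inverse_unit, Ring.inverse_unit, ← Units.val_mul, ← Units.val_mul,
        Ring.inverse_unit, mul_inv_rev, inv_inv, Units.val_mul, Units.val_mul]
      exact (((hz.2 (x : R) x.2).units_inv_left)).eq.trans rfl |> fun h => by rw [hv]; exact h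
  · show (x : R) = Ring.inverse (Ring.inverse (x : R))
    rw [hB.inverse_inverse x.2]
  · rintro g h - - ⟨g', hg', hdg, hgx⟩ ⟨h', hh', hdh, hhx⟩
    refine ⟨g' * h', mul_mem hg' hh', by rw [map_mul, map_mul, hdg, hdh, mul_inv], fun x => ?_⟩
    rw [LinearEquiv.mul_apply, hgx, LinearEquiv.mul_apply]
    congr 3
    exact Subtype.ext (by simp only; rw [hhx, hB.inverse_inverse (Subtype.prop _)])
  · rintro g - ⟨g', hg', hdg, hgx⟩
    refine ⟨g'⁻¹, inv_mem hg', by rw [map_inv, map_inv, hdg], fun x => ?_⟩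
    set y : B := ⟨Ring.inverse (g⁻¹ ⟨Ring.inverse (x : R), hB.inverse_mem x.2⟩ : R),
      hB.inverse_mem (Subtype.prop _)⟩ with hy
    have h1 : g' y = x := Subtype.ext (by
      rw [hgx]
      have : (⟨Ring.inverse (y : R), hB.inverse_mem y.2⟩ : B) =
          g⁻¹ ⟨Ring.inverse (x : R), hB.inverse_mem x.2⟩ :=
        Subtype.ext (hB.inverse_inverse (Subtype.prop _))
      rw [this, show g (g⁻¹ (⟨Ring.inverse (x : R), hB.inverse_mem x.2⟩ : B)) = _ from
        g.apply_symm_apply _, hB.inverse_inverse x.2])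
    rw [← h1, show g'⁻¹ (g' y) = y from g'.symm_apply_apply y, h1]

/-- The elements of the structure group of determinant one. -/
noncomputable def Γ₁ : Subgroup (B ≃ₗ[hB.Zr] B) :=
  hB.Γ ⊓ (LinearEquiv.det : (B ≃ₗ[hB.Zr] B) →* hB.Zrˣ).ker

theorem exists_theta₁ (g : hB.Γ₁) : ∃ g' : hB.Γ₁, ∀ x : B, ((g' : B ≃ₗ[hB.Zr] B) x : R) =
    Ring.inverse ((g : B ≃ₗ[hB.Zr] B) ⟨Ring.inverse (x : R), hB.inverse_mem x.2⟩ : R) := by
  obtain ⟨g', hg', hd, hx⟩ := hB.exists_theta g.2.1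
  exact ⟨⟨g', hg', MonoidHom.mem_ker.2 (by rw [hd, MonoidHom.mem_ker.1 g.2.2, inv_one])⟩, hx⟩

theorem ext₁ {a b : hB.Γ₁} (h : ∀ x : B, ((a : B ≃ₗ[hB.Zr] B) x : R) = (b : B ≃ₗ[hB.Zr] B) x) :
    a = b :=
  Subtype.ext (LinearEquiv.ext fun x => Subtype.ext (h x))

/-- The automorphism of `Γ₁` induced by inversion. -/
noncomputable def theta : MulAut hB.Γ₁ :=
  have h : ∀ g, (hB.exists_theta₁ (hB.exists_theta₁ g).choose).choose = g := fun g => hB.ext₁
    fun x => by
      rw [(hB.exists_theta₁ _).choose_spec, (hB.exists_theta₁ g).choose_spec,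
        hB.inverse_inverse (Subtype.prop _)]
      congr 2
      exact Subtype.ext (hB.inverse_inverse x.2)
  { toFun := fun g => (hB.exists_theta₁ g).choose
    invFun := fun g => (hB.exists_theta₁ g).choose
    left_inv := h
    right_inv := h
    map_mul' := fun a b => hB.ext₁ fun x => by
      rw [(hB.exists_theta₁ (a * b)).choose_spec, Subgroup.coe_mul, LinearEquiv.mul_apply,
        Subgroup.coe_mul, LinearEquiv.mul_apply, (hB.exists_theta₁ a).choose_spec]
      congr 3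
      exact Subtype.ext (by
        simp only; rw [(hB.exists_theta₁ b).choose_spec, hB.inverse_inverse (Subtype.prop _)]) }

theorem theta_apply (g : hB.Γ₁) (x : B) :
    ((hB.theta g : B ≃ₗ[hB.Zr] B) x : R) =
      Ring.inverse ((g : B ≃ₗ[hB.Zr] B) ⟨Ring.inverse (x : R), hB.inverse_mem x.2⟩ : R) :=
  (hB.exists_theta₁ g).choose_spec x

theorem theta_theta (g : hB.Γ₁) : hB.theta (hB.theta g) = g := hB.theta.left_inv g

theorem conj_of_fix {g : B ≃ₗ[hB.Zr] B} (hg : g ∈ hB.Γ) (h1 : (g ⟨1, hB.one_mem⟩ : R) = 1) :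
    ∃ l : Rˣ, (∀ z ∈ hB.Zr, Commute (l : R) z) ∧
      ∀ x : B, (g x : R) = l * x * (↑l⁻¹ : R) := by
  obtain ⟨l, m, hl, h⟩ := hB.rep hg
  have := h ⟨1, hB.one_mem⟩
  rw [h1, mul_one, ← Units.val_mul] at this
  have hm : m = l⁻¹ := eq_inv_of_mul_eq_one_right (Units.ext (by simpa using this.symm))
  exact ⟨l, hl, fun x => by rw [h, hm]⟩

variable (hIH : ∀ C : AddSubgroup R, DS p C → C < B → ∀ a ∈ C, ∀ b ∈ C, Commute a b)
  (hnc : ¬ ∀ a ∈ B, ∀ b ∈ B, Commute a b)
include hIH hnc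

theorem transitive {v : R} (hv : v ∈ B) (h0 : v ≠ 0) :
    ∃ g ∈ hB.Γ, (g ⟨1, hB.one_mem⟩ : R) = v := by
  obtain ⟨z, hz, hz0, s, hs, hs0, hzs⟩ := hB.exists_root hIH hnc hv h0
  exact ⟨_, mul_mem (hB.Ml_mem z hz hz0) (hB.Ul_mem s hs hs0), by
    rw [LinearEquiv.mul_apply, Ml_apply, Ul_apply, mul_one, hzs]⟩

/-- The only involution is `-1`. -/
theorem involution_eq {g : B ≃ₗ[hB.Zr] B} (hg : g ∈ hB.Γ) (hgg : g * g = 1) (hne : g ≠ 1)
    (x : B) : g x = -x := by
  have hg2 : ∀ y : B, g (g y) = y := fun y => by rw [← LinearEquiv.mul_apply, hgg]; rfl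
  by_contra hx
  set y := x + g x with hy
  have hy0 : (y : R) ≠ 0 := fun h => hx (eq_neg_of_add_eq_zero_right (Subtype.ext h))
  have hgy : g y = y := by rw [hy, map_add, hg2, add_comm]
  obtain ⟨t, ht, hty⟩ := hB.transitive hIH hnc y.2 hy0
  have hty' : t ⟨1, hB.one_mem⟩ = y := Subtype.ext hty
  set h := t⁻¹ * g * t with hh
  have hhΓ : h ∈ hB.Γ := mul_mem (mul_mem (inv_mem ht) hg) ht
  have hh1 : (h ⟨1, hB.one_mem⟩ : R) = 1 := by
    rw [hh, LinearEquiv.mul_apply, LinearEquiv.mul_apply, hty', hgy, ← hty']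
    rw [show t⁻¹ (t (⟨1, hB.one_mem⟩ : B)) = ⟨1, hB.one_mem⟩ from t.symm_apply_apply _]
  obtain ⟨l, hlz, hl⟩ := hB.conj_of_fix hhΓ hh1
  have hhh : h * h = 1 := by
    rw [show h * h = t⁻¹ * (g * g) * t by simp [hh, mul_assoc], hgg]; simp
  have hσ := hB.no_sigma hIH hnc l hlz (fun w hw => hl ⟨w, hw⟩ ▸ (h ⟨w, hw⟩).2) (fun w hw => by
    have h' : (h (h ⟨w, hw⟩) : R) = w := by rw [← LinearEquiv.mul_apply, hhh]; rfl
    rwa [hl, hl] at h')
  have h1 : h = 1 := LinearEquiv.ext fun w => Subtype.ext ((hl w).trans (hσ w w.2))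
  rw [hh, mul_assoc, inv_mul_eq_one] at h1
  exact hne (mul_eq_right.1 h1.symm)

theorem card_Γ₁_odd : ¬ 2 ∣ Nat.card hB.Γ₁ := by
  intro h
  have := hB.fin
  have : Finite (B ≃ₗ[hB.Zr] B) :=
    Finite.of_injective (fun e : B ≃ₗ[hB.Zr] B => (e : B → B)) DFunLike.coe_injective
  have : Fact (Nat.Prime 2) := ⟨Nat.prime_two⟩
  obtain ⟨⟨g, hg, hdet⟩, hord⟩ := exists_prime_orderOf_dvd_card' 2 h
  rw [← Subgroup.orderOf_coe] at hord
  simp only at hord
  have hg1 : g ≠ 1 := fun e => by rw [e, orderOf_one] at hord; omega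
  have hgg : g * g = 1 := by rw [← pow_two, ← hord, pow_orderOf_eq_one]
  have hlin : (g : B →ₗ[hB.Zr] B) = (-1 : hB.Zr) • (LinearMap.id : B →ₗ[hB.Zr] B) :=
    LinearMap.ext fun x => by
      show g x = (-1 : hB.Zr) • x
      rw [hB.involution_eq hIH hnc hg hgg hg1 x, neg_smul, one_smul]
  obtain ⟨D, hD, hDodd, -⟩ := hB.exists_degree hIH hnc
  letI : Field hB.Zr := (hB.Zr_isField hnc).toField
  have := hB.finite_sub (S := hB.Zr) (fun y hy => hy.1)
  cases nonempty_fintype hB.Zr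
  have hrk : Module.finrank hB.Zr B = D := by
    have h2 := Module.natCard_eq_pow_finrank (K := hB.Zr) (V := B)
    rw [hD] at h2
    exact (Nat.pow_right_injective (by have := (hB.card_Zr hIH hnc).1; omega) h2).symm
  have hd : LinearMap.det (g : B →ₗ[hB.Zr] B) = 1 := by
    rw [← LinearEquiv.coe_det, MonoidHom.mem_ker.1 hdet, Units.val_one]
  rw [hlin, LinearMap.det_smul, LinearMap.det_id, mul_one, hrk, hDodd.neg_one_pow] at hd
  exact one_ne_zero_of hnc (hB.eq_zero_of_double (by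
    have h' := congrArg Subtype.val hd
    calc (1 : R) + 1 = 1 + -1 := by
          congr 1
          simpa using h'.symm
      _ = 0 := add_neg_cancel 1))

theorem exists_order {r D : ℕ} (hr : r.Prime) (hD : Nat.card B = Nat.card hB.Zr ^ D)
    (hd : r ∣ Nat.card hB.Zr ^ D - 1) (hndvd : ¬ r ∣ Nat.card hB.Zr - 1) :
    ∃ w ∈ B, w ^ r = 1 ∧ w ≠ 1 := by
  classical
  have h10 := one_ne_zero_of hnc
  have := hB.fin
  have : Finite (B ≃ₗ[hB.Zr] B) :=
    Finite.of_injective (fun e : B ≃ₗ[hB.Zr] B => (e : B → B)) DFunLike.coe_injective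
  have : Fact r.Prime := ⟨hr⟩
  have : Fact (Nat.Prime 2) := ⟨Nat.prime_two⟩
  let o : B := ⟨1, hB.one_mem⟩
  -- `r` divides the index of the stabiliser of `1`
  have horb : MulAction.orbit hB.Γ o = {0}ᶜ := by
    ext x
    constructor
    · rintro ⟨g, rfl⟩ h0
      exact h10 (congrArg Subtype.val ((LinearEquiv.map_eq_zero_iff (g : B ≃ₗ[hB.Zr] B)).1
        (Set.mem_singleton_iff.1 h0) : o = 0))
    · intro hx
      obtain ⟨g, hg, hgx⟩ := hB.transitive hIH hnc x.2
        (fun h => hx (Set.mem_singleton_iff.2 (Subtype.ext h)))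
      exact ⟨⟨g, hg⟩, Subtype.ext hgx⟩
  set S1 := (hB.Γ₁).subgroupOf hB.Γ with hS1
  have hidx : r ∣ (MulAction.stabilizer hB.Γ₁ o).index := by
    have hΓ : r ∣ (MulAction.stabilizer hB.Γ o).index := by
      rw [MulAction.index_stabilizer, horb, Set.ncard_compl, Set.ncard_singleton, hD]
      exact hd
    have hle : S1 ⊓ MulAction.stabilizer hB.Γ o ≤ MulAction.stabilizer hB.Γ o := inf_le_right
    have h1 : r ∣ (S1 ⊓ MulAction.stabilizer hB.Γ o).index :=
      hΓ.trans (Subgroup.index_dvd_of_le hle)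
    rw [← Subgroup.relIndex_mul_index (inf_le_left : S1 ⊓ MulAction.stabilizer hB.Γ o ≤ S1)] at h1
    have hS1idx : ¬ r ∣ S1.index := by
      intro hr1
      let χ : hB.Γ →* hB.Zrˣ := LinearEquiv.det.comp hB.Γ.subtype
      have hS1χ : S1 = χ.ker := by
        ext g
        simp [hS1, χ, Subgroup.mem_subgroupOf, Γ₁, MonoidHom.mem_ker, g.2]
      letI : Field hB.Zr := (hB.Zr_isField hnc).toField
      have := hB.finite_sub (S := hB.Zr) (fun y hy => hy.1)
      have hu : Nat.card hB.Zrˣ = Nat.card hB.Zr - 1 := Nat.card_units _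
      rw [hS1χ, Subgroup.index_ker] at hr1
      exact hndvd (hu ▸ hr1.trans (Subgroup.card_subgroup_dvd_card _))
    have h2 := (hr.dvd_mul.1 h1).resolve_right hS1idx
    rw [Subgroup.relIndex] at h2
    have hle1 : hB.Γ₁ ≤ hB.Γ := inf_le_left
    have e : ((S1 ⊓ MulAction.stabilizer hB.Γ o).subgroupOf S1).index =
        (MulAction.stabilizer hB.Γ₁ o).index := by
      rw [show (MulAction.stabilizer hB.Γ₁ o) = ((S1 ⊓ MulAction.stabilizer hB.Γ o).subgroupOf
        S1).comap (Subgroup.subgroupOfEquivOfLe hle1).symm.toMonoidHom by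
          ext g
          simp only [Subgroup.mem_comap, Subgroup.mem_subgroupOf, Subgroup.mem_inf,
            MulAction.mem_stabilizer_iff]
          exact ⟨fun h => ⟨g.2, h⟩, fun h => h.2⟩,
        Subgroup.index_comap_of_surjective _ (Subgroup.subgroupOfEquivOfLe hle1).symm.surjective]
    rwa [e] at h2
  have hinvone : (⟨Ring.inverse (o : R), hB.inverse_mem o.2⟩ : B) = o :=
    Subtype.ext (Ring.inverse_one R)
  -- `θ` fixes a Sylow subgroup
  have : Fintype (Sylow r hB.Γ₁) := Fintype.ofFinite _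
  have hodd : ¬ 2 ∣ Fintype.card (Sylow r hB.Γ₁) := fun h => by
    refine hB.card_Γ₁_odd hIH hnc (h.trans ?_)
    rw [← Nat.card_eq_fintype_card]
    exact ((default : Sylow r hB.Γ₁).card_dvd_index).trans (Subgroup.index_dvd_card _)
  have hθθ : hB.theta * hB.theta = 1 := MulEquiv.ext hB.theta_theta
  obtain ⟨S, hS⟩ := Equiv.Perm.exists_fixed_point_of_prime (p := 2) (n := 1) hodd
    (σ := MulAction.toPerm hB.theta) (by
      rw [pow_one, sq]
      exact Equiv.ext fun S => by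
        rw [Equiv.Perm.mul_apply, MulAction.toPerm_apply, MulAction.toPerm_apply, ← mul_smul,
          hθθ, one_smul, Equiv.Perm.one_apply])
  have hθS : ∀ g ∈ (S : Subgroup hB.Γ₁), hB.theta g ∈ (S : Subgroup hB.Γ₁) := fun g hg => by
    have : (hB.theta • (S : Subgroup hB.Γ₁)) = (S : Subgroup hB.Γ₁) := congrArg Sylow.toSubgroup hS
    have h' := Subgroup.smul_mem_pointwise_smul g hB.theta _ hg
    rw [this] at h'
    exact h'
  have hoddord : ∀ g : hB.Γ₁, g * g = 1 → g = 1 := fun g hg => by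
    by_contra hne
    exact hB.card_Γ₁_odd hIH hnc (by
      rw [← orderOf_eq_prime (p := 2) (x := g) (by rw [pow_two]; exact hg) hne]
      exact orderOf_dvd_natCard g)
  obtain ⟨g, hgS, hg1⟩ : ∃ g ∈ (S : Subgroup hB.Γ₁), hB.theta g ≠ g := by
    by_contra hall
    push Not at hall
    refine S.not_dvd_index (hidx.trans (Subgroup.index_dvd_of_le fun g hg => ?_))
    set v : B := (g : B ≃ₗ[hB.Zr] B) o with hv
    have hvv : Ring.inverse (v : R) = v := by
      have := hB.theta_apply g o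
      rw [hall g hg, hinvone] at this
      exact this.symm
    have hv0 : (v : R) ≠ 0 := fun h => h10 (congrArg Subtype.val
      ((LinearEquiv.map_eq_zero_iff (g : B ≃ₗ[hB.Zr] B)).1 (Subtype.ext h : v = 0) : o = 0))
    obtain ⟨u, hu⟩ := hB.unit _ v.2 hv0
    have hsq : (v : R) * v = 1 := by
      nth_rewrite 1 [← hvv]
      rw [← hu, Ring.inverse_unit, Units.inv_mul]
    have hprod : ((v : R) - 1) * ((v : R) + 1) = 0 := by
      rw [sub_mul, mul_add, mul_add, hsq, mul_one, one_mul, one_mul]; abel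
    rcases hB.eq_zero_or (sub_mem v.2 hB.one_mem) hprod with h | h
    · exact Subtype.ext (sub_eq_zero.1 h)
    · have hvo : (g : B ≃ₗ[hB.Zr] B) o = -o := Subtype.ext (eq_neg_of_add_eq_zero_left h)
      have hg2 : g ^ 2 ∈ MulAction.stabilizer hB.Γ₁ o := by
        rw [MulAction.mem_stabilizer_iff, pow_two, mul_smul]
        show (g : B ≃ₗ[hB.Zr] B) ((g : B ≃ₗ[hB.Zr] B) o) = o
        rw [hvo, map_neg, hvo, neg_neg]
      obtain ⟨e, he⟩ : Odd (orderOf g) := Nat.not_even_iff_odd.1 fun he =>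
        hB.card_Γ₁_odd hIH hnc ((even_iff_two_dvd.1 he).trans (orderOf_dvd_natCard g))
      have : g = (g ^ 2) ^ (e + 1) := by
        rw [← pow_mul, show 2 * (e + 1) = orderOf g + 1 by omega, pow_succ, pow_orderOf_eq_one,
          one_mul]
      rw [this]; exact _root_.pow_mem hg2 _
  -- an element inverted by `θ`
  set h := g⁻¹ * hB.theta g with hh
  have hhS : h ∈ (S : Subgroup hB.Γ₁) := mul_mem (inv_mem hgS) (hθS g hgS)
  have hθh : hB.theta h = h⁻¹ := by
    rw [hh, map_mul, map_inv, hB.theta_theta, mul_inv_rev, inv_inv]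
  have hh1 : h ≠ 1 := fun e => hg1 (inv_mul_eq_one.1 e).symm
  set h₀ : B ≃ₗ[hB.Zr] B := (h : B ≃ₗ[hB.Zr] B) with hh₀
  set v : R := (h₀ o : R) with hv
  have hvB : v ∈ B := (h₀ o).2
  have hv0 : v ≠ 0 := fun e => h10 (congrArg Subtype.val
    ((LinearEquiv.map_eq_zero_iff h₀).1 (Subtype.ext e : h₀ o = 0) : o = 0))
  obtain ⟨z, hz, hz0, s, hs, hs0, hzs⟩ := hB.exists_root hIH hnc hvB hv0
  set u : B ≃ₗ[hB.Zr] B := hB.Ml z hz hz0 * hB.Ul s hs hs0 with hu
  have hu_apply : ∀ x : B, (u x : R) = z * (s * x * s) := fun x => rfl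
  -- `u⁻¹ h` fixes `1`, so it commutes with inversion
  have hu1 : u o = h₀ o := Subtype.ext (by rw [hu_apply]; simp [o, hzs, hv])
  obtain ⟨l, -, hl⟩ := hB.conj_of_fix (g := u⁻¹ * h₀)
    (mul_mem (inv_mem (mul_mem (hB.Ml_mem z hz hz0) (hB.Ul_mem s hs hs0))) h.2.1) (by
      show (u⁻¹ (h₀ o) : R) = 1
      rw [← hu1, show u⁻¹ (u o) = o from u.symm_apply_apply o])
  obtain ⟨uz, huz⟩ := hB.unit z hz.1 hz0
  obtain ⟨us, hus⟩ := hB.unit s hs hs0
  have hsq : ∀ x : B, (h₀ (h₀ x) : R) = u (u x) := by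
    intro x
    set y := h₀ x with hy
    have hx : h₀.symm y = x := h₀.symm_apply_apply x
    have hinvh : ∀ w : B, ((h⁻¹ : hB.Γ₁) : B ≃ₗ[hB.Zr] B) w = h₀.symm w := fun w => rfl
    have key : ∀ w : B, (h₀ ⟨Ring.inverse (w : R), hB.inverse_mem w.2⟩ : R) =
        Ring.inverse (h₀.symm w : R) := fun w => by
      have := hB.theta_apply h w
      rw [hθh, hinvh] at this
      rw [this, hB.inverse_inverse (Subtype.prop _)]
    -- `h = u ∘ conj l` and both invert under inversion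
    have hh' : ∀ w : B, (h₀ w : R) = z * (s * ((l : R) * w * (↑l⁻¹ : R)) * s) := fun w => by
      rw [← hl w, ← hu_apply]
      exact congrArg Subtype.val (u.apply_symm_apply (h₀ w)).symm
    by_cases hyz : (y : R) = 0
    · have : x = 0 := (LinearEquiv.map_eq_zero_iff h₀).1 (Subtype.ext hyz)
      simp [this, hy]
    obtain ⟨w, hw⟩ := hB.unit _ y.2 hyz
    have hx0 : (x : R) ≠ 0 := fun e => hyz (by
      rw [hy, show x = 0 from Subtype.ext e, map_zero]; rfl)
    obtain ⟨x', hx'⟩ := hB.unit _ x.2 hx0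
    have h2 := key y
    rw [hx, hh'] at h2
    simp only at h2
    rw [← hw, ← hx', Ring.inverse_unit, Ring.inverse_unit, ← huz, ← hus, ← Units.val_mul,
      ← Units.val_mul, ← Units.val_mul, ← Units.val_mul, ← Units.val_mul] at h2
    have h3 := Units.ext h2
    have h4 : (y : R) = z * (s * ((l : R) * x * (↑l⁻¹ : R)) * s) := hh' x
    rw [hu_apply, hu_apply, hh', ← hw, ← huz, ← hus, ← hx']
    have hcomm : ∀ a : Rˣ, (a : R) ∈ B → uz * a = a * uz := fun a ha => Units.ext (by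
      rw [Units.val_mul, Units.val_mul, huz]; exact (hz.2 a ha).eq)
    simp only [← Units.val_mul]
    congr 1
    have h5 : w⁻¹ = l⁻¹ * us⁻¹ * uz⁻¹ * x'⁻¹ * us⁻¹ * l := by
      calc w⁻¹ = l⁻¹ * us⁻¹ * uz⁻¹ * (uz * (us * (l * w⁻¹ * l⁻¹) * us)) * us⁻¹ * l := by
            simp [mul_assoc]
        _ = _ := by rw [h3]
    have h6 : w = l⁻¹ * us * x' * uz * us * l := by
      rw [← inv_inv w, h5]; simp [mul_assoc]
    rw [h6]
    calc uz * (us * (l * (l⁻¹ * us * x' * uz * us * l) * l⁻¹) * us)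
        = uz * (us * (us * (x' * uz) * us) * us) := by simp [mul_assoc]
      _ = _ := by
        rw [← hcomm x' (hx' ▸ x.2)]; simp only [mul_assoc]
        rw [← mul_assoc us uz, ← hcomm us (hus ▸ hs), mul_assoc]
  have hUU : ∀ x : B, (u (u x) : R) = v * x * v := fun x => by
    rw [hu_apply, hu_apply, ← hzs]
    have c1 : Commute z s := hz.2 s hs
    have c2 : Commute z (x : R) := hz.2 x x.2
    simp only [mul_assoc]
    congr 1
    rw [← mul_assoc s z, ← c1.eq, mul_assoc]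
    rw [← mul_assoc z s, c1.eq, mul_assoc s z]
    congr 1
    rw [← mul_assoc z s, c1.eq, mul_assoc s z]
    congr 1
    rw [← mul_assoc (x : R) z, ← c2.eq, mul_assoc]
  obtain ⟨j, hj⟩ := S.isPGroup' ⟨h, hhS⟩
  have hj' : h ^ r ^ j = 1 := congrArg Subtype.val hj
  have hpow : ∀ n : ℕ, (((h * h) ^ n : hB.Γ₁) : B ≃ₗ[hB.Zr] B) o = ⟨(v * v) ^ n, by
      rw [← pow_two, ← pow_mul]; exact hB.pow_mem hvB _⟩ := by
    intro n
    induction n with
    | zero => exact Subtype.ext (by simp [o])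
    | succ n ih =>
      apply Subtype.ext
      rw [pow_succ', Subgroup.coe_mul, LinearEquiv.mul_apply, ih]
      show (h₀ (h₀ _) : R) = _
      rw [hsq, hUU]
      show v * (v * v) ^ n * v = (v * v) ^ (n + 1)
      rw [pow_succ', mul_assoc v, ← ((Commute.refl v).mul_right (Commute.refl v)).pow_right n |>.eq,
        ← mul_assoc]
  have hw1 : v * v ≠ 1 := by
    intro e
    have hv1 : (v - 1) * (v + 1) = 0 := by
      rw [sub_mul, mul_add, mul_add, e, mul_one, one_mul, one_mul]; abel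
    refine hh1 (hoddord h (hB.ext₁ fun x => ?_))
    show (h₀ (h₀ x) : R) = x
    rw [hsq, hUU]
    rcases hB.eq_zero_or (sub_mem hvB hB.one_mem) hv1 with h' | h'
    · simp [sub_eq_zero.1 h']
    · simp [eq_neg_of_add_eq_zero_left h']
  have hwr : (v * v) ^ r ^ j = 1 := by
    have := congrArg Subtype.val (hpow (r ^ j))
    rw [(Commute.refl h).mul_pow, hj', one_mul] at this
    exact this.symm.trans rfl
  obtain ⟨i, hij, hi⟩ := (Nat.dvd_prime_pow hr).1 (orderOf_dvd_of_pow_eq_one hwr)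
  rcases i with - | i
  · exact absurd (orderOf_eq_one_iff.1 (by simpa using hi)) hw1
  refine ⟨(v * v) ^ r ^ i, by rw [← pow_two, ← pow_mul]; exact hB.pow_mem hvB _, ?_, ?_⟩
  · rw [← pow_mul, ← pow_succ, ← hi, pow_orderOf_eq_one]
  · intro e
    have h := Nat.le_of_dvd (pow_pos hr.pos i) (orderOf_dvd_of_pow_eq_one e)
    rw [hi] at h
    have : r ^ i < r ^ (i + 1) := Nat.pow_lt_pow_right hr.one_lt (by omega)
    omega

theorem absurd' : False := by
  have := hB.fin
  have h10 := one_ne_zero_of hnc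
  obtain ⟨hq3, hqodd⟩ := hB.card_Zr hIH hnc
  obtain ⟨D, hD, hDodd, hD1⟩ := hB.exists_degree hIH hnc
  obtain ⟨r, hr, hrd, hprim⟩ := CharP.Zsigmondy.zsigmondy (a := Nat.card hB.Zr) (n := D)
    (by omega) hD1 (fun h => by omega) (fun h => by obtain ⟨e, he⟩ := hDodd; omega)
  have hndvd : ¬ r ∣ Nat.card hB.Zr - 1 := fun h => hprim 1 one_pos hD1 (by rwa [pow_one])
  obtain ⟨w, hw, hwr, hw1⟩ := hB.exists_order hIH hnc hr hD hrd hndvd
  have : Fact r.Prime := ⟨hr⟩
  have hord : orderOf w = r := orderOf_eq_prime hwr hw1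
  have hw0 : w ≠ 0 := fun e => h10 (by rw [← hwr, e, zero_pow hr.ne_zero])
  by_cases hwz : w ∈ hB.Zr
  · exact hndvd (hord ▸ orderOf_dvd_of_pow_eq_one (hB.Zr_CF.pow_card hB h10 hwz hw0))
  · have hCF := hB.cen_CF hIH hw hwz
    obtain ⟨d, hd, hdodd, -⟩ := hB.CF_odd_degree hIH hnc hCF
      (fun z hz => hB.mem_cen_Zr hIH hnc hw hz)
    have hlt : Nat.card (hB.cen w) < Nat.card B := by
      refine Set.ncard_lt_ncard (SetLike.coe_ssubset_coe.2 ?_) (Set.toFinite (B : Set R))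
      exact lt_of_le_of_ne (fun x hx => hx.1) fun e => hwz ⟨hw, fun y hy => (e.ge hy).2⟩
    rw [hd, hD] at hlt
    exact hprim d (Odd.pos hdodd) ((Nat.pow_lt_pow_iff_right (by omega)).1 hlt)
      (hord ▸ hd ▸ orderOf_dvd_of_pow_eq_one (hCF.pow_card hB h10 ⟨hw, Commute.refl w⟩ hw0))

end structureGroup

end DS

/-- A finite division set of odd characteristic is commutative. -/
theorem DS.commute {p : ℕ} {B : AddSubgroup R} (hB : DS p B) :
    ∀ a ∈ B, ∀ b ∈ B, Commute a b := by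
  suffices h : ∀ n (B : AddSubgroup R), DS p B → Nat.card B = n → ∀ a ∈ B, ∀ b ∈ B, Commute a b from
    h _ B hB rfl
  intro n
  induction n using Nat.strong_induction_on with
  | _ n ih =>
    intro B hB hn
    have := hB.fin
    by_contra hnc
    refine hB.absurd' (fun C hC hlt => ih (Nat.card C) ?_ C hC rfl) hnc
    rw [← hn]
    exact Set.ncard_lt_ncard (SetLike.coe_ssubset_coe.2 hlt) (Set.toFinite (B : Set R))

end Cfsg.Agent.OstromWagner
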