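import Cfsg.Agent.Lib.OstromWagner.Moufang
import Cfsg.Agent.Lib.OstromWagner.Jordan
import Cfsg.Agent.Lib.TISpread.Jordan

/-!
Coordinates of a finite plane whose elation groups are all full.
-/

set_option autoImplicit false
set_option linter.unusedSectionVars false

namespace Cfsg.Agent.OstromWagner

open Configuration

universe uG uP uL

/-- A copy of `Fin k` without instances. -/
structure FT (k : ℕ) : Type where
  /-- the index -/
  idx : Fin k

/-- `FT k` as `Fin k`. -/
def ftEquiv (k : ℕ) : FT k ≃ Fin k := ⟨FT.idx, FT.mk, fun _ => rfl, fun _ => rfl⟩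

/-- An additively closed subset containing zero, in exponent `p`. -/
def addClosedSubgroup {A : Type*} [AddCommGroup A] (s : Set A) {p : ℕ} (hp : 0 < p)
    (hexp : ∀ a : A, p • a = 0) (h0 : (0 : A) ∈ s) (hadd : ∀ a ∈ s, ∀ b ∈ s, a + b ∈ s) :
    AddSubgroup A where
  carrier := s
  zero_mem' := h0
  add_mem' ha hb := hadd _ ha _ hb
  neg_mem' {a} ha := by
    have h : ∀ n : ℕ, n • a ∈ s := fun n => by
      induction n with
      | zero => simpa using h0
      | succ n ih => rw [succ_nsmul]; exact hadd _ ih _ ha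
    obtain ⟨k, rfl⟩ : ∃ k, p = k + 1 := ⟨p - 1, by omega⟩
    have hk := hexp a
    rw [succ_nsmul] at hk
    rw [← eq_neg_of_add_eq_zero_left hk]
    exact h k

/-- Two additively closed sets of units, inverse to each other, are closed under `a * b * a`. -/
theorem tri_of_pair {R : Type*} [Ring R] {S S' : AddSubgroup R} (h1 : (1 : R) ∈ S) [Finite S']
    [Finite S] (hS : ∀ a ∈ S, a ≠ 0 → ∃ u : Rˣ, (u : R) = a ∧ (↑u⁻¹ : R) ∈ S')
    (hS' : ∀ a ∈ S', a ≠ 0 → ∃ u : Rˣ, (u : R) = a ∧ (↑u⁻¹ : R) ∈ S) :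
    ∀ a ∈ S, ∀ b ∈ S, a * b * a ∈ S := by
  classical
  have step : ∀ a ∈ S, ∀ b ∈ S', a * b * a ∈ S := by
    intro a ha b hb
    by_cases ha0 : a = 0
    · simp [ha0]
    by_cases hb0 : b = 0
    · simp [hb0]
    obtain ⟨u, rfl, hu⟩ := hS a ha ha0
    obtain ⟨v, rfl, hv⟩ := hS' b hb hb0
    by_cases hc : (↑v⁻¹ : R) - u = 0
    · rw [← sub_eq_zero.1 hc, Units.inv_mul, one_mul]; exact hv
    obtain ⟨w, hw, hw'⟩ := hS _ (sub_mem hv ha) hc
    have hd : ((u⁻¹ * v⁻¹ * w⁻¹ : Rˣ) : R) = (↑u⁻¹ : R) + (↑w⁻¹ : R) := by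
      have e : (↑v⁻¹ : R) = (w : R) + u := by rw [hw, sub_add_cancel]
      rw [Units.val_mul, Units.val_mul, e, mul_add, add_mul, Units.inv_mul, one_mul,
        Units.mul_inv_cancel_right]
    have hdS : ((u⁻¹ * v⁻¹ * w⁻¹ : Rˣ) : R) ∈ S' := hd ▸ add_mem hu hw'
    have hne : ((u⁻¹ * v⁻¹ * w⁻¹ : Rˣ) : R) ≠ 0 := fun e => ha0 (by
      calc (u : R) = ((u * v * u : Rˣ) : R) * ((u⁻¹ * v⁻¹ * w⁻¹ : Rˣ) : R) * (w : R) := by
            simp [mul_assoc]
        _ = 0 := by rw [e, mul_zero, zero_mul])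
    obtain ⟨z, hz, hz'⟩ := hS' _ hdS hne
    rw [Units.ext hz, mul_inv_rev, mul_inv_rev, inv_inv, inv_inv, inv_inv] at hz'
    have := sub_mem ha hz'
    rwa [show (u : R) - ((w * (v * u) : Rˣ) : R) = (u : R) * v * u by
      rw [Units.val_mul, Units.val_mul, hw, sub_mul, ← mul_assoc (↑v⁻¹ : R), Units.inv_mul, one_mul,
        sub_sub_cancel, mul_assoc]] at this
  have hle : S' ≤ S := fun b hb => by simpa using step 1 h1 b hb
  have hle' : S ≤ S' := by
    have hex : ∀ a : S, ∃ b : S', ∀ (_ : (a : R) ≠ 0), (a : R) * b = 1 := fun a => by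
      by_cases ha : (a : R) = 0
      · exact ⟨0, fun h => absurd ha h⟩
      · obtain ⟨u, hu, hu'⟩ := hS a a.2 ha
        exact ⟨⟨_, hu'⟩, fun _ => by rw [← hu]; exact u.mul_inv⟩
    choose f hf using hex
    let g : S → S' := fun a => if (a : R) = 0 then 0 else f a
    have hinj : Function.Injective g := by
      intro a b e
      by_cases ha : (a : R) = 0 <;> by_cases hb : (b : R) = 0
      · exact Subtype.ext (ha.trans hb.symm)
      · simp only [g, ha, hb, if_true, if_false] at e
        have := hf b hb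
        rw [← e] at this
        simp only [ZeroMemClass.coe_zero, mul_zero] at this
        exact absurd (by rw [← mul_one (b : R), ← this, mul_zero]) hb
      · simp only [g, ha, hb, if_true, if_false] at e
        have := hf a ha
        rw [e] at this
        simp only [ZeroMemClass.coe_zero, mul_zero] at this
        exact absurd (by rw [← mul_one (a : R), ← this, mul_zero]) ha
      · simp only [g, ha, hb, if_false] at e
        obtain ⟨u, hu, -⟩ := hS a a.2 ha
        obtain ⟨v, hv, -⟩ := hS b b.2 hb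
        have h1 := hf a ha
        have h2 := hf b hb
        rw [← hu] at h1
        rw [← hv, ← e, Units.mul_eq_one_iff_inv_eq.1 h1 |>.symm] at h2
        apply Subtype.ext
        rw [← hu, ← hv]
        exact congrArg Units.val (mul_inv_eq_one.1 (Units.ext (by
          rw [Units.val_mul, h2, Units.val_one]))).symm
    have heq : (S' : Set R) = S := Set.eq_of_subset_of_ncard_le hle
      (Nat.card_le_card_of_injective g hinj) (Set.toFinite _)
    exact fun a ha => heq.ge ha
  exact fun a ha b hb => step a ha b (hle' hb)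

/-- From coordinates to the statement. -/
theorem pg_of_coord {P : Type uP} {L : Type uL} [Membership P L] [ProjectivePlane P L] {F : Type}
    [Field F] (toP : (F × F) ⊕ (F ⊕ Unit) → P) (hbij : Function.Bijective toP)
    (hlines : ∀ m : L, ∃ a₀ a₁ a₂ : F, ¬(a₀ = 0 ∧ a₁ = 0 ∧ a₂ = 0) ∧
      (∀ f g, toP (Sum.inl (f, g)) ∈ m ↔ a₀ * f + a₁ * g + a₂ = 0) ∧
      (∀ f, toP (Sum.inr (Sum.inl f)) ∈ m ↔ a₀ + a₁ * f = 0) ∧
      (toP (Sum.inr (Sum.inr ())) ∈ m ↔ a₁ = 0)) :
    ∃ φ : P ≃ Projectivization F (Fin 3 → F),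
      (∀ l : L, ∃ W : Submodule F (Fin 3 → F), Module.finrank F W = 2 ∧
          ∀ p : P, p ∈ l ↔ (φ p).submodule ≤ W) ∧
      (∀ W : Submodule F (Fin 3 → F), Module.finrank F W = 2 →
          ∃ l : L, ∀ p : P, p ∈ l ↔ (φ p).submodule ≤ W) := by
  classical
  let vec : (F × F) ⊕ (F ⊕ Unit) → (Fin 3 → F) :=
    Sum.elim (fun z => ![z.1, z.2, 1]) (Sum.elim (fun f => ![1, f, 0]) (fun _ => ![0, 1, 0]))
  have hvec : ∀ z, vec z ≠ 0 := by
    rintro (⟨f, g⟩ | f | u) h
    · exact one_ne_zero (α := F) (congrFun h 2)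
    · exact one_ne_zero (α := F) (congrFun h 0)
    · exact one_ne_zero (α := F) (congrFun h 1)
  let toJ : (F × F) ⊕ (F ⊕ Unit) → Projectivization F (Fin 3 → F) :=
    fun z => Projectivization.mk F (vec z) (hvec z)
  have hbijJ : Function.Bijective toJ := by
    constructor
    · intro z z' h
      obtain ⟨a, ha⟩ := (Projectivization.mk_eq_mk_iff' _ _ _ _ _).1 h
      have h0 : a * vec z' 0 = vec z 0 := congrFun ha 0
      have h1 : a * vec z' 1 = vec z 1 := congrFun ha 1
      have h2 : a * vec z' 2 = vec z 2 := congrFun ha 2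
      rcases z with ⟨f, g⟩ | f | u <;> rcases z' with ⟨f', g'⟩ | f' | u'
      all_goals simp [vec] at h0 h1 h2
      all_goals first
        | (subst h2; simp only [one_mul] at h0 h1; rw [h0, h1])
        | (subst h0; simp only [one_mul] at h1; rw [h1])
        | rfl
        | (exfalso; simp_all)
    · intro x
      induction x using Projectivization.ind with
      | _ v hv =>
        by_cases h2 : v 2 = 0
        · by_cases h0 : v 0 = 0
          · have h1 : v 1 ≠ 0 := fun h1 => hv (funext fun i => by fin_cases i <;> assumption)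
            refine ⟨Sum.inr (Sum.inr ()), (Projectivization.mk_eq_mk_iff' _ _ _ _ _).2
              ⟨(v 1)⁻¹, funext fun i => ?_⟩⟩
            fin_cases i <;> simp [vec, h0, h2, h1]
          · refine ⟨Sum.inr (Sum.inl (v 1 / v 0)), (Projectivization.mk_eq_mk_iff' _ _ _ _ _).2
              ⟨(v 0)⁻¹, funext fun i => ?_⟩⟩
            fin_cases i <;> simp [vec, h0, h2, div_eq_inv_mul]
        · refine ⟨Sum.inl (v 0 / v 2, v 1 / v 2), (Projectivization.mk_eq_mk_iff' _ _ _ _ _).2
            ⟨(v 2)⁻¹, funext fun i => ?_⟩⟩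
          fin_cases i <;> simp [vec, h2, div_eq_inv_mul]
  let φ : P ≃ Projectivization F (Fin 3 → F) :=
    (Equiv.ofBijective toP hbij).symm.trans (Equiv.ofBijective toJ hbijJ)
  have hφmem : ∀ z (U : Submodule F (Fin 3 → F)),
      (φ (toP z)).submodule ≤ U ↔ vec z ∈ U := fun z U => by
    have : φ (toP z) = toJ z := by
      show Equiv.ofBijective toJ hbijJ ((Equiv.ofBijective toP hbij).symm (toP z)) = _
      rw [Equiv.ofBijective_symm_apply_apply]; rfl
    rw [this, Projectivization.submodule_mk, Submodule.span_singleton_le_iff_mem]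
  have hW : ∀ l : L, ∃ W : Submodule F (Fin 3 → F), Module.finrank F W = 2 ∧
      ∀ X : P, X ∈ l ↔ (φ X).submodule ≤ W := by
    intro m
    obtain ⟨a₀, a₁, a₂, hne, haff, hdir, hinf⟩ := hlines m
    let φf : (Fin 3 → F) →ₗ[F] F :=
      a₀ • LinearMap.proj 0 + a₁ • LinearMap.proj 1 + a₂ • LinearMap.proj 2
    have hφf : ∀ v, φf v = a₀ * v 0 + a₁ * v 1 + a₂ * v 2 := fun v => by simp [φf]
    have hnz : φf ≠ 0 := fun h => hne
      ⟨by simpa [hφf] using LinearMap.congr_fun h ![1, 0, 0],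
       by simpa [hφf] using LinearMap.congr_fun h ![0, 1, 0],
       by simpa [hφf] using LinearMap.congr_fun h ![0, 0, 1]⟩
    refine ⟨LinearMap.ker φf, ?_, fun X => ?_⟩
    · have := LinearMap.finrank_range_add_finrank_ker φf
      rw [LinearMap.range_eq_top.2 (LinearMap.surjective hnz), finrank_top, Module.finrank_self,
        Module.finrank_fin_fun] at this
      omega
    · obtain ⟨z, rfl⟩ := hbij.2 X
      rw [hφmem, LinearMap.mem_ker, hφf]
      rcases z with ⟨f, g⟩ | f | u
      · simp [vec, haff]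
      · simp [vec, hdir]
      · simp [vec, hinf]
  refine ⟨φ, hW, fun U hU => ?_⟩
  -- every plane contains two independent vectors
  let b := Module.finBasisOfFinrankEq F U hU
  have hb0 : ∀ i, ((b i : U) : Fin 3 → F) ≠ 0 := fun i h => b.ne_zero i (Subtype.ext h)
  set X := φ.symm (Projectivization.mk _ _ (hb0 0)) with hX'
  set Y := φ.symm (Projectivization.mk _ _ (hb0 1)) with hY'
  obtain ⟨l, hX, hY⟩ := exists_line_through (L := L) X Y
  obtain ⟨U', hU', hmem⟩ := hW l
  refine ⟨l, fun Z => (hmem Z).trans ?_⟩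
  have hle : U ≤ U' := by
    have h0 := (hmem X).1 hX
    have h1 := (hmem Y).1 hY
    rw [hX', Equiv.apply_symm_apply, Projectivization.submodule_mk,
      Submodule.span_singleton_le_iff_mem] at h0
    rw [hY', Equiv.apply_symm_apply, Projectivization.submodule_mk,
      Submodule.span_singleton_le_iff_mem] at h1
    intro v hv
    have hv' := congrArg Subtype.val (b.sum_repr ⟨v, hv⟩)
    rw [Fin.sum_univ_two] at hv'
    rw [← show _ = v from hv']
    exact add_mem (U'.smul_mem _ h0) (U'.smul_mem _ h1)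
  rw [Submodule.eq_of_le_of_finrank_eq hle (hU.trans hU'.symm)]

section plane

variable {G : Type uG} {P : Type uP} {L : Type uL} [Group G] [Finite G] [MulAction G P]
  [MulAction G L] [Membership P L] [ProjectivePlane P L] [IsColl G P L] [Finite P] [Finite L]
  (hf : Faith G P) (htr : TwoTrans G P)

theorem elGrp_inj {l : L} {O : P} (hO : O ∉ l) {s t : G} (hs : s ∈ elGrp hf l)
    (ht : t ∈ elGrp hf l) (h : s • O = t • O) : s = t := by
  have h1 : (t⁻¹ * s) • O = O := by rw [mul_smul]; exact inv_smul_eq_iff.2 h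
  exact (inv_mul_eq_one.1 ((mul_mem (inv_mem ht) hs).2 O hO h1)).symm

include hf htr

theorem elC_comm {l : L} {C D : P} (hC : C ∈ l) (hD : D ∈ l) {a b : G} (ha : a ∈ elC G C l)
    (hb : b ∈ elC G D l) : a * b = b * a := by
  obtain ⟨p, -, -, -, hc⟩ := elGrp_abelian hf htr l
  exact hc a (elC_le hf hC ha) b (elC_le hf hD hb)

/-- Shears add slopes. -/
theorem slope_add {li : L} {O A B : P} (hO : O ∉ li) (hA : A ∈ li) (hB : B ∈ li) (hAB : A ≠ B)
    {C D : P} (hC : C ∈ li) (hCB : C ≠ B) (hD : D ∈ li) (hDB : D ≠ B) :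
    ∃ C' ∈ li, C' ≠ B ∧ ∀ x ∈ elC G A li, ∀ y ∈ elC G B li, ∀ y' ∈ elC G B li,
      x * y ∈ elC G C li → x * y' ∈ elC G D li → x * (y' * y) ∈ elC G C' li := by
  have hne : join L O B ≠ li := fun e => hO (e ▸ left_mem_join O B)
  obtain ⟨u, hu, huA⟩ := elC_trans hf htr (C := B) (l := join L O B) (m := li) (right_mem_join O B) hB
    hne.symm hA hAB hD hDB
  have huli : u • li = li := hu.2 li hB
  have huO : u • O = O := hu.1 O (left_mem_join O B)
  have huB : u • B = B := hu.2.smul_point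
  refine ⟨u • C, smul_mem_of_fix huli hC, fun e => hCB (MulAction.injective u (e.trans huB.symm)), ?_⟩
  intro x hx y hy y' hy' hxy hxy'
  have hconjO : ∀ t : G, (u * t * u⁻¹) • O = u • t • O := fun t => by
    rw [mul_smul, mul_smul, inv_smul_eq_iff.2 huO.symm]
  have hconj : ∀ {E : P} {t : G}, t ∈ elC G E li → u * t * u⁻¹ ∈ elC G (u • E) li := fun {E t} ht => by
    refine ⟨?_, ht.2.smul u⟩
    have := ht.1.smul u
    rwa [huli] at this
  have hyfix : u * y * u⁻¹ = y := by
    have h1 := hconj hy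
    rw [huB] at h1
    refine elGrp_inj hf hO (elC_le hf hB h1) (elC_le hf hB hy) ?_
    rw [hconjO, hu.1 _ (smul_mem_of_fix (hy.2 _ (right_mem_join O B)) (left_mem_join O B))]
  have hxfix : u * x * u⁻¹ = x * y' := by
    have hx1 := hconj hx
    rw [huA] at hx1
    have hxl : x • O ∉ li := hx.1.not_mem hO
    have hkl : join L B (x • O) ≠ li := fun e => hxl (e ▸ right_mem_join B (x • O))
    have hk : u • join L B (x • O) = join L B (x • O) := hu.2 _ (left_mem_join _ _)
    obtain ⟨z, hz, hzx⟩ := elC_trans hf htr hB (left_mem_join B (x • O)) hkl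
      (right_mem_join B (x • O)) (fun e => hxl (by rw [e]; exact hB))
      (smul_mem_of_fix hk (right_mem_join B (x • O)))
      (fun e => hxl (by rw [MulAction.injective u (e.trans huB.symm)]; exact hB))
    have h1 : u * x * u⁻¹ = x * z := by
      rw [elC_comm hf htr hA hB hx hz]
      refine elGrp_inj hf hO (elC_le hf hD hx1) (mul_mem (elC_le hf hB hz) (elC_le hf hA hx)) ?_
      rw [hconjO, mul_smul, hzx]
    rw [h1] at hx1 ⊢
    have h2 : z⁻¹ * y' ∈ elC G D li := by
      have := mul_mem (inv_mem hx1) hxy'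
      rwa [mul_inv_rev, mul_assoc, inv_mul_cancel_left] at this
    rw [inv_mul_eq_one.1 (elC_inter hf hDB h2 (mul_mem (inv_mem hz) hy'))]
  have := hconj hxy
  rwa [show u * (x * y) * u⁻¹ = x * (y' * y) by
    rw [show u * (x * y) * u⁻¹ = (u * x * u⁻¹) * (u * y * u⁻¹) by simp [mul_assoc], hxfix, hyfix,
      mul_assoc]] at this

/-- Affine lines are cosets of elation groups. -/
theorem mem_line_iff {li m : L} {O C : P} (hO : O ∉ li) (hml : m ≠ li) (hCm : C ∈ m) (hC : C ∈ li)
    {t₀ t : G} (ht₀ : t₀ ∈ elGrp hf li) (ht : t ∈ elGrp hf li) (h0 : t₀ • O ∈ m) :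
    t • O ∈ m ↔ t₀⁻¹ * t ∈ elC G C li := by
  obtain ⟨p, -, -, -, hcomm⟩ := elGrp_abelian hf htr li
  constructor
  · intro h
    obtain ⟨u, hu, hut⟩ := elC_trans hf htr hC hCm hml h0
      (fun e => ht₀.1.not_mem hO (by rw [e]; exact hC)) h
      (fun e => ht.1.not_mem hO (by rw [e]; exact hC))
    have h1 : u * t₀ = t :=
      elGrp_inj hf hO (mul_mem (elC_le hf hC hu) ht₀) ht (by rw [mul_smul, hut])
    rwa [← h1, hcomm u (elC_le hf hC hu) t₀ ht₀, inv_mul_cancel_left]
  · intro h
    have : t = (t₀⁻¹ * t) * t₀ := by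
      rw [hcomm _ (elC_le hf hC h) t₀ ht₀, mul_inv_cancel_left]
    rw [this, mul_smul]
    exact smul_mem_of_fix (h.2 m hCm) h0

/-- A commutative group structure on an elation group. -/
@[reducible] def elCommGroup {l : L} {C : P} (hC : C ∈ l) : CommGroup (elC G C l) :=
  { (inferInstance : Group (elC G C l)) with
    mul_comm := fun a b => Subtype.ext (elC_comm hf htr hC hC a.2 b.2) }

open Classical in
/-- The plane is Desarguesian. -/
theorem desarguesian :
    ∃ (F : Type) (_ : Field F) (_ : Fintype F) (φ : P ≃ Projectivization F (Fin 3 → F)),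
      (∀ l : L, ∃ W : Submodule F (Fin 3 → F), Module.finrank F W = 2 ∧
          ∀ p : P, p ∈ l ↔ (φ p).submodule ≤ W) ∧
      (∀ W : Submodule F (Fin 3 → F), Module.finrank F W = 2 →
          ∃ l : L, ∀ p : P, p ∈ l ↔ (φ p).submodule ≤ W) := by
  obtain ⟨O₀, -, -, li, -⟩ := @ProjectivePlane.exists_config P L _ _
  obtain ⟨O, hO⟩ := Nondegenerate.exists_point (P := P) li
  obtain ⟨A, hA, -⟩ := exists_ne_ne_mem li O₀ O₀
  obtain ⟨B, hB, hBA, -⟩ := exists_ne_ne_mem li A A
  have hAB : A ≠ B := Ne.symm hBA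
  obtain ⟨C₁, hC₁, hC₁A, hC₁B⟩ := exists_ne_ne_mem li A B
  obtain ⟨p, hp, -, hexp, hcomm⟩ := elGrp_abelian hf htr li
  have hn : ∀ C, C ∈ li → Nat.card (elC G C li) = ProjectivePlane.order P L :=
    fun C hC => card_elC hf htr hC
  letI := elCommGroup hf htr hA
  letI := elCommGroup hf htr hB
  let V := Additive (elC G A li)
  let W := Additive (elC G B li)
  let gx : V → G := fun v => ((Additive.toMul v : elC G A li) : G)
  let gy : W → G := fun w => ((Additive.toMul w : elC G B li) : G)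
  have gx_add : ∀ a b : V, gx (a + b) = gx a * gx b := fun a b => rfl
  have gy_add : ∀ a b : W, gy (a + b) = gy a * gy b := fun a b => rfl
  have gxm : ∀ v, gx v ∈ elC G A li := fun v => (Additive.toMul v).2
  have gym : ∀ w, gy w ∈ elC G B li := fun w => (Additive.toMul w).2
  have gx_inj : ∀ {a b : V}, gx a = gx b → a = b := fun h =>
    Additive.toMul.injective (Subtype.ext h)
  have gy_inj : ∀ {a b : W}, gy a = gy b → a = b := fun h =>
    Additive.toMul.injective (Subtype.ext h)
  have hTx : ∀ v, gx v ∈ elGrp hf li := fun v => elC_le hf hA (gxm v)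
  have hTy : ∀ w, gy w ∈ elGrp hf li := fun w => elC_le hf hB (gym w)
  -- decomposition
  let F0 : V × W → elGrp hf li := fun z => ⟨gx z.1 * gy z.2, mul_mem (hTx _) (hTy _)⟩
  have hF0 : Function.Bijective F0 := by
    refine (Nat.bijective_iff_injective_and_card F0).2 ⟨?_, ?_⟩
    · rintro ⟨a, b⟩ ⟨a', b'⟩ e
      have e' : gx a * gy b = gx a' * gy b' := congrArg Subtype.val e
      have h1 : (gx a')⁻¹ * gx a = gy b' * (gy b)⁻¹ := by
        rw [eq_mul_inv_iff_mul_eq, mul_assoc, e', inv_mul_cancel_left]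
      have h2 : (gx a')⁻¹ * gx a = 1 := elC_inter hf hAB (mul_mem (inv_mem (gxm a')) (gxm a))
        (h1 ▸ mul_mem (gym b') (inv_mem (gym b)))
      obtain rfl := gx_inj (inv_mul_eq_one.1 h2).symm
      rw [gy_inj (mul_left_cancel e')]
    · rw [Nat.card_prod, card_elGrp_eq hf htr,
        show Nat.card V = ProjectivePlane.order P L from
          (Nat.card_congr Additive.toMul).trans (hn A hA),
        show Nat.card W = ProjectivePlane.order P L from
          (Nat.card_congr Additive.toMul).trans (hn B hB), pow_two]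
  -- uniqueness of slopes
  have huniq : ∀ {C : P}, C ∈ li → C ≠ B → ∀ {v : V} {w w' : W},
      gx v * gy w ∈ elC G C li → gx v * gy w' ∈ elC G C li → w = w' := by
    intro C hC hCB v w w' h h'
    have h1 : (gy w)⁻¹ * gy w' ∈ elC G C li := by
      have := mul_mem (inv_mem h) h'
      rwa [mul_inv_rev, mul_assoc, inv_mul_cancel_left] at this
    exact gy_inj (inv_mul_eq_one.1 (elC_inter hf hCB h1 (mul_mem (inv_mem (gym w)) (gym w'))))
  have hmulmem : ∀ {C : P}, C ∈ li → ∀ {a b : V} {c d : W}, gx a * gy c ∈ elC G C li →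
      gx b * gy d ∈ elC G C li → gx (a + b) * gy (c + d) ∈ elC G C li := by
    intro C hC a b c d h h'
    have := mul_mem h h'
    rwa [mul_assoc, ← mul_assoc (gy c), hcomm (gy c) (hTy c) (gx b) (hTx b), mul_assoc,
      ← mul_assoc, ← gx_add, ← gy_add] at this
  have hslope : ∀ {C : P}, C ∈ li → C ≠ B →
      ∃ f : V →+ W, ∀ v, gx v * gy (f v) ∈ elC G C li := by
    intro C hC hCB
    let pr : elC G C li → V := fun e => (Function.surjInv hF0.2 ⟨e, elC_le hf hC e.2⟩).1
    have hpr : ∀ e : elC G C li, ∃ w, gx (pr e) * gy w = e := fun e =>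
      ⟨_, congrArg Subtype.val (Function.surjInv_eq hF0.2 ⟨e, elC_le hf hC e.2⟩)⟩
    have hinj : Function.Injective pr := fun e e' h => by
      obtain ⟨w, hw⟩ := hpr e
      obtain ⟨w', hw'⟩ := hpr e'
      rw [← h] at hw'
      have := huniq hC hCB (hw ▸ e.2) (hw' ▸ e'.2)
      subst this
      exact Subtype.ext (hw.symm.trans hw')
    have hbij : Function.Bijective pr := (Nat.bijective_iff_injective_and_card pr).2 ⟨hinj, by
      rw [hn C hC]; exact (hn A hA).symm.trans (Nat.card_congr Additive.toMul).symm⟩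
    have hex : ∀ v, ∃ w, gx v * gy w ∈ elC G C li := fun v => by
      obtain ⟨e, rfl⟩ := hbij.2 v
      obtain ⟨w, hw⟩ := hpr e
      exact ⟨w, hw ▸ e.2⟩
    choose f hf' using hex
    exact ⟨AddMonoidHom.mk' f (fun a b => huniq hC hCB (hf' _) (hmulmem hC (hf' a) (hf' b))), hf'⟩
  obtain ⟨φh, hφh⟩ := hslope hC₁ hC₁B
  have hVfin : Finite V := Finite.of_equiv _ Additive.toMul.symm
  have hWfin : Finite W := Finite.of_equiv _ Additive.toMul.symm
  have hφbij : Function.Bijective φh := by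
    refine (Nat.bijective_iff_injective_and_card φh).2 ⟨?_, ?_⟩
    · refine (injective_iff_map_eq_zero φh).2 fun v hv => gx_inj ?_
      have h1 := hφh v
      rw [hv, show gy 0 = 1 from rfl, mul_one] at h1
      exact elC_inter hf hC₁A h1 (gxm v)
    · exact ((Nat.card_congr Additive.toMul).trans (hn A hA)).trans
        ((hn B hB).symm.trans (Nat.card_congr Additive.toMul).symm)
  let φ₁ : V ≃+ W := AddEquiv.ofBijective φh hφbij
  -- slopes as endomorphisms
  have hexpV : ∀ v : V, p • v = 0 := fun v => gx_inj (by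
    show ((Additive.toMul v ^ p : elC G A li) : G) = 1
    rw [SubmonoidClass.coe_pow]; exact hexp _ (hTx v))
  have hexpE : ∀ σ : AddMonoid.End V, p • σ = 0 := fun σ =>
    DFunLike.ext _ _ fun v => hexpV (σ v)
  set sl : Set (AddMonoid.End V) :=
    {σ | ∃ C, C ∈ li ∧ C ≠ B ∧ ∀ v, gx v * gy (φ₁ (σ v)) ∈ elC G C li} with hsl
  set sl' : Set (AddMonoid.End V) :=
    {σ | ∃ C, C ∈ li ∧ C ≠ A ∧ ∀ v, gx (σ v) * gy (φ₁ v) ∈ elC G C li} with hsl'
  let S : AddSubgroup (AddMonoid.End V) := addClosedSubgroup sl hp.pos hexpE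
    ⟨A, hA, hAB, fun v => by
      show gx v * gy (φ₁ 0) ∈ _
      rw [map_zero, show gy 0 = 1 from rfl, mul_one]; exact gxm v⟩
    (by
      rintro σ ⟨C, hC, hCB, hσ⟩ τ ⟨D, hD, hDB, hτ⟩
      obtain ⟨C', hC', hC'B, h⟩ := slope_add hf htr hO hA hB hAB hC hCB hD hDB
      refine ⟨C', hC', hC'B, fun v => ?_⟩
      show gx v * gy (φ₁ (σ v + τ v)) ∈ _
      rw [map_add, add_comm, gy_add]
      exact h _ (gxm v) _ (gym _) _ (gym _) (hσ v) (hτ v))
  let S' : AddSubgroup (AddMonoid.End V) := addClosedSubgroup sl' hp.pos hexpE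
    ⟨B, hB, hBA, fun v => by
      show gx 0 * gy (φ₁ v) ∈ _
      rw [show gx 0 = 1 from rfl, one_mul]; exact gym _⟩
    (by
      rintro σ ⟨C, hC, hCA, hσ⟩ τ ⟨D, hD, hDA, hτ⟩
      obtain ⟨C', hC', hC'A, h⟩ := slope_add hf htr hO hB hA hBA hC hCA hD hDA
      refine ⟨C', hC', hC'A, fun v => ?_⟩
      show gx (σ v + τ v) * gy (φ₁ v) ∈ _
      rw [hcomm _ (hTx _) _ (hTy _), add_comm, gx_add]
      refine h _ (gym _) _ (gxm _) _ (gxm _) ?_ ?_
      · rw [hcomm _ (hTy _) _ (hTx _)]; exact hσ v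
      · rw [hcomm _ (hTy _) _ (hTx _)]; exact hτ v)
  have h1S : (1 : AddMonoid.End V) ∈ S := ⟨C₁, hC₁, hC₁B, hφh⟩
  have hEfin : Finite (AddMonoid.End V) := Finite.of_injective (fun σ : AddMonoid.End V => (σ : V → V))
    DFunLike.coe_injective
  have hSu : ∀ σ ∈ S, σ ≠ 0 →
      ∃ u : (AddMonoid.End V)ˣ, (u : AddMonoid.End V) = σ ∧ (↑u⁻¹ : AddMonoid.End V) ∈ S' := by
    rintro σ ⟨C, hC, hCB, hσ⟩ hσ0
    have hCA : C ≠ A := by
      rintro rfl
      refine hσ0 (DFunLike.ext _ _ fun v => φ₁.injective ?_)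
      refine huniq hC hCB (hσ v) ?_
      show gx v * gy (φ₁ 0) ∈ _
      rw [map_zero, show gy 0 = 1 from rfl, mul_one]; exact gxm v
    have hbij : Function.Bijective σ := Finite.injective_iff_bijective.1
      ((injective_iff_map_eq_zero σ).2 fun v hv => gx_inj (by
        have h1 := hσ v
        rw [hv, map_zero, show gy 0 = 1 from rfl, mul_one] at h1
        exact elC_inter hf hCA h1 (gxm v)))
    let e : V ≃+ V := AddEquiv.ofBijective σ hbij
    let τ : AddMonoid.End V := e.symm.toAddMonoidHom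
    refine ⟨⟨σ, τ, DFunLike.ext _ _ fun v => e.apply_symm_apply v,
      DFunLike.ext _ _ fun v => e.symm_apply_apply v⟩, rfl, C, hC, hCA, fun v => ?_⟩
    show gx (e.symm v) * gy (φ₁ v) ∈ _
    conv => arg 2; arg 2; rw [← e.apply_symm_apply v]
    exact hσ _
  have hS'u : ∀ σ ∈ S', σ ≠ 0 →
      ∃ u : (AddMonoid.End V)ˣ, (u : AddMonoid.End V) = σ ∧ (↑u⁻¹ : AddMonoid.End V) ∈ S := by
    rintro σ ⟨C, hC, hCA, hσ⟩ hσ0
    have hCB : C ≠ B := by
      rintro rfl
      refine hσ0 (DFunLike.ext _ _ fun v => gx_inj ?_)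
      have h1 := mul_mem (hσ v) (inv_mem (gym (φ₁ v)))
      rw [mul_inv_cancel_right] at h1
      exact elC_inter hf hAB (gxm _) h1
    have hbij : Function.Bijective σ := Finite.injective_iff_bijective.1
      ((injective_iff_map_eq_zero σ).2 fun v hv => φ₁.map_eq_zero_iff.1 (gy_inj (by
        have h1 := hσ v
        rw [hv, show gx 0 = 1 from rfl, one_mul] at h1
        exact elC_inter hf hCB h1 (gym _))))
    let e : V ≃+ V := AddEquiv.ofBijective σ hbij
    let τ : AddMonoid.End V := e.symm.toAddMonoidHom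
    refine ⟨⟨σ, τ, DFunLike.ext _ _ fun v => e.apply_symm_apply v,
      DFunLike.ext _ _ fun v => e.symm_apply_apply v⟩, rfl, C, hC, hCB, fun v => ?_⟩
    show gx v * gy (φ₁ (e.symm v)) ∈ _
    conv => arg 2; arg 1; rw [← e.apply_symm_apply v]
    exact hσ _
  have htri := tri_of_pair h1S hSu hS'u
  have hunit : ∀ σ ∈ S, σ ≠ 0 → IsUnit σ := fun σ h h0 => by
    obtain ⟨u, hu, -⟩ := hSu σ h h0
    exact hu ▸ u.isUnit
  -- commutativity
  obtain ⟨hcommS, hmulS⟩ : (∀ a ∈ S, ∀ b ∈ S, Commute a b) ∧ ∀ a ∈ S, ∀ b ∈ S, a * b ∈ S := by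
    rcases hp.eq_two_or_odd' with rfl | hodd
    · have hJ : TISpread.JD S := ⟨h1S, htri, hunit, fun σ => by rw [← two_nsmul]; exact hexpE σ,
        inferInstance⟩
      exact ⟨hJ.commute, fun a ha b hb => hJ.mul_mem_of_commute ha hb (hJ.commute a ha b hb)⟩
    · have hD : DS p S := ⟨h1S, htri, hunit, hp, hodd, hexpE, inferInstance⟩
      exact ⟨hD.commute, fun a ha b hb => hD.mul_mem_of_commute ha hb (hD.commute a ha b hb)⟩
  let K : Subring (AddMonoid.End V) :=
    { S with
      mul_mem' := fun {a b} ha hb => hmulS a ha b hb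
      one_mem' := h1S }
  obtain ⟨e₀, he₀⟩ : ∃ e₀ : V, e₀ ≠ 0 := by
    have : 1 < Nat.card V := by
      rw [Nat.card_congr Additive.toMul, hn A hA]; exact two_le_order
    have := Finite.one_lt_card_iff_nontrivial.1 this
    exact exists_ne 0
  have hV0 : (1 : AddMonoid.End V) ≠ 0 := fun h => he₀ (congrArg (fun σ : AddMonoid.End V => σ e₀) h)
  have hKfield : IsField K :=
    { exists_pair_ne := ⟨1, 0, fun h => hV0 (congrArg Subtype.val h)⟩
      mul_comm := fun a b => Subtype.ext (hcommS a a.2 b b.2)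
      mul_inv_cancel := fun {a} ha => by
        have hinj : Function.Injective (fun b : K => a * b) := fun b c h => by
          have h' : (a : AddMonoid.End V) * b = a * c := congrArg Subtype.val h
          exact Subtype.ext ((hunit a a.2 (fun e => ha (Subtype.ext e))).mul_left_cancel h')
        exact (Finite.injective_iff_bijective.1 hinj).2 1 }
  have hKfin : Finite K := inferInstance
  let eK : FT (Nat.card K) ≃ K := (ftEquiv _).trans (Finite.equivFin K).symm
  letI instFin : Fintype (FT (Nat.card K)) := Fintype.ofEquiv _ (ftEquiv _).symm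
  letI : Field K := hKfield.toField
  letI instF : Field (FT (Nat.card K)) := eK.field
  let ι : FT (Nat.card K) ≃+* K :=
    { eK with
      map_mul' := fun a b => by show eK (eK.symm (eK a * eK b)) = _; rw [Equiv.apply_symm_apply]; rfl
      map_add' := fun a b => by show eK (eK.symm (eK a + eK b)) = _; rw [Equiv.apply_symm_apply]; rfl }
  -- coordinates
  let ev : FT (Nat.card K) → V := fun f => ((ι f : K) : AddMonoid.End V) e₀
  have hev_add : ∀ f g, ev (f + g) = ev f + ev g := fun f g => by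
    show ((ι (f + g) : K) : AddMonoid.End V) e₀ = _
    rw [map_add]; rfl
  have hev_mul : ∀ f g, ev (f * g) = ((ι f : K) : AddMonoid.End V) (ev g) := fun f g => by
    show ((ι (f * g) : K) : AddMonoid.End V) e₀ = _
    rw [map_mul]; rfl
  have hev_sub : ∀ f g, ev (f - g) = ev f - ev g := fun f g => by
    rw [eq_sub_iff_add_eq, ← hev_add, sub_add_cancel]
  have hev_inj : Function.Injective ev := fun f g h => by
    by_contra hne
    have h0 : ((ι (f - g) : K) : AddMonoid.End V) ≠ 0 := fun h0 => hne (sub_eq_zero.1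
      (ι.map_eq_zero_iff.1 (Subtype.ext h0)))
    obtain ⟨u, hu⟩ := hunit _ (ι (f - g)).2 h0
    apply he₀
    have h1 : (u : AddMonoid.End V) e₀ = 0 := by
      rw [hu]; exact (hev_sub f g).trans (sub_eq_zero.2 h)
    calc e₀ = (↑u⁻¹ : AddMonoid.End V) ((u : AddMonoid.End V) e₀) := by
          show e₀ = ((↑u⁻¹ : AddMonoid.End V) * (u : AddMonoid.End V)) e₀
          rw [Units.inv_mul]; rfl
      _ = 0 := by rw [h1, map_zero]
  -- every slope point comes from an element of the field
  have hslopeF : ∀ C : P, C ∈ li → C ≠ B → ∃ f, ∀ v,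
      gx v * gy (φ₁ (((ι f : K) : AddMonoid.End V) v)) ∈ elC G C li := by
    intro C hC hCB
    obtain ⟨g, hg⟩ := hslope hC hCB
    let σ : AddMonoid.End V := φ₁.symm.toAddMonoidHom.comp g
    have hσ : ∀ v, gx v * gy (φ₁ (σ v)) ∈ elC G C li := fun v => by
      show gx v * gy (φ₁ (φ₁.symm (g v))) ∈ _
      rw [φ₁.apply_symm_apply]; exact hg v
    exact ⟨ι.symm ⟨σ, C, hC, hCB, hσ⟩, fun v => by rw [ι.apply_symm_apply]; exact hσ v⟩
  have hev_surj : Function.Surjective ev := by
    intro w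
    set t := gx e₀ * gy (φ₁ w) with ht
    have htT : t ∈ elGrp hf li := mul_mem (hTx _) (hTy _)
    set m := join L O (t • O)
    have hml : m ≠ li := fun e => hO (e ▸ left_mem_join O (t • O))
    have hC := meet_mem_right (P := P) m li
    have ht' : t ∈ elC G (meet P m li) li := by
      have := (mem_line_iff hf htr hO hml (meet_mem_left m li) hC (one_mem _) htT
        (by rw [one_smul]; exact left_mem_join O (t • O))).1 (right_mem_join O (t • O))
      rwa [inv_one, one_mul] at this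
    have hCB : meet P m li ≠ B := fun e => he₀ (gx_inj (by
      rw [e] at ht'
      have := mul_mem ht' (inv_mem (gym (φ₁ w)))
      rw [ht, mul_inv_cancel_right] at this
      exact elC_inter hf hAB (gxm _) this))
    obtain ⟨f, hf'⟩ := hslopeF _ hC hCB
    exact ⟨f, φ₁.injective (huniq hC hCB (hf' e₀) ht')⟩
  have hFS : ∀ f, ∃ C, C ∈ li ∧ C ≠ B ∧ ∀ v,
      gx v * gy (φ₁ (((ι f : K) : AddMonoid.End V) v)) ∈ elC G C li := fun f => (ι f).2
  choose pt hpt hptB hptm using hFS
  have hpt_inj : Function.Injective pt := fun f g h => hev_inj (φ₁.injective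
    (huniq (hpt f) (hptB f) (hptm f e₀) (h ▸ hptm g e₀)))
  have hpt_surj : ∀ C, C ∈ li → C ≠ B → ∃ f, pt f = C := by
    intro C hC hCB
    obtain ⟨f, hf'⟩ := hslopeF C hC hCB
    refine ⟨f, by_contra fun hne => he₀ (gx_inj ?_)⟩
    have h1 := elC_inter hf hne (hptm f e₀) (hf' e₀)
    have h2 : gx e₀ ∈ elC G B li := by
      rw [mul_eq_one_iff_eq_inv.1 h1]; exact inv_mem (gym _)
    exact elC_inter hf hAB (gxm _) h2
  -- the two bijections
  let aff : FT (Nat.card K) → FT (Nat.card K) → G := fun f g => gx (ev f) * gy (φ₁ (ev g))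
  have haffT : ∀ f g, aff f g ∈ elGrp hf li := fun f g => mul_mem (hTx _) (hTy _)
  let toP : (FT (Nat.card K) × FT (Nat.card K)) ⊕ (FT (Nat.card K) ⊕ Unit) → P := Sum.elim (fun z => aff z.1 z.2 • O) (Sum.elim pt (fun _ => B))
  have haffsurj : ∀ X : P, X ∉ li → ∃ f g, aff f g • O = X := by
    intro X hX
    obtain ⟨t, ht, rfl⟩ := elGrp_trans hf htr hO hX
    obtain ⟨⟨a, b⟩, hab⟩ := hF0.2 ⟨t, ht⟩
    obtain ⟨f, rfl⟩ := hev_surj a
    obtain ⟨g, hg⟩ := hev_surj (φ₁.symm b)
    refine ⟨f, g, ?_⟩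
    have : gy (φ₁ (ev g)) = gy b := by rw [hg, φ₁.apply_symm_apply]
    show (gx (ev f) * gy (φ₁ (ev g))) • O = t • O
    rw [this, show gx (ev f) * gy b = t from congrArg Subtype.val hab]
  have hbijP : Function.Bijective toP := by
    constructor
    · rintro (⟨f, g⟩ | f | u) (⟨f', g'⟩ | f' | u') h
      · have h1 := elGrp_inj hf hO (haffT f g) (haffT f' g') h
        have h2 := hF0.1 (a₁ := (ev f, φ₁ (ev g))) (a₂ := (ev f', φ₁ (ev g'))) (Subtype.ext h1)
        rw [hev_inj (congrArg Prod.fst h2), hev_inj (φ₁.injective (congrArg Prod.snd h2))]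
      · exact absurd (hpt f') ((show aff f g • O = pt f' from h) ▸ (haffT f g).1.not_mem hO)
      · exact absurd hB ((show aff f g • O = B from h) ▸ (haffT f g).1.not_mem hO)
      · exact absurd (hpt f) ((show pt f = aff f' g' • O from h).symm ▸ (haffT f' g').1.not_mem hO)
      · rw [hpt_inj h]
      · exact absurd h (hptB f)
      · exact absurd hB ((show B = aff f' g' • O from h).symm ▸ (haffT f' g').1.not_mem hO)
      · exact absurd (Eq.symm h) (hptB f')
      · rfl
    · intro X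
      by_cases hX : X ∈ li
      · by_cases hXB : X = B
        · exact ⟨Sum.inr (Sum.inr ()), hXB.symm⟩
        · obtain ⟨f, hf'⟩ := hpt_surj X hX hXB
          exact ⟨Sum.inr (Sum.inl f), hf'⟩
      · obtain ⟨f, g, h⟩ := haffsurj X hX
        exact ⟨Sum.inl (f, g), h⟩
  have hev0 : ev 0 = 0 := by
    show ((ι 0 : K) : AddMonoid.End V) e₀ = 0
    rw [map_zero]; rfl
  refine ⟨FT (Nat.card K), instF, instFin, pg_of_coord (L := L) toP hbijP fun m => ?_⟩
  by_cases hml : m = li
  · subst hml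
    refine ⟨0, 0, 1, fun h => one_ne_zero h.2.2, fun f g => ?_, fun f => ?_, ?_⟩
    · show aff f g • O ∈ m ↔ _
      simp only [zero_mul, zero_add, one_ne_zero, iff_false]
      exact (haffT f g).1.not_mem hO
    · show pt f ∈ m ↔ _
      simp only [zero_mul, zero_add, hpt f]
    · show B ∈ m ↔ _
      simp only [hB]
  obtain ⟨C, hCm, hC⟩ := exists_meet (P := P) m li
  obtain ⟨X, hXm, hXC, -⟩ := exists_ne_ne_mem m C C
  have hXl : X ∉ li := fun h => hXC (point_eq hml hXm h hCm hC)
  obtain ⟨f₀, g₀, rfl⟩ := haffsurj X hXl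
  have hline : ∀ f g, aff f g • O ∈ m ↔
      gx (ev (f - f₀)) * gy (φ₁ (ev (g - g₀))) ∈ elC G C li := by
    intro f g
    rw [mem_line_iff hf htr hO hml hCm hC (haffT f₀ g₀) (haffT f g) hXm]
    have : (aff f₀ g₀)⁻¹ * aff f g = gx (ev (f - f₀)) * gy (φ₁ (ev (g - g₀))) := by
      rw [inv_mul_eq_iff_eq_mul]
      show gx (ev f) * gy (φ₁ (ev g)) = gx (ev f₀) * gy (φ₁ (ev g₀)) * _
      rw [mul_assoc (gx (ev f₀)), ← mul_assoc (gy _), hcomm _ (hTy _) _ (hTx _), mul_assoc,
        ← gy_add, ← mul_assoc, ← gx_add, ← map_add, ← hev_add, ← hev_add, add_sub_cancel,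
        add_sub_cancel]
    rw [this]
  have hptm' : ∀ f, pt f ∈ m ↔ pt f = C := fun f =>
    ⟨fun h => point_eq hml h (hpt f) hCm hC, fun h => h ▸ hCm⟩
  by_cases hCB : C = B
  · subst hCB
    refine ⟨1, 0, -f₀, fun h => one_ne_zero h.1, fun f g => ?_, fun f => ?_, ?_⟩
    · show aff f g • O ∈ m ↔ _
      rw [hline, one_mul, zero_mul, add_zero, ← sub_eq_add_neg]
      constructor
      · intro h
        have h2 := mul_mem h (inv_mem (gym (φ₁ (ev (g - g₀)))))
        rw [mul_inv_cancel_right] at h2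
        have h3 : gx (ev (f - f₀)) = gx 0 := elC_inter hf hAB (gxm _) h2
        exact hev_inj ((gx_inj h3).trans hev0.symm)
      · intro h
        rw [h, hev0, show gx 0 = 1 from rfl, one_mul]
        exact gym _
    · show pt f ∈ m ↔ _
      rw [hptm', zero_mul, add_zero]
      simp only [hptB f, one_ne_zero]
    · show C ∈ m ↔ _
      simp only [hCm]
  · obtain ⟨s, rfl⟩ := hpt_surj C hC hCB
    refine ⟨s, -1, g₀ - s * f₀, fun h => neg_ne_zero.2 one_ne_zero h.2.1, fun f g => ?_,
      fun f => ?_, ?_⟩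
    · show aff f g • O ∈ m ↔ _
      rw [hline]
      have key : gx (ev (f - f₀)) * gy (φ₁ (ev (g - g₀))) ∈ elC G (pt s) li ↔
          g - g₀ = s * (f - f₀) := by
        have h0 := hptm s (ev (f - f₀))
        rw [← hev_mul] at h0
        exact ⟨fun h => hev_inj (φ₁.injective (huniq hC hCB h h0)), fun h => h ▸ h0⟩
      rw [key]
      constructor
      · intro h; linear_combination -h
      · intro h; linear_combination -h
    · show pt f ∈ m ↔ _
      rw [hptm', hpt_inj.eq_iff]
      constructor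
      · intro h; rw [h]; ring
      · intro h; linear_combination -h
    · show B ∈ m ↔ _
      exact ⟨fun h => absurd (point_eq hml hCm hC h hB) hCB,
        fun h => absurd h (neg_ne_zero.2 one_ne_zero)⟩

end plane

end Cfsg.Agent.OstromWagner
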