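import Cfsg.Agent.Lib.OstromWagner.Basic

/-!
Axial and central collineations, quadrangles.
-/

set_option autoImplicit false
set_option linter.unusedSectionVars false

namespace Cfsg.Agent.OstromWagner

open Configuration

universe uG uP uL

/-- `g` fixes every point of the line `l`. -/
def Axial {G P L : Type*} [Group G] [MulAction G P] [Membership P L] (g : G) (l : L) : Prop :=
  ∀ p : P, p ∈ l → g • p = p

/-- `g` fixes every line through the point `C`. -/
def Central {G P L : Type*} [Group G] [MulAction G L] [Membership P L] (g : G) (C : P) : Prop :=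
  ∀ l : L, C ∈ l → g • l = l

/-- No line contains the three points. -/
def NC {P : Type*} (L : Type*) [Membership P L] (a b c : P) : Prop :=
  ∀ l : L, a ∈ l → b ∈ l → c ∈ l → False

/-- The set contains four points, no three of which are collinear. -/
def Quad {P : Type*} (L : Type*) [Membership P L] (s : Set P) : Prop :=
  ∃ a ∈ s, ∃ b ∈ s, ∃ c ∈ s, ∃ d ∈ s, NC L a b c ∧ NC L a b d ∧ NC L a c d ∧ NC L b c d

theorem Quad.mono {P : Type*} {L : Type*} [Membership P L] {s t : Set P} (h : Quad L s)
    (hst : s ⊆ t) : Quad L t := by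
  obtain ⟨a, ha, b, hb, c, hc, d, hd, h'⟩ := h
  exact ⟨a, hst ha, b, hst hb, c, hst hc, d, hst hd, h'⟩

section incidence

variable {P : Type uP} {L : Type uL} [Membership P L] [ProjectivePlane P L]

theorem NC.ne12 {a b c : P} (h : NC L a b c) : a ≠ b := fun e =>
  h (join L a c) (left_mem_join a c) (e ▸ left_mem_join a c) (right_mem_join a c)

theorem NC.swap12 {a b c : P} (h : NC L a b c) : NC L b a c := fun l h1 h2 h3 => h l h2 h1 h3

theorem NC.swap23 {a b c : P} (h : NC L a b c) : NC L a c b := fun l h1 h2 h3 => h l h1 h3 h2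

theorem NC.ne13 {a b c : P} (h : NC L a b c) : a ≠ c := h.swap23.ne12

theorem NC.ne23 {a b c : P} (h : NC L a b c) : b ≠ c := h.swap12.swap23.ne12

theorem NC.not_mem {a b c : P} (h : NC L a b c) : c ∉ join L a b := fun hc =>
  h _ (left_mem_join a b) (right_mem_join a b) hc

theorem nc_of_not_mem {a b c : P} {l : L} (hab : a ≠ b) (ha : a ∈ l) (hb : b ∈ l) (hc : c ∉ l) :
    NC L a b c := fun m h1 h2 h3 => hc (line_eq hab h1 h2 ha hb ▸ h3)

/-- Two points on each of two lines, away from the intersection, form a quadrangle. -/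
theorem quad_of_two_two {s : Set P} {l m : L} (hlm : l ≠ m) {a b c d : P} (ha : a ∈ s) (hb : b ∈ s)
    (hc : c ∈ s) (hd : d ∈ s) (hab : a ≠ b) (hcd : c ≠ d) (hal : a ∈ l) (hbl : b ∈ l) (hcm : c ∈ m)
    (hdm : d ∈ m) (ham : a ∉ m) (hbm : b ∉ m) (hcl : c ∉ l) (hdl : d ∉ l) : Quad L s :=
  ⟨a, ha, b, hb, c, hc, d, hd, nc_of_not_mem hab hal hbl hcl, nc_of_not_mem hab hal hbl hdl,
    fun k h1 h2 h3 => ham (line_eq hcd h2 h3 hcm hdm ▸ h1),
    fun k h1 h2 h3 => hbm (line_eq hcd h2 h3 hcm hdm ▸ h1)⟩

/-- A set without quadrangle lies on a line, except for at most one point, or is a triangle. -/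
theorem no_quad {s : Set P} (h : ¬ Quad L s) [Finite P] [Finite L] :
    ∃ (l : L) (e : P), ∀ p ∈ s, p ∈ l ∨ p = e := by
  by_cases hall : ∀ a ∈ s, ∀ b ∈ s, ∀ c ∈ s, a ≠ b → c ∈ join L a b
  · by_cases h2 : ∃ a ∈ s, ∃ b ∈ s, a ≠ b
    · obtain ⟨a, ha, b, hb, hab⟩ := h2
      exact ⟨join L a b, a, fun p hp => Or.inl (hall a ha b hb p hp hab)⟩
    · push Not at h2
      obtain ⟨p₀, p₁, p₂, l₀, -⟩ := @ProjectivePlane.exists_config P L _ _
      by_cases hs : s.Nonempty
      · obtain ⟨e, he⟩ := hs
        exact ⟨l₀, e, fun p hp => Or.inr (h2 p hp e he)⟩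
      · exact ⟨l₀, p₀, fun p hp => absurd ⟨p, hp⟩ hs⟩
  push Not at hall
  obtain ⟨A, hA, B, hB, C, hC, hAB, hCl⟩ := hall
  have hN : NC L A B C := nc_of_not_mem hAB (left_mem_join A B) (right_mem_join A B) hCl
  -- any further point lies on a side
  have hside : ∀ p ∈ s, p ∈ join L A B ∨ p ∈ join L A C ∨ p ∈ join L B C := by
    intro p hp
    by_contra hne
    push Not at hne
    exact h ⟨A, hA, B, hB, C, hC, p, hp, hN,
      nc_of_not_mem hN.ne12 (left_mem_join _ _) (right_mem_join _ _) hne.1,
      nc_of_not_mem hN.ne13 (left_mem_join _ _) (right_mem_join _ _) hne.2.1,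
      nc_of_not_mem hN.ne23 (left_mem_join _ _) (right_mem_join _ _) hne.2.2⟩
  -- extra points on two different sides give a quadrangle
  have two : ∀ X Y Z : P, X ∈ s → Y ∈ s → Z ∈ s → NC L X Y Z →
      ∀ D ∈ s, D ∈ join L X Y → D ≠ X → D ≠ Y → ∀ E ∈ s, E ∈ join L Y Z → E ≠ Y → E ≠ Z → False := by
    intro X Y Z hX hY hZ hn D hD hDl hDX hDY E hE hEl hEY hEZ
    have hne : join L X Y ≠ join L Y Z := fun e => hn.not_mem (e ▸ right_mem_join Y Z)
    refine h (quad_of_two_two hne hX hD hZ hE (Ne.symm hDX) (Ne.symm hEZ) (left_mem_join X Y) hDl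
      (right_mem_join Y Z) hEl ?_ ?_ hn.not_mem ?_)
    · exact hn.swap12.swap23.not_mem
    · exact fun h' => hDY (point_eq hne hDl h' (right_mem_join X Y) (left_mem_join Y Z))
    · exact fun h' => hEY (point_eq hne h' hEl (right_mem_join X Y) (left_mem_join Y Z))
  have pick : ∀ X Y Z : P, X ∈ s → Y ∈ s → Z ∈ s → NC L X Y Z →
      (∀ p ∈ s, p ∈ join L X Y ∨ p ∈ join L Y Z ∨ p ∈ join L X Z) →
      ∀ D ∈ s, D ∈ join L X Y → D ≠ X → D ≠ Y →
      ∀ p ∈ s, p ∈ join L X Y ∨ p = Z := by
    intro X Y Z hX hY hZ hn hsd D hD hDl hDX hDY p hp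
    rcases hsd p hp with h1 | h1 | h1
    · exact Or.inl h1
    · by_cases e1 : p = Y
      · exact Or.inl (by rw [e1]; exact right_mem_join X Y)
      by_cases e2 : p = Z
      · exact Or.inr e2
      exact (two X Y Z hX hY hZ hn D hD hDl hDX hDY p hp h1 e1 e2).elim
    · by_cases e1 : p = X
      · exact Or.inl (by rw [e1]; exact left_mem_join X Y)
      by_cases e2 : p = Z
      · exact Or.inr e2
      have hj : join L Y X = join L X Y :=
        join_eq hn.ne12.symm (right_mem_join X Y) (left_mem_join X Y)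
      exact (two Y X Z hY hX hZ hn.swap12 D hD (hj.symm ▸ hDl) hDY hDX p hp h1 e1 e2).elim
  by_cases h1 : ∀ p ∈ s, p ∈ join L A B ∨ p = C
  · exact ⟨_, _, h1⟩
  push Not at h1
  obtain ⟨D, hD, hDl, hDC⟩ := h1
  rcases hside D hD with h' | h' | h'
  · exact absurd h' hDl
  · refine ⟨join L A C, B, pick A C B hA hC hB hN.swap23 (fun p hp => ?_) D hD h'
      (fun e => hDl (by rw [e]; exact left_mem_join A B)) hDC⟩
    rcases hside p hp with g | g | g
    · exact Or.inr (Or.inr g)
    · exact Or.inl g
    · exact Or.inr (Or.inl (by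
        rwa [join_eq hN.ne23.symm (right_mem_join B C) (left_mem_join B C)]))
  · refine ⟨join L B C, A, pick B C A hB hC hA hN.swap12.swap23 (fun p hp => ?_) D hD h'
      (fun e => hDl (by rw [e]; exact right_mem_join A B)) hDC⟩
    rcases hside p hp with g | g | g
    · exact Or.inr (Or.inr (by
        rwa [join_eq hN.ne12.symm (right_mem_join A B) (left_mem_join A B)]))
    · exact Or.inr (Or.inl (by
        rwa [join_eq hN.ne13.symm (right_mem_join A C) (left_mem_join A C)]))
    · exact Or.inl g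

end incidence

section action

variable {G : Type uG} {P : Type uP} {L : Type uL} [Group G] [MulAction G P] [MulAction G L]
  [Membership P L] [ProjectivePlane P L] [IsColl G P L] [Finite P] [Finite L]

theorem Central.dual {g : G} {C : P} (h : Central (L := L) g C) :
    Axial (P := Dual L) (L := Dual P) g C := h

theorem Axial.dual {g : G} {l : L} (h : Axial (P := P) g l) :
    Central (P := Dual L) (L := Dual P) g l := h

theorem Axial.smul {g : G} {l : L} (h : Axial (P := P) g l) (k : G) :
    Axial (P := P) (k * g * k⁻¹) (k • l) := by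
  intro p hp
  have h' : k⁻¹ • p ∈ l := by
    have := smul_mem_smul k⁻¹ hp
    rwa [inv_smul_smul] at this
  rw [mul_smul, mul_smul, h _ h', smul_inv_smul]

theorem Central.smul {g : G} {C : P} (h : Central (L := L) g C) (k : G) :
    Central (L := L) (k * g * k⁻¹) (k • C) :=
  h.dual.smul k

theorem Axial.smul_line {g : G} {l : L} (h : Axial (P := P) g l) : g • l = l := by
  obtain ⟨p, hp, -⟩ := exists_ne_ne_mem l (meet P l l) (meet P l l)
  obtain ⟨q, hq, hqp, -⟩ := exists_ne_ne_mem l p p
  exact smul_line_fix hqp (h q hq) (h p hp) hq hp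

theorem Central.smul_point {g : G} {C : P} (h : Central (L := L) g C) : g • C = C :=
  h.dual.smul_line

/-- A collineation fixing all points off a line fixes all points. -/
theorem fix_all_of_fix_off {g : G} {m : L} (h : ∀ p : P, p ∉ m → g • p = p) (p : P) :
    g • p = p := by
  by_cases hp : p ∈ m
  · obtain ⟨k, hpk, hkm, -⟩ := exists_ne_ne_through p m m
    obtain ⟨k', hpk', hk'm, hk'⟩ := exists_ne_ne_through p m k
    have hfix : ∀ k : L, p ∈ k → k ≠ m → g • k = k := by
      intro k hpk hkm
      obtain ⟨a, ha, hap, -⟩ := exists_ne_ne_mem k p p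
      obtain ⟨b, hb, hba, hbp⟩ := exists_ne_ne_mem k a p
      have off : ∀ x : P, x ∈ k → x ≠ p → x ∉ m := fun x hx hne hxm =>
        hne (point_eq hkm hx hxm hpk hp)
      exact smul_line_fix hba (h b (off b hb hbp)) (h a (off a ha hap)) hb ha
    exact smul_point_fix hk'.symm (hfix k hpk hkm) (hfix k' hpk' hk'm) hpk hpk'
  · exact h p hp

theorem Axial.central_of_fix {g : G} {l : L} (h : Axial (P := P) g l) {A : P} (hA : A ∉ l)
    (hAf : g • A = A) : Central (L := L) g A := fun k hk =>
  smul_line_fix (p := A) (q := meet P k l) (fun e => hA (by rw [e]; exact meet_mem_right k l)) hAf (h _ (meet_mem_right k l)) hk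
    (meet_mem_left k l)

theorem Axial.exists_center {g : G} {l : L} (h : Axial (P := P) g l) :
    ∃ C : P, Central (L := L) g C := by
  by_cases hA : ∃ A : P, A ∉ l ∧ g • A = A
  · obtain ⟨A, hA, hAf⟩ := hA
    exact ⟨A, h.central_of_fix hA hAf⟩
  push Not at hA
  have key : ∀ X : P, X ∉ l → g • (join L X (g • X)) = join L X (g • X) := by
    intro X hX
    have hgl : g • X ∉ l := fun h' => hX (mem_of_smul_mem g (h.smul_line.symm ▸ h'))
    refine line_eq (q := meet P (join L X (g • X)) l)
      (fun e => hgl (by rw [e]; exact meet_mem_right _ l)) (smul_mem_smul g (left_mem_join _ _))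
      (mem_smul_of_fix (h _ (meet_mem_right _ l)) (meet_mem_left _ l)) (right_mem_join _ _)
      (meet_mem_left _ l)
  obtain ⟨X₀, hX₀⟩ := Nondegenerate.exists_point (P := P) l
  set k₀ := join L X₀ (g • X₀) with hk₀
  refine ⟨meet P k₀ l, fun m hm => ?_⟩
  by_cases hml : m = l
  · rw [hml]; exact h.smul_line
  obtain ⟨X, hXm, hXD, -⟩ := exists_ne_ne_mem m (meet P k₀ l) (meet P k₀ l)
  have hXl : X ∉ l := fun hXl => hXD (point_eq hml hXm hXl hm (meet_mem_right _ l))
  suffices hD : meet P k₀ l ∈ join L X (g • X) by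
    rw [line_eq hXD hXm hm (left_mem_join X (g • X)) hD]
    exact key X hXl
  by_cases he : join L X (g • X) = k₀
  · rw [he]; exact meet_mem_left _ l
  have hc : g • meet P (join L X (g • X)) k₀ = meet P (join L X (g • X)) k₀ :=
    smul_point_fix he (key X hXl) (key X₀ hX₀) (meet_mem_left _ _) (meet_mem_right _ _)
  have hcl : meet P (join L X (g • X)) k₀ ∈ l := by
    by_contra hcl
    exact hA _ hcl hc
  have hk₀l : k₀ ≠ l := fun e => hX₀ (e ▸ hk₀ ▸ left_mem_join X₀ (g • X₀))
  rw [meet_eq hk₀l (meet_mem_right _ _) hcl]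
  exact meet_mem_left _ _

theorem Central.exists_axis {g : G} {C : P} (h : Central (L := L) g C) :
    ∃ l : L, Axial (P := P) g l :=
  h.dual.exists_center

/-- Two centres: the collineation is trivial. -/
theorem center_unique {g : G} {C C' : P} (h : Central (L := L) g C) (h' : Central (L := L) g C')
    (hne : ∃ p : P, g • p ≠ p) : C = C' := by
  by_contra hCC
  obtain ⟨p, hp⟩ := hne
  refine hp (fix_all_of_fix_off (m := join L C C') (fun x hx => ?_) p)
  have h1 : join L x C ≠ join L x C' := fun e => hx (by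
    rw [join_eq hCC (right_mem_join x C) (e ▸ right_mem_join x C')]
    exact left_mem_join _ _)
  exact smul_point_fix h1 (h _ (right_mem_join _ _)) (h' _ (right_mem_join _ _)) (left_mem_join _ _)
    (left_mem_join _ _)

theorem axis_unique {g : G} {l l' : L} (h : Axial (P := P) g l) (h' : Axial (P := P) g l')
    (hne : ∃ p : P, g • p ≠ p) : l = l' := by
  refine center_unique (P := Dual L) (L := Dual P) h.dual h'.dual ?_
  by_contra hall
  push Not at hall
  obtain ⟨p, hp⟩ := hne
  exact hp (fix_points_of_fix_lines (L := L) hall p)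

/-- The fixed points of a nontrivial axial collineation. -/
theorem fixed_point_cases {g : G} {l : L} {C : P} (h : Axial (P := P) g l)
    (hC : Central (L := L) g C) (hne : ∃ p : P, g • p ≠ p) {X : P} (hX : g • X = X) :
    X ∈ l ∨ X = C := by
  by_cases hXl : X ∈ l
  · exact Or.inl hXl
  · exact Or.inr (center_unique (h.central_of_fix hXl hX) hC hne)

theorem exists_moved_line {g : G} (hne : ∃ p : P, g • p ≠ p) : ∃ l : L, g • l ≠ l := by
  by_contra hall
  push Not at hall
  obtain ⟨p, hp⟩ := hne
  exact hp (fix_points_of_fix_lines hall p)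

theorem fixed_line_cases {g : G} {l : L} {C : P} (h : Axial (P := P) g l)
    (hC : Central (L := L) g C) (hne : ∃ p : P, g • p ≠ p) {k : L} (hk : g • k = k) :
    C ∈ k ∨ k = l :=
  fixed_point_cases (P := Dual L) (L := Dual P) hC.dual h.dual (exists_moved_line (L := L) (P := P) hne) hk

theorem no_quad_lines {s : Set L} (h : ¬ Quad (P := Dual L) (Dual P) s) :
    ∃ (K : P) (e : L), ∀ l ∈ s, K ∈ l ∨ l = e :=
  no_quad (P := Dual L) (L := Dual P) h

theorem quad_of_four_lines {s : Set P} {t : Set L}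
    (hs : ∀ x ∈ t, ∀ y ∈ t, x ≠ y → meet P x y ∈ s) {a b c d : L} (ha : a ∈ t) (hb : b ∈ t)
    (hc : c ∈ t) (hd : d ∈ t) (habc : ∀ p : P, p ∈ a → p ∈ b → p ∈ c → False)
    (habd : ∀ p : P, p ∈ a → p ∈ b → p ∈ d → False) (hacd : ∀ p : P, p ∈ a → p ∈ c → p ∈ d → False)
    (hbcd : ∀ p : P, p ∈ b → p ∈ c → p ∈ d → False) (hab : a ≠ b) (hbc : b ≠ c) (hcd : c ≠ d)
    (hda : d ≠ a) :
    Quad L s := by
  refine ⟨meet P a b, hs _ ha _ hb hab,
    meet P b c, hs _ hb _ hc hbc,
    meet P c d, hs _ hc _ hd hcd,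
    meet P d a, hs _ hd _ ha hda,
    ?_, ?_, ?_, ?_⟩
  · intro k h1 h2 h3
    by_cases e : meet P a b = meet P b c
    · exact habc _ (meet_mem_left a b) (meet_mem_right a b) (e ▸ meet_mem_right b c)
    have hk : k = b := line_eq e h1 h2 (meet_mem_right a b) (meet_mem_left b c)
    subst hk
    exact hbcd _ h3 (meet_mem_left c d) (meet_mem_right c d)
  · intro k h1 h2 h3
    by_cases e : meet P a b = meet P b c
    · exact habc _ (meet_mem_left a b) (meet_mem_right a b) (e ▸ meet_mem_right b c)
    have hk : k = b := line_eq e h1 h2 (meet_mem_right a b) (meet_mem_left b c)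
    subst hk
    exact habd _ (meet_mem_right d a) h3 (meet_mem_left d a)
  · intro k h1 h2 h3
    by_cases e : meet P a b = meet P d a
    · exact habd _ (meet_mem_left a b) (meet_mem_right a b) (e ▸ meet_mem_left d a)
    have hk : k = a := line_eq e h1 h3 (meet_mem_left a b) (meet_mem_right d a)
    subst hk
    exact hacd _ h2 (meet_mem_left c d) (meet_mem_right c d)
  · intro k h1 h2 h3
    by_cases e : meet P b c = meet P c d
    · exact hbcd _ (meet_mem_left b c) (meet_mem_right b c) (e ▸ meet_mem_right c d)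
    have hk : k = c := line_eq e h1 h2 (meet_mem_right b c) (meet_mem_left c d)
    subst hk
    exact hacd _ (meet_mem_right d a) h3 (meet_mem_left d a)


/-- Four fixed lines in general position give a quadrangle of fixed points. -/
theorem quad_of_lines_set {S : Set G}
    (h : Quad (P := Dual L) (Dual P) {l : L | ∀ g ∈ S, g • l = l}) :
    Quad L {p : P | ∀ g ∈ S, g • p = p} := by
  obtain ⟨a, ha, b, hb, c, hc, d, hd, habc, habd, hacd, hbcd⟩ := h
  exact quad_of_four_lines (t := {l : L | ∀ g ∈ S, g • l = l})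
    (fun x hx y hy hxy g hg => smul_point_fix hxy (hx g hg) (hy g hg) (meet_mem_left _ _)
      (meet_mem_right _ _))
    ha hb hc hd habc habd hacd hbcd habc.ne12 habc.ne23 hacd.ne23 habd.ne13.symm

/-- A quadrangle of fixed points gives four fixed lines in general position. -/
theorem quad_lines_of_set {S : Set G} (h : Quad L {p : P | ∀ g ∈ S, g • p = p}) :
    Quad (P := Dual L) (Dual P) {l : L | ∀ g ∈ S, g • l = l} :=
  quad_of_lines_set (P := Dual L) (L := Dual P) (S := S) h

theorem quad_of_lines {g : G} (h : Quad (P := Dual L) (Dual P) {l : L | g • l = l}) :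
    Quad L {p : P | g • p = p} := by
  have h' : Quad (P := Dual L) (Dual P) {l : L | ∀ x ∈ ({g} : Set G), x • l = l} := by
    simpa using h
  simpa using quad_of_lines_set (P := P) (L := L) h'

/-- An involutory collineation without fixed quadrangle is axial. -/
theorem axial_of_involution {g : G} (hg : ∀ p : P, g • g • p = p) (hne : ∃ p : P, g • p ≠ p)
    (hq : ¬ Quad L {p : P | g • p = p}) : ∃ l : L, Axial (P := P) g l := by
  suffices h : ∃ C : P, Central (L := L) g C by
    obtain ⟨C, hC⟩ := h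
    exact hC.exists_axis
  obtain ⟨K, e, hKe⟩ := no_quad_lines (P := P) (s := {l : L | g • l = l}) (fun h => hq (quad_of_lines (L := L) (P := P) h))
  refine ⟨K, fun m hm => ?_⟩
  by_contra hmf
  have hswap : ∀ X : P, g • X ≠ X → g • join L X (g • X) = join L X (g • X) := by
    intro X hX
    rw [smul_join g (Ne.symm hX), hg]
    exact join_eq hX (right_mem_join _ _) (left_mem_join _ _)
  -- every point lies on a fixed line
  have cover : ∀ X : P, ∃ k : L, g • k = k ∧ X ∈ k := by
    intro X
    by_cases hX : g • X = X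
    · by_cases hY : ∃ Y : P, g • Y = Y ∧ Y ≠ X
      · obtain ⟨Y, hY, hYX⟩ := hY
        exact ⟨join L Y X, smul_line_fix hYX hY hX (left_mem_join _ _) (right_mem_join _ _),
          right_mem_join _ _⟩
      · push Not at hY
        exfalso
        have h1 : {p : P | g • p = p} = {X} := Set.ext fun p =>
          ⟨fun hp => hY p hp, fun hp => by rw [Set.mem_singleton_iff.1 hp]; exact hX⟩
        obtain ⟨k, hk⟩ : ∃ k, {l : L | g • l = l} = {k} := by
          rw [← Set.ncard_eq_one, ← ncard_fix_eq (P := P) g, h1, Set.ncard_singleton]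
        obtain ⟨Z, hZ, hZ'⟩ := exists_not_mem_two (P := P) k (join L X (meet P k k))
        have hZX : Z ≠ X := fun e => hZ' (e ▸ left_mem_join _ _)
        have : join L Z (g • Z) ∈ {l : L | g • l = l} := hswap Z (fun e => hZX (hY Z e))
        rw [hk, Set.mem_singleton_iff] at this
        exact hZ (this ▸ left_mem_join _ _)
    · exact ⟨join L X (g • X), hswap X hX, left_mem_join _ _⟩
  -- the moved line through `K` must be `e`
  have hme : ∀ X : P, X ∈ m → X ≠ K → X ∈ e ∧ g • e = e := by
    intro X hX hXK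
    obtain ⟨k, hk, hXk⟩ := cover X
    rcases hKe k hk with h | h
    · exact absurd (line_eq hXK hXk h hX hm ▸ hk) hmf
    · exact ⟨h ▸ hXk, h ▸ hk⟩
  obtain ⟨a, ha, haK, -⟩ := exists_ne_ne_mem m K K
  obtain ⟨b, hb, hba, hbK⟩ := exists_ne_ne_mem m a K
  obtain ⟨hae, hef⟩ := hme a ha haK
  exact hmf ((line_eq hba hb ha (hme b hb hbK).1 hae).symm ▸ hef)

end action

end Cfsg.Agent.OstromWagner
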