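import Mathlib

/-!
Finite projective planes with a group of collineations: incidence basics, counting, and the
equality of the numbers of fixed points and fixed lines.
-/

set_option autoImplicit false
set_option linter.unusedSectionVars false

namespace Cfsg.Agent.OstromWagner

open Configuration

universe uG uP uL

/-- `G` acts on points and lines by collineations. -/
class IsColl (G : Type*) (P L : Type*) [Group G] [MulAction G P] [MulAction G L]
    [Membership P L] : Prop where
  smul_mem_iff : ∀ (g : G) (p : P) (l : L), g • p ∈ g • l ↔ p ∈ l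

instance instMulActionDualPlane {G : Type*} {P : Type*} [Group G] [h : MulAction G P] :
    MulAction G (Dual P) := h

set_option synthInstance.checkSynthOrder false in
instance instIsCollDualPlane {G P L : Type*} [Group G] [MulAction G P] [MulAction G L]
    [Membership P L] [h : IsColl G P L] : IsColl G (Dual L) (Dual P) :=
  ⟨fun g l p => h.smul_mem_iff g p l⟩

section incidence

variable {P : Type uP} {L : Type uL} [Membership P L] [ProjectivePlane P L]

theorem line_eq {p q : P} {l m : L} (h : p ≠ q) (hpl : p ∈ l) (hql : q ∈ l) (hpm : p ∈ m)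
    (hqm : q ∈ m) : l = m :=
  (Nondegenerate.eq_or_eq hpl hql hpm hqm).resolve_left h

theorem point_eq {p q : P} {l m : L} (h : l ≠ m) (hpl : p ∈ l) (hpm : p ∈ m) (hql : q ∈ l)
    (hqm : q ∈ m) : p = q :=
  (Nondegenerate.eq_or_eq hpl hql hpm hqm).resolve_right h

theorem exists_line_through (p q : P) : ∃ l : L, p ∈ l ∧ q ∈ l := by
  by_cases h : p = q
  · obtain ⟨a, b, c, -, -, -, -⟩ := @ProjectivePlane.exists_config P L _ _
    obtain ⟨r, hr⟩ : ∃ r : P, r ≠ p := by
      by_contra hall
      push Not at hall
      obtain ⟨p₁, p₂, p₃, l₁, l₂, l₃, h₁₂, -, -, h₂₂, -⟩ := @ProjectivePlane.exists_config P L _ _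
      exact h₁₂ (by rw [hall p₁, ← hall p₂]; exact h₂₂)
    subst h
    exact ⟨HasLines.mkLine hr, (HasLines.mkLine_ax hr).2, (HasLines.mkLine_ax hr).2⟩
  · exact ⟨HasLines.mkLine h, HasLines.mkLine_ax h⟩

/-- The line through two points. -/
noncomputable def join (L : Type uL) [Membership P L] [ProjectivePlane P L] (p q : P) : L :=
  (exists_line_through (L := L) p q).choose

theorem left_mem_join (p q : P) : p ∈ join L p q := (exists_line_through (L := L) p q).choose_spec.1

theorem right_mem_join (p q : P) : q ∈ join L p q := (exists_line_through (L := L) p q).choose_spec.2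

theorem join_eq {p q : P} {l : L} (h : p ≠ q) (hp : p ∈ l) (hq : q ∈ l) : join L p q = l :=
  line_eq h (left_mem_join p q) (right_mem_join p q) hp hq

theorem exists_meet (l m : L) : ∃ p : P, p ∈ l ∧ p ∈ m :=
  exists_line_through (P := Dual L) (L := Dual P) l m

variable (P) in
/-- The intersection of two lines. -/
noncomputable def meet (l m : L) : P := (exists_meet (P := P) l m).choose

theorem meet_mem_left (l m : L) : meet P l m ∈ l := (exists_meet (P := P) l m).choose_spec.1

theorem meet_mem_right (l m : L) : meet P l m ∈ m := (exists_meet (P := P) l m).choose_spec.2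

theorem meet_eq {l m : L} {p : P} (h : l ≠ m) (hl : p ∈ l) (hm : p ∈ m) : meet P l m = p :=
  point_eq h (meet_mem_left l m) (meet_mem_right l m) hl hm

variable [Finite P] [Finite L]

theorem card_points_eq :
    Nat.card P = ProjectivePlane.order P L ^ 2 + ProjectivePlane.order P L + 1 := by
  cases nonempty_fintype P
  rw [Nat.card_eq_fintype_card]
  exact ProjectivePlane.card_points P L

theorem card_lines_eq :
    Nat.card L = ProjectivePlane.order P L ^ 2 + ProjectivePlane.order P L + 1 := by
  cases nonempty_fintype L
  rw [Nat.card_eq_fintype_card]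
  exact ProjectivePlane.card_lines P L

theorem card_on_line (l : L) : Nat.card {p : P // p ∈ l} = ProjectivePlane.order P L + 1 :=
  ProjectivePlane.pointCount_eq P l

theorem card_through (p : P) : Nat.card {l : L // p ∈ l} = ProjectivePlane.order P L + 1 :=
  ProjectivePlane.lineCount_eq L p

theorem two_le_order : 2 ≤ ProjectivePlane.order P L := ProjectivePlane.one_lt_order P L

theorem ncard_on_line (l : L) : {p : P | p ∈ l}.ncard = ProjectivePlane.order P L + 1 := by
  rw [← Nat.card_coe_set_eq]; exact card_on_line l

theorem ncard_through (p : P) : {l : L | p ∈ l}.ncard = ProjectivePlane.order P L + 1 := by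
  rw [← Nat.card_coe_set_eq]; exact card_through p

theorem exists_ne_ne_mem (l : L) (a b : P) : ∃ p : P, p ∈ l ∧ p ≠ a ∧ p ≠ b := by
  by_contra h
  push Not at h
  have hsub : {p : P | p ∈ l} ⊆ {a, b} := fun p hp => by
    by_cases h1 : p = a
    · exact Or.inl h1
    · exact Or.inr (h p hp h1)
  have h1 := Set.ncard_le_ncard hsub (Set.toFinite _)
  rw [ncard_on_line] at h1
  have h2 : ({a, b} : Set P).ncard ≤ 2 :=
    (Set.ncard_insert_le _ _).trans (by rw [Set.ncard_singleton])
  have := two_le_order (P := P) (L := L)
  omega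

theorem exists_ne_ne_through (p : P) (a b : L) : ∃ l : L, p ∈ l ∧ l ≠ a ∧ l ≠ b :=
  exists_ne_ne_mem (P := Dual L) (L := Dual P) p a b

theorem exists_not_mem_two (l m : L) : ∃ p : P, p ∉ l ∧ p ∉ m := by
  obtain ⟨a, hal, ha⟩ := exists_ne_ne_mem l (meet P l m) (meet P l m)
  obtain ⟨b, hbm, hb⟩ := exists_ne_ne_mem m (meet P l m) (meet P l m)
  by_cases hlm : l = m
  · obtain ⟨p, hp⟩ := Nondegenerate.exists_point (P := P) l
    exact ⟨p, hp, hlm ▸ hp⟩
  have ham : a ∉ m := fun h => ha.1 (meet_eq hlm hal h).symm
  have hbl : b ∉ l := fun h => hb.1 (meet_eq hlm h hbm).symm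
  have hab : a ≠ b := fun h => hbl (h ▸ hal)
  obtain ⟨p, hp, hpa, hpb⟩ := exists_ne_ne_mem (join L a b) a b
  refine ⟨p, fun h => ?_, fun h => ?_⟩
  · have := line_eq hpa hp (left_mem_join a b) h hal
    exact hbl (this ▸ right_mem_join a b)
  · have := line_eq hpb hp (right_mem_join a b) h hbm
    exact ham (this ▸ left_mem_join a b)

end incidence

theorem sum_ite_succ {α : Type*} [Fintype α] (q : α → Prop) [DecidablePred q] (n : ℕ) :
    ∑ a : α, (if q a then n + 1 else 1) = n * (Finset.univ.filter q).card + Fintype.card α := by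
  rw [Finset.sum_congr rfl (fun a _ => show (if q a then n + 1 else 1) =
    n * (if q a then 1 else 0) + 1 by split_ifs <;> simp), Finset.sum_add_distrib, ← Finset.mul_sum,
    Finset.card_filter, Finset.sum_const, Finset.card_univ, smul_eq_mul, mul_one]

section action

variable {G : Type uG} {P : Type uP} {L : Type uL} [Group G] [MulAction G P] [MulAction G L]
  [Membership P L] [ProjectivePlane P L] [IsColl G P L]

theorem smul_mem_smul (g : G) {p : P} {l : L} (h : p ∈ l) : g • p ∈ g • l :=
  (IsColl.smul_mem_iff g p l).2 h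

theorem mem_of_smul_mem (g : G) {p : P} {l : L} (h : g • p ∈ g • l) : p ∈ l :=
  (IsColl.smul_mem_iff g p l).1 h

theorem smul_mem_of_fix {g : G} {p : P} {l : L} (hl : g • l = l) (h : p ∈ l) : g • p ∈ l := by
  have := smul_mem_smul g h
  rwa [hl] at this

theorem mem_smul_of_fix {g : G} {p : P} {l : L} (hp : g • p = p) (h : p ∈ l) : p ∈ g • l := by
  have := smul_mem_smul g h
  rwa [hp] at this

theorem smul_line_fix {g : G} {p q : P} {l : L} (h : p ≠ q) (hp : g • p = p) (hq : g • q = q)
    (hpl : p ∈ l) (hql : q ∈ l) : g • l = l :=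
  line_eq h (mem_smul_of_fix hp hpl) (mem_smul_of_fix hq hql) hpl hql

theorem smul_point_fix {g : G} {p : P} {l m : L} (h : l ≠ m) (hl : g • l = l) (hm : g • m = m)
    (hpl : p ∈ l) (hpm : p ∈ m) : g • p = p :=
  point_eq h (smul_mem_of_fix hl hpl) (smul_mem_of_fix hm hpm) hpl hpm

theorem smul_join (g : G) {p q : P} (h : p ≠ q) : g • join L p q = join L (g • p) (g • q) :=
  (join_eq (fun e => h (MulAction.injective g e)) (smul_mem_smul g (left_mem_join p q))
    (smul_mem_smul g (right_mem_join p q))).symm

theorem smul_meet (g : G) {l m : L} (h : l ≠ m) : g • meet P l m = meet P (g • l) (g • m) :=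
  (meet_eq (fun e => h (MulAction.injective g e)) (smul_mem_smul g (meet_mem_left l m))
    (smul_mem_smul g (meet_mem_right l m))).symm

/-- A collineation fixing all points fixes all lines. -/
theorem fix_lines_of_fix_points [Finite P] [Finite L] {g : G} (h : ∀ p : P, g • p = p) (l : L) :
    g • l = l := by
  obtain ⟨p, hp, -⟩ := exists_ne_ne_mem l (meet P l l) (meet P l l)
  obtain ⟨q, hq, hqp, -⟩ := exists_ne_ne_mem l p p
  exact smul_line_fix hqp (h q) (h p) hq hp

theorem fix_points_of_fix_lines [Finite P] [Finite L] {g : G} (h : ∀ l : L, g • l = l) (p : P) :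
    g • p = p :=
  fix_lines_of_fix_points (G := G) (P := Dual L) (L := Dual P) h p

variable [Finite P] [Finite L]

/-- A collineation fixes as many points as lines. -/
theorem card_fixedBy_eq (g : G) :
    Nat.card (MulAction.fixedBy P g) = Nat.card (MulAction.fixedBy L g) := by
  classical
  cases nonempty_fintype P
  cases nonempty_fintype L
  set n := ProjectivePlane.order P L with hn
  -- count flags `(p, l)` with `g • p ∈ l`
  have h1 : ∀ p : P, (Finset.univ.filter fun l : L => p ∈ l ∧ g • p ∈ l).card
      = if g • p = p then n + 1 else 1 := by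
    intro p
    split_ifs with hp
    · rw [hn, ← card_through p, Nat.card_eq_fintype_card, Fintype.card_subtype]
      simp [hp]
    · rw [Finset.card_eq_one]
      refine ⟨join L p (g • p), Finset.ext fun l => ?_⟩
      simp only [Finset.mem_filter, Finset.mem_univ, true_and, Finset.mem_singleton]
      exact ⟨fun h => (join_eq (Ne.symm hp) h.1 h.2).symm,
        fun h => h ▸ ⟨left_mem_join _ _, right_mem_join _ _⟩⟩
  have h2 : ∀ l : L, (Finset.univ.filter fun p : P => p ∈ l ∧ g • p ∈ l).card
      = if g • l = l then n + 1 else 1 := by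
    intro l
    split_ifs with hl
    · rw [hn, ← card_on_line l, Nat.card_eq_fintype_card, Fintype.card_subtype]
      exact congrArg Finset.card (Finset.ext fun p => by
        simp only [Finset.mem_filter, Finset.mem_univ, true_and]
        exact ⟨fun h => h.1, fun h => ⟨h, smul_mem_of_fix hl h⟩⟩)
    · have hl' : l ≠ g⁻¹ • l := fun e => hl (by conv_lhs => rw [e, smul_inv_smul])
      rw [Finset.card_eq_one]
      refine ⟨meet P l (g⁻¹ • l), Finset.ext fun p => ?_⟩
      simp only [Finset.mem_filter, Finset.mem_univ, true_and, Finset.mem_singleton]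
      constructor
      · rintro ⟨ha, hb⟩
        refine (meet_eq hl' ha ?_).symm
        have := smul_mem_smul g⁻¹ hb
        rwa [inv_smul_smul] at this
      · rintro rfl
        refine ⟨meet_mem_left _ _, ?_⟩
        have := smul_mem_smul g (meet_mem_right (P := P) l (g⁻¹ • l))
        rwa [smul_inv_smul] at this
  have key : ∑ p : P, (Finset.univ.filter fun l : L => p ∈ l ∧ g • p ∈ l).card
      = ∑ l : L, (Finset.univ.filter fun p : P => p ∈ l ∧ g • p ∈ l).card := by
    simp only [Finset.card_filter]
    exact Finset.sum_comm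
  simp only [h1, h2] at key
  rw [sum_ite_succ (fun p : P => g • p = p) n, sum_ite_succ (fun l : L => g • l = l) n,
    ProjectivePlane.card_points_eq_card_lines P L] at key
  have := two_le_order (P := P) (L := L)
  have e := Nat.eq_of_mul_eq_mul_left (show 0 < n by omega) (Nat.add_right_cancel key)
  rw [Nat.card_eq_fintype_card, Nat.card_eq_fintype_card, Fintype.card_subtype,
    Fintype.card_subtype]
  simpa [MulAction.mem_fixedBy] using e

theorem ncard_fix_eq (g : G) : {p : P | g • p = p}.ncard = {l : L | g • l = l}.ncard := by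
  rw [← Nat.card_coe_set_eq, ← Nat.card_coe_set_eq]
  exact card_fixedBy_eq g

end action

end Cfsg.Agent.OstromWagner
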