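import Cfsg.Agent.Lib.OstromWagner.Axial

/-!
The group of all collineations, 2-transitivity, and small group-theoretic helpers.
-/

set_option autoImplicit false
set_option linter.unusedSectionVars false

namespace Cfsg.Agent.OstromWagner

open Configuration

universe uG uP uL

/-- `G` acts faithfully. -/
def Faith (G P : Type*) [Group G] [MulAction G P] : Prop :=
  ∀ g : G, (∀ p : P, g • p = p) → g = 1

/-- `G` is transitive on ordered pairs of distinct elements. -/
def TwoTrans (G P : Type*) [Group G] [MulAction G P] : Prop :=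
  ∀ a b c d : P, a ≠ b → c ≠ d → ∃ g : G, g • a = c ∧ g • b = d

instance instIsCollSub {G P L : Type*} [Group G] [MulAction G P] [MulAction G L]
    [Membership P L] [IsColl G P L] (H : Subgroup G) : IsColl H P L :=
  ⟨fun g p l => IsColl.smul_mem_iff (g : G) p l⟩

/-- All collineations. -/
def collGroup (P : Type uP) (L : Type uL) [Membership P L] :
    Subgroup (Equiv.Perm P × Equiv.Perm L) where
  carrier := {s | ∀ p l, s.1 p ∈ s.2 l ↔ p ∈ l}
  one_mem' _ _ := Iff.rfl
  mul_mem' {a b} ha hb p l := (ha (b.1 p) (b.2 l)).trans (hb p l)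
  inv_mem' {a} ha p l := by
    have := ha (a⁻¹.1 p) (a⁻¹.2 l)
    simpa using this.symm

instance instCollPoints (P : Type uP) (L : Type uL) [Membership P L] :
    MulAction (collGroup P L) P :=
  MulAction.compHom P ((MonoidHom.fst _ _).comp (collGroup P L).subtype)

instance instCollLines (P : Type uP) (L : Type uL) [Membership P L] :
    MulAction (collGroup P L) L :=
  MulAction.compHom L ((MonoidHom.snd _ _).comp (collGroup P L).subtype)

instance instCollIsColl (P : Type uP) (L : Type uL) [Membership P L] :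
    IsColl (collGroup P L) P L :=
  ⟨fun g p l => g.2 p l⟩

theorem collGroup_smul_point {P : Type uP} {L : Type uL} [Membership P L] (g : collGroup P L)
    (p : P) : g • p = g.1.1 p := rfl

theorem collGroup_smul_line {P : Type uP} {L : Type uL} [Membership P L] (g : collGroup P L)
    (l : L) : g • l = g.1.2 l := rfl

theorem collGroup_faith {P : Type uP} {L : Type uL} [Membership P L] [ProjectivePlane P L]
    [Finite P] [Finite L] : Faith (collGroup P L) P := by
  intro g h
  have h2 : ∀ l : L, g • l = l := fix_lines_of_fix_points h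
  exact Subtype.ext (Prod.ext (Equiv.ext h) (Equiv.ext h2))

/-- The homomorphism to the group of all collineations. -/
def toColl (G : Type uG) (P : Type uP) (L : Type uL) [Group G] [MulAction G P] [MulAction G L]
    [Membership P L] [IsColl G P L] : G →* collGroup P L :=
  ((MulAction.toPermHom G P).prod (MulAction.toPermHom G L)).codRestrict _
    (fun g p l => IsColl.smul_mem_iff g p l)

theorem toColl_smul_point {G : Type uG} {P : Type uP} {L : Type uL} [Group G] [MulAction G P]
    [MulAction G L] [Membership P L] [IsColl G P L] (g : G) (p : P) :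
    toColl G P L g • p = g • p := rfl

theorem toColl_smul_line {G : Type uG} {P : Type uP} {L : Type uL} [Group G] [MulAction G P]
    [MulAction G L] [Membership P L] [IsColl G P L] (g : G) (l : L) :
    toColl G P L g • l = g • l := rfl

section group

variable {G : Type uG} [Group G] [Finite G]

/-- A power with odd exponent is a 2-element. -/
theorem exists_odd_pow_two_elt (g : G) : ∃ b, Odd b ∧ IsPGroup 2 (Subgroup.zpowers (g ^ b)) := by
  obtain ⟨a, b, hb, hab⟩ := Nat.exists_eq_two_pow_mul_odd (n := orderOf g) (orderOf_pos g).ne'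
  refine ⟨b, hb, IsPGroup.of_card (n := a) ?_⟩
  rw [Nat.card_zpowers, orderOf_pow' g (by rintro rfl; simp at hb), hab]
  rw [Nat.gcd_eq_right (dvd_mul_left b _), Nat.mul_div_cancel _ hb.pos]

theorem smul_odd_pow {α : Type*} [MulAction G α] {g : G} {x : α} (h : g • g • x = x) {b : ℕ}
    (hb : Odd b) : g ^ b • x = g • x := by
  obtain ⟨c, rfl⟩ := hb
  induction c with
  | zero => simp
  | succ c ih => rw [show 2 * (c + 1) + 1 = 2 + (2 * c + 1) by ring, pow_add, mul_smul, ih, pow_two,
      mul_smul, ← mul_smul g g]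
                 rw [mul_smul, h]

variable {α : Type*} [MulAction G α] {p : ℕ}

/-- Witt's lemma. -/
theorem witt {x y : α} {U : Subgroup G} (hU : IsPGroup p U) [Fact p.Prime]
    (hUx : U ≤ MulAction.stabilizer G x) (hUy : U ≤ MulAction.stabilizer G y)
    (hmax : ∀ V : Subgroup G, IsPGroup p V → U ≤ V → V ≤ MulAction.stabilizer G x → V = U)
    (hxy : ∃ g : G, g • x = y) : ∃ n ∈ Subgroup.normalizer (U : Set G), n • x = y := by
  obtain ⟨g, rfl⟩ := hxy
  set S := MulAction.stabilizer G x with hS
  let PU : Sylow p S :=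
    { toSubgroup := U.subgroupOf S
      isPGroup' := hU.of_equiv (Subgroup.subgroupOfEquivOfLe hUx).symm
      is_maximal' := by
        intro V hV hle
        have h := hmax (V.map S.subtype) (hV.map _)
          (fun u hu => ⟨⟨u, hUx hu⟩, hle (Subgroup.mem_subgroupOf.2 hu), rfl⟩)
          (Subgroup.map_subtype_le V)
        rw [← h, Subgroup.subgroupOf, Subgroup.comap_map_eq_self_of_injective S.subtype_injective] }
  set W := U.map (MulAut.conj g⁻¹).toMonoidHom with hWdef
  have hWS : W ≤ S := by
    rintro _ ⟨u, hu, rfl⟩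
    have h : u • g • x = g • x := hUy hu
    simp [hS, MulAction.mem_stabilizer_iff, mul_smul, h]
  have hW : IsPGroup p (W.subgroupOf S) :=
    (hU.map _).of_equiv (Subgroup.subgroupOfEquivOfLe hWS).symm
  obtain ⟨Q, hQ⟩ := hW.exists_le_sylow
  obtain ⟨s, hs⟩ := MulAction.exists_smul_eq S PU Q
  refine ⟨g * s, ?_, by rw [mul_smul, s.2]⟩
  have hle : ∀ u ∈ U, (s : G)⁻¹ * (g⁻¹ * u * g) * s ∈ U := by
    intro u hu
    have hw : g⁻¹ * u * g ∈ W := ⟨u, hu, by simp⟩
    have h1 : (⟨_, hWS hw⟩ : S) ∈ (s • PU : Sylow p S) := by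
      rw [hs]; exact hQ (Subgroup.mem_subgroupOf.2 hw)
    obtain ⟨t, ht, hts⟩ := h1
    have h2 : (s : G) * (t : G) * (s : G)⁻¹ = g⁻¹ * u * g := congrArg Subtype.val hts
    rw [← h2]
    simpa [mul_assoc] using (Subgroup.mem_subgroupOf.1 ht)
  have hfin : Finite U := inferInstance
  rw [← inv_mem_iff]
  refine Subgroup.mem_normalizer_iff.2 fun u => ⟨fun hu => ?_, fun hu => ?_⟩
  · simpa [mul_assoc] using hle u hu
  · have hinj : Function.Injective (fun u : U => (⟨_, hle u u.2⟩ : U)) := fun a b hab => by
      have := congrArg Subtype.val hab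
      simpa using this
    obtain ⟨a, ha⟩ := (Finite.injective_iff_surjective.1 hinj) ⟨_, hu⟩
    have h3 := congrArg Subtype.val ha
    simp only [mul_inv_rev, inv_inv, mul_assoc, mul_left_cancel_iff, mul_right_cancel_iff] at h3
    rw [← h3]; exact a.2

/-- A transitive action of a group on a set of `p`-power size is transitive for a Sylow subgroup. -/
theorem sylow_transitive [Fact p.Prime] (S : Sylow p G) {x : α} {k : ℕ}
    (hk : Nat.card (MulAction.orbit G x) = p ^ k) {y : α} (hy : y ∈ MulAction.orbit G x) :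
    ∃ s ∈ (S : Subgroup G), s • x = y := by
  have hfinG : Finite (MulAction.orbit G x) := Set.finite_range _ |>.to_subtype
  have hsub : MulAction.orbit (S : Subgroup G) x ⊆ MulAction.orbit G x := by
    rintro _ ⟨s, rfl⟩; exact ⟨(s : G), rfl⟩
  have hidx : ¬ p ∣ (S : Subgroup G).index := S.not_dvd_index
  have e1 : Nat.card (MulAction.orbit G x) * Nat.card (MulAction.stabilizer G x) = Nat.card G := by
    rw [← Nat.card_prod, Nat.card_congr (MulAction.orbitProdStabilizerEquivGroup G x)]
  have e2 : Nat.card (MulAction.orbit (S : Subgroup G) x) *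
      Nat.card (MulAction.stabilizer (S : Subgroup G) x) = Nat.card (S : Subgroup G) := by
    rw [← Nat.card_prod, Nat.card_congr (MulAction.orbitProdStabilizerEquivGroup _ x)]
  have hdvd : Nat.card (MulAction.stabilizer (S : Subgroup G) x) ∣
      Nat.card (MulAction.stabilizer G x) :=
    Subgroup.card_dvd_of_injective
      (((S : Subgroup G).subtype.comp (MulAction.stabilizer (S : Subgroup G) x).subtype).codRestrict
        (MulAction.stabilizer G x) (fun s => s.2))
      (fun a b h => Subtype.ext (Subtype.ext (congrArg (fun z : MulAction.stabilizer G x => (z : G)) h)))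
  obtain ⟨c, hc⟩ := hdvd
  have key : p ^ k * c = Nat.card (MulAction.orbit (S : Subgroup G) x) * (S : Subgroup G).index := by
    have hpos : 0 < Nat.card (MulAction.stabilizer (S : Subgroup G) x) := Nat.card_pos
    apply Nat.eq_of_mul_eq_mul_right hpos
    calc p ^ k * c * Nat.card (MulAction.stabilizer (S : Subgroup G) x)
        = Nat.card G := by rw [← e1, hk, hc]; ring
      _ = Nat.card (S : Subgroup G) * (S : Subgroup G).index := (Subgroup.card_mul_index _).symm
      _ = _ := by rw [← e2]; ring
  have hcop : (p ^ k).Coprime (S : Subgroup G).index :=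
    Nat.Coprime.pow_left _ ((Nat.Prime.coprime_iff_not_dvd Fact.out).2 hidx)
  have hd : p ^ k ∣ Nat.card (MulAction.orbit (S : Subgroup G) x) :=
    hcop.dvd_of_dvd_mul_right (Dvd.intro c key)
  have heq : MulAction.orbit (S : Subgroup G) x = MulAction.orbit G x := by
    refine Set.eq_of_subset_of_ncard_le hsub ?_ (Set.finite_range _)
    rw [← Nat.card_coe_set_eq, ← Nat.card_coe_set_eq, hk]
    have : Finite (MulAction.orbit (S : Subgroup G) x) := Set.finite_range _ |>.to_subtype
    have : Nonempty (MulAction.orbit (S : Subgroup G) x) := ⟨⟨x, MulAction.mem_orbit_self x⟩⟩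
    exact Nat.le_of_dvd Nat.card_pos hd
  rw [← heq] at hy
  obtain ⟨s, hs⟩ := hy
  exact ⟨s, s.2, hs⟩

/-- Maximal `p`-subgroups of a subgroup contain its Sylow subgroups' order. -/
theorem exists_max_in [Fact p.Prime] {U K : Subgroup G} (hU : IsPGroup p U) (hUK : U ≤ K) :
    ∃ S : Subgroup G, U ≤ S ∧ S ≤ K ∧ IsPGroup p S ∧
      ∀ V : Subgroup G, IsPGroup p V → V ≤ K → Nat.card V ∣ Nat.card S := by
  obtain ⟨Q, hQ⟩ := (hU.of_equiv (Subgroup.subgroupOfEquivOfLe hUK).symm).exists_le_sylow
  refine ⟨(Q : Subgroup K).map K.subtype, fun u hu => ⟨⟨u, hUK hu⟩, hQ (Subgroup.mem_subgroupOf.2 hu),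
    rfl⟩, Subgroup.map_subtype_le _, Q.isPGroup'.map _, fun V hV hVK => ?_⟩
  obtain ⟨Q', hQ'⟩ := (hV.of_equiv (Subgroup.subgroupOfEquivOfLe hVK).symm).exists_le_sylow
  rw [Nat.card_congr (Subgroup.equivMapOfInjective _ _ K.subtype_injective).symm.toEquiv,
    ← Nat.card_congr (Subgroup.subgroupOfEquivOfLe hVK).toEquiv,
    show Nat.card (Q : Subgroup K) = Nat.card (Q' : Subgroup K) by
      rw [Q.card_eq_multiplicity, Q'.card_eq_multiplicity]]
  exact Subgroup.card_dvd_of_le hQ'

end group

section transitive

variable {G : Type uG} {P : Type uP} {L : Type uL} [Group G] [MulAction G P] [MulAction G L]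
  [Membership P L] [ProjectivePlane P L] [IsColl G P L] [Finite G] [Finite P] [Finite L]

omit [MulAction G L] [IsColl G P L] [Finite L] [Membership P L] [ProjectivePlane P L] in
/-- Burnside's lemma for a product of two actions. -/
theorem card_orbits_prod (A : Type*) (B : Type*) [MulAction G A] [MulAction G B] [Finite A]
    [Finite B] [Fintype G] :
    ∑ g : G, Nat.card (MulAction.fixedBy A g) * Nat.card (MulAction.fixedBy B g) =
      Nat.card (MulAction.orbitRel.Quotient G (A × B)) * Nat.card G := by
  classical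
  cases nonempty_fintype A
  cases nonempty_fintype B
  rw [Nat.card_eq_fintype_card (α := MulAction.orbitRel.Quotient G (A × B)),
    Nat.card_eq_fintype_card (α := G),
    ← MulAction.sum_card_fixedBy_eq_card_orbits_mul_card_group G (A × B)]
  refine Finset.sum_congr rfl fun g _ => ?_
  rw [← Nat.card_eq_fintype_card, ← Nat.card_prod]
  exact Nat.card_congr
    ⟨fun x => ⟨(x.1.1, x.2.1), Prod.ext x.1.2 x.2.2⟩,
     fun x => (⟨x.1.1, congrArg Prod.fst x.2⟩, ⟨x.1.2, congrArg Prod.snd x.2⟩),
     fun _ => rfl, fun _ => rfl⟩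

omit [Finite G] in
/-- With two orbits and an invariant nontrivial predicate, each class is one orbit. -/
theorem orbit_of_two {X : Type*} [MulAction G X] [Finite X]
    (h : Nat.card (MulAction.orbitRel.Quotient G X) = 2) (q : X → Prop)
    (hinv : ∀ (g : G) x, q (g • x) ↔ q x) {t f : X} (ht : q t) (hf : ¬ q f) {x y : X}
    (hxy : q x ↔ q y) : ∃ g : G, g • x = y := by
  classical
  let F : MulAction.orbitRel.Quotient G X → Bool :=
    Quotient.lift (fun x => decide (q x)) (fun a b hab => by
      obtain ⟨g, rfl⟩ := hab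
      simp [hinv])
  have hsurj : Function.Surjective F := fun b => by
    cases b
    · exact ⟨Quotient.mk'' f, decide_eq_false hf⟩
    · exact ⟨Quotient.mk'' t, decide_eq_true ht⟩
  have hbij := (Nat.bijective_iff_surjective_and_card F).2 ⟨hsurj, by rw [h]; simp⟩
  have := hbij.1 (a₁ := Quotient.mk'' y) (a₂ := Quotient.mk'' x)
    (show decide (q y) = decide (q x) by simp [hxy])
  exact Quotient.exact' this

variable (hP : TwoTrans G P)
include hP

theorem card_orbits_points (hne : ∃ a b : P, a ≠ b) :
    Nat.card (MulAction.orbitRel.Quotient G (P × P)) = 2 := by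
  classical
  let F : MulAction.orbitRel.Quotient G (P × P) → Bool :=
    Quotient.lift (fun x => decide (x.1 = x.2)) (fun a b hab => by
      obtain ⟨g, rfl⟩ := hab
      simp)
  have hb : Function.Bijective F := by
    refine ⟨?_, fun b => ?_⟩
    · intro x y
      induction x using Quotient.inductionOn' with | h x =>
      induction y using Quotient.inductionOn' with | h y =>
      intro hxy
      obtain ⟨a, a'⟩ := x
      obtain ⟨b, b'⟩ := y
      have hiff : (a = a') ↔ (b = b') := by simpa [F] using hxy
      refine Quotient.sound' ?_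
      by_cases e : a = a'
      · obtain ⟨u, v, huv⟩ := hne
        obtain ⟨w, hw⟩ : ∃ w, w ≠ b := by
          by_cases e' : u = b
          · exact ⟨v, fun e'' => huv (e'.trans e''.symm)⟩
          · exact ⟨u, e'⟩
        obtain ⟨w', hw'⟩ : ∃ w, w ≠ a := by
          by_cases e' : u = a
          · exact ⟨v, fun e'' => huv (e'.trans e''.symm)⟩
          · exact ⟨u, e'⟩
        obtain ⟨g, hg, -⟩ := hP b w a w' hw.symm hw'.symm
        exact ⟨g, Prod.ext hg (by rw [← hiff.1 e, ← e]; exact hg)⟩
      · obtain ⟨g, hg, hg'⟩ := hP b b' a a' (fun h => e (hiff.2 h)) e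
        exact ⟨g, Prod.ext hg hg'⟩
    · obtain ⟨u, v, huv⟩ := hne
      cases b
      · exact ⟨Quotient.mk'' (u, v), decide_eq_false huv⟩
      · exact ⟨Quotient.mk'' (u, u), decide_eq_true rfl⟩
  rw [Nat.card_eq_of_bijective F hb]; simp

omit hP in
theorem exists_ne_points (L : Type uL) [Membership P L] [ProjectivePlane P L] [Finite L] :
    ∃ a b : P, a ≠ b := by
  obtain ⟨p₁, p₂, p₃, l₁, l₂, l₃, h₁₂, -, -, h₂₂, -⟩ := @ProjectivePlane.exists_config P L _ _
  exact ⟨p₁, p₂, fun e => h₁₂ (e ▸ h₂₂)⟩

theorem card_orbits_lines :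
    Nat.card (MulAction.orbitRel.Quotient G (L × L)) = 2 := by
  cases nonempty_fintype G
  have h := card_orbits_prod (G := G) L L
  simp only [← card_fixedBy_eq (P := P) (L := L), card_orbits_prod (G := G) P P,
    card_orbits_points hP (exists_ne_points L)] at h
  exact (Nat.eq_of_mul_eq_mul_right Nat.card_pos h).symm

theorem card_orbits_mixed :
    Nat.card (MulAction.orbitRel.Quotient G (P × L)) = 2 := by
  cases nonempty_fintype G
  have h := card_orbits_prod (G := G) P L
  simp only [← card_fixedBy_eq (P := P) (L := L), card_orbits_prod (G := G) P P,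
    card_orbits_points hP (exists_ne_points L)] at h
  exact (Nat.eq_of_mul_eq_mul_right Nat.card_pos h).symm

/-- Ostrom's theorem: the collineation group is 2-transitive on lines. -/
theorem twoTrans_lines : TwoTrans G L := by
  intro a b c d hab hcd
  obtain ⟨g, hg⟩ := orbit_of_two (card_orbits_lines (P := P) hP) (fun x : L × L => x.1 = x.2)
    (fun g x => by simp) (t := (a, a)) (f := (a, b)) rfl hab (x := (a, b)) (y := (c, d))
    (by simp [hab, hcd])
  exact ⟨g, congrArg Prod.fst hg, congrArg Prod.snd hg⟩

theorem antiflag_trans {p q : P} {l m : L} (hp : p ∉ l) (hq : q ∉ m) :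
    ∃ g : G, g • p = q ∧ g • l = m := by
  obtain ⟨a, ha, -⟩ := exists_ne_ne_mem l p p
  obtain ⟨g, hg⟩ := orbit_of_two (card_orbits_mixed (P := P) (L := L) hP)
    (fun x : P × L => x.1 ∈ x.2) (fun g x => IsColl.smul_mem_iff g x.1 x.2) (t := (a, l))
    (f := (p, l)) ha hp (x := (p, l)) (y := (q, m)) (by simp [hp, hq])
  exact ⟨g, congrArg Prod.fst hg, congrArg Prod.snd hg⟩

theorem flag_trans {p q : P} {l m : L} (hp : p ∈ l) (hq : q ∈ m) :
    ∃ g : G, g • p = q ∧ g • l = m := by
  obtain ⟨a, ha⟩ := Nondegenerate.exists_point (P := P) l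
  obtain ⟨g, hg⟩ := orbit_of_two (card_orbits_mixed (P := P) (L := L) hP)
    (fun x : P × L => x.1 ∈ x.2) (fun g x => IsColl.smul_mem_iff g x.1 x.2) (t := (p, l))
    (f := (a, l)) hp ha (x := (p, l)) (y := (q, m)) (by simp [hp, hq])
  exact ⟨g, congrArg Prod.fst hg, congrArg Prod.snd hg⟩

end transitive

end Cfsg.Agent.OstromWagner
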