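import Cfsg.Agent.Lib.OstromWagner.Coll

/-!
The groups of elations with a given axis, and the counting of homology centres.
-/

set_option autoImplicit false
set_option linter.unusedSectionVars false

namespace Cfsg.Agent.OstromWagner

open Configuration

universe uG uP uL

section elation

variable {G : Type uG} {P : Type uP} {L : Type uL} [Group G] [MulAction G P] [MulAction G L]
  [Membership P L] [ProjectivePlane P L] [IsColl G P L] [Finite P] [Finite L]

theorem Faith.moved (hf : Faith G P) {g : G} (hg : g ≠ 1) : ∃ p : P, g • p ≠ p := by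
  by_contra h; push Not at h; exact hg (hf g h)

theorem Faith.lines (hf : Faith G P) : Faith G L := fun g h =>
  hf g (fix_points_of_fix_lines h)

theorem Axial.one (l : L) : Axial (P := P) (1 : G) l := fun _ _ => one_smul _ _

theorem Axial.mul {a b : G} {l : L} (ha : Axial (P := P) a l) (hb : Axial (P := P) b l) :
    Axial (P := P) (a * b) l := fun p hp => by rw [mul_smul, hb p hp, ha p hp]

theorem Axial.inv {a : G} {l : L} (ha : Axial (P := P) a l) : Axial (P := P) a⁻¹ l :=
  fun p hp => inv_smul_eq_iff.2 (ha p hp).symm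

theorem Axial.not_mem {a : G} {l : L} (ha : Axial (P := P) a l) {p : P} (hp : p ∉ l) :
    a • p ∉ l := fun h => hp (mem_of_smul_mem a (ha.smul_line.symm ▸ h))

variable (G P) in
/-- All collineations in `G` with axis `l`. -/
def axGrp (l : L) : Subgroup G where
  carrier := {g | Axial (P := P) g l}
  one_mem' := Axial.one l
  mul_mem' := Axial.mul
  inv_mem' := Axial.inv

theorem mem_axGrp {g : G} {l : L} : g ∈ axGrp G P l ↔ Axial (P := P) g l := Iff.rfl

theorem center_mem_of_semiregular {g : G} {l : L} (hg : Axial (P := P) g l)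
    (hs : ∀ p : P, p ∉ l → g • p = p → g = 1) (hne : g ≠ 1) {C : P} (hC : Central (L := L) g C) :
    C ∈ l := by
  by_contra h
  exact hne (hs C h hC.smul_point)

/-- Two elations with the same axis compose to an elation. -/
theorem elation_mul (hf : Faith G P) {a b : G} {l : L} (ha : Axial (P := P) a l)
    (hb : Axial (P := P) b l) (ha' : ∀ p : P, p ∉ l → a • p = p → a = 1)
    (hb' : ∀ p : P, p ∉ l → b • p = p → b = 1) {A : P} (hA : A ∉ l) (h : (a * b) • A = A) :
    a * b = 1 := by
  by_contra hne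
  have hab : a • (b • A) = A := by rw [← mul_smul]; exact h
  by_cases hbA : b • A = A
  · rw [hbA] at hab
    exact hne (by rw [hb' A hA hbA, ha' A hA hab, mul_one])
  have ha1 : a ≠ 1 := fun e => hbA (by rw [e, one_smul] at hab; exact hab)
  have hb1 : b ≠ 1 := fun e => hbA (by rw [e, one_smul])
  obtain ⟨X, hX⟩ := ha.exists_center
  obtain ⟨Y, hY⟩ := hb.exists_center
  have hXl := center_mem_of_semiregular ha ha' ha1 hX
  have hYl := center_mem_of_semiregular hb hb' hb1 hY
  have hbAl : b • A ∉ l := fun h' => hA (by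
    rw [← hb.smul_line] at h'; exact mem_of_smul_mem b h')
  have hX' : X ∈ join L A (b • A) := by
    have h1 := hX (join L X (b • A)) (left_mem_join _ _)
    have h2 : A ∈ join L X (b • A) := by
      have := smul_mem_of_fix h1 (right_mem_join X (b • A))
      rwa [hab] at this
    rw [join_eq (Ne.symm hbA) h2 (right_mem_join X (b • A))]
    exact left_mem_join _ _
  have hY' : Y ∈ join L A (b • A) := by
    have h1 := hY (join L Y A) (left_mem_join _ _)
    rw [join_eq (Ne.symm hbA) (right_mem_join Y A)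
      (smul_mem_of_fix h1 (right_mem_join Y A))]
    exact left_mem_join _ _
  have hjl : join L A (b • A) ≠ l := fun e => hA (e ▸ left_mem_join A (b • A))
  have hXY : X = Y := point_eq hjl hX' hXl hY' hYl
  have hc : Central (L := L) (a * b) X := fun m hm => by
    rw [mul_smul, hY m (hXY ▸ hm), hX m hm]
  exact hA ((center_unique ((ha.mul hb).central_of_fix hA h) hc (hf.moved hne)) ▸ hXl)

/-- The elations with axis `l`. -/
def elGrp (hf : Faith G P) (l : L) : Subgroup G where
  carrier := {g | Axial (P := P) g l ∧ ∀ p : P, p ∉ l → g • p = p → g = 1}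
  one_mem' := ⟨Axial.one l, fun _ _ _ => rfl⟩
  mul_mem' {a b} ha hb := ⟨ha.1.mul hb.1, fun _ hA h => elation_mul hf ha.1 hb.1 ha.2 hb.2 hA h⟩
  inv_mem' {a} ha := ⟨ha.1.inv, fun p hp h => by
    rw [ha.2 p hp (inv_smul_eq_iff.1 h).symm, inv_one]⟩

theorem mem_elGrp {hf : Faith G P} {g : G} {l : L} :
    g ∈ elGrp hf l ↔ Axial (P := P) g l ∧ ∀ p : P, p ∉ l → g • p = p → g = 1 := Iff.rfl

theorem elation_center (hf : Faith G P) {g : G} {l : L} (hg : g ∈ elGrp hf l) :
    ∃ C : P, C ∈ l ∧ Central (L := L) g C := by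
  by_cases h : g = 1
  · obtain ⟨C, hC, -⟩ := exists_ne_ne_mem l (meet P l l) (meet P l l)
    exact ⟨C, hC, fun m _ => by rw [h, one_smul]⟩
  · obtain ⟨C, hC⟩ := hg.1.exists_center
    exact ⟨C, center_mem_of_semiregular hg.1 hg.2 h hC, hC⟩

theorem mem_elGrp_of_center (hf : Faith G P) {g : G} {l : L} (hg : Axial (P := P) g l) {C : P}
    (hC : C ∈ l) (hgC : Central (L := L) g C) : g ∈ elGrp hf l :=
  ⟨hg, fun _ hp h => by
    by_contra hne
    exact hp (center_unique (hg.central_of_fix hp h) hgC (hf.moved hne) ▸ hC)⟩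

/-- The elations with centre `C` and axis `l`. -/
def elC (G : Type uG) [Group G] [MulAction G P] [MulAction G L] [IsColl G P L] (C : P) (l : L) :
    Subgroup G where
  carrier := {g | Axial (P := P) g l ∧ Central (L := L) g C}
  one_mem' := ⟨Axial.one l, fun _ _ => one_smul _ _⟩
  mul_mem' {a b} ha hb := ⟨ha.1.mul hb.1, fun m hm => by rw [mul_smul, hb.2 m hm, ha.2 m hm]⟩
  inv_mem' {a} ha := ⟨ha.1.inv, fun m hm => inv_smul_eq_iff.2 (ha.2 m hm).symm⟩

theorem mem_elC {g : G} {C : P} {l : L} :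
    g ∈ elC G C l ↔ Axial (P := P) g l ∧ Central (L := L) g C := Iff.rfl

theorem elC_le (hf : Faith G P) {C : P} {l : L} (hC : C ∈ l) : elC G C l ≤ elGrp hf l :=
  fun _ hg => mem_elGrp_of_center hf hg.1 hC hg.2

theorem elC_inter (hf : Faith G P) {C D : P} {l : L} (hCD : C ≠ D) {g : G}
    (hg : g ∈ elC G C l) (hg' : g ∈ elC G D l) : g = 1 := by
  by_contra hne
  exact hCD (center_unique hg.2 hg'.2 (hf.moved hne))

theorem elC_conj {C : P} {l : L} {g : G} (hg : g ∈ elC G C l) (k : G) (hC : k • C = C)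
    (hl : k • l = l) : k * g * k⁻¹ ∈ elC G C l := by
  refine ⟨?_, ?_⟩
  · have := hg.1.smul k; rwa [hl] at this
  · have := hg.2.smul k; rwa [hC] at this

/-- An elation group with two different centres is elementary abelian. -/
theorem elGrp_elementary [Finite G] (hf : Faith G P) {l : L} {C D : P} (hC : C ∈ l) (hD : D ∈ l)
    (hCD : C ≠ D) (hC1 : ∃ g ∈ elC G C l, g ≠ 1) (hD1 : ∃ g ∈ elC G D l, g ≠ 1) :
    ∃ p : ℕ, p.Prime ∧ IsPGroup p (elGrp hf l) ∧
      (∀ a ∈ elGrp hf l, a ^ p = 1) ∧ ∀ a ∈ elGrp hf l, ∀ b ∈ elGrp hf l, a * b = b * a := by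
  classical
  -- elations with different centres commute
  have hdiff : ∀ {X Y : P}, X ∈ l → Y ∈ l → X ≠ Y → ∀ {a b : G}, a ∈ elC G X l → b ∈ elC G Y l →
      a * b = b * a := by
    intro X Y hX hY hXY a b ha hb
    have h1 : a * (b * a⁻¹ * b⁻¹) ∈ elC G X l :=
      mul_mem ha (elC_conj (inv_mem ha) b (hb.1 X hX) hb.1.smul_line)
    have h2 : (a * b * a⁻¹) * b⁻¹ ∈ elC G Y l :=
      mul_mem (elC_conj hb a (ha.1 Y hY) ha.1.smul_line) (inv_mem hb)
    rw [show a * b * a⁻¹ * b⁻¹ = a * (b * a⁻¹ * b⁻¹) by simp [mul_assoc]] at h2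
    have h3 := elC_inter hf hXY h1 h2
    calc a * b = a * (b * a⁻¹ * b⁻¹) * (b * a) := by simp [mul_assoc]
      _ = b * a := by rw [h3, one_mul]
  have hother : ∀ X : P, ∃ Y, Y ∈ l ∧ Y ≠ X ∧ ∃ g ∈ elC G Y l, g ≠ 1 := fun X => by
    by_cases h : C = X
    · exact ⟨D, hD, fun e => hCD (h.trans e.symm), hD1⟩
    · exact ⟨C, hC, h, hC1⟩
  -- a product of elations with different centres has a third centre
  have hthird : ∀ {X Y : P}, X ∈ l → Y ∈ l → X ≠ Y → ∀ {a b : G}, a ∈ elC G X l → b ∈ elC G Y l →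
      b ≠ 1 → a ≠ 1 → ∃ Z, Z ∈ l ∧ Z ≠ X ∧ Z ≠ Y ∧ a * b ∈ elC G Z l := by
    intro X Y hX hY hXY a b ha hb hb1 ha1
    have hab : a * b ∈ elGrp hf l := mul_mem (elC_le hf hX ha) (elC_le hf hY hb)
    obtain ⟨Z, hZ, hZc⟩ := elation_center hf hab
    have hm : a * b ∈ elC G Z l := ⟨hab.1, hZc⟩
    refine ⟨Z, hZ, ?_, ?_, hm⟩
    · rintro rfl
      refine hb1 (elC_inter hf hXY ?_ hb)
      have := mul_mem (inv_mem ha) hm
      simpa using this
    · rintro rfl
      refine ha1 (elC_inter hf hXY ha ?_)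
      have := mul_mem hm (inv_mem hb)
      simpa using this
  have hcomm : ∀ a ∈ elGrp hf l, ∀ b ∈ elGrp hf l, a * b = b * a := by
    intro a ha b hb
    obtain ⟨X, hX, hXc⟩ := elation_center hf ha
    obtain ⟨Y, hY, hYc⟩ := elation_center hf hb
    have ha' : a ∈ elC G X l := ⟨ha.1, hXc⟩
    have hb' : b ∈ elC G Y l := ⟨hb.1, hYc⟩
    by_cases hXY : X = Y
    · subst hXY
      by_cases ha1 : a = 1
      · rw [ha1, one_mul, mul_one]
      obtain ⟨W, hW, hWX, f, hf', hf1⟩ := hother X
      obtain ⟨Z, hZ, hZX, -, hZm⟩ := hthird hX hW (Ne.symm hWX) ha' hf' hf1 ha1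
      have h1 := hdiff hX hZ (Ne.symm hZX) hb' hZm
      have h2 := hdiff hX hW (Ne.symm hWX) hb' hf'
      calc a * b = a * (b * f) * f⁻¹ := by simp [mul_assoc]
        _ = a * (f * b) * f⁻¹ := by rw [h2]
        _ = (a * f) * b * f⁻¹ := by simp [mul_assoc]
        _ = b * (a * f) * f⁻¹ := by rw [h1]
        _ = b * a := by simp [mul_assoc]
    · exact hdiff hX hY hXY ha' hb'
  obtain ⟨c, hc, hc1⟩ := hC1
  obtain ⟨p, hp, hpd⟩ := Nat.exists_prime_and_dvd (n := orderOf c) (by simpa using hc1)
  set e := c ^ (orderOf c / p) with he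
  have heC : e ∈ elC G C l := pow_mem hc _
  have hep : orderOf e = p := orderOf_pow_orderOf_div (orderOf_pos c).ne' hpd
  have he1 : e ≠ 1 := fun h => hp.ne_one (by rw [← hep, h, orderOf_one])
  -- every elation with another centre has exponent dividing `p`
  have step : ∀ {X Y : P}, X ∈ l → Y ∈ l → X ≠ Y → ∀ {a b : G}, a ∈ elC G X l → b ∈ elC G Y l →
      a ≠ 1 → a ^ p = 1 → b ^ p = 1 := by
    intro X Y hX hY hXY a b ha hb ha1 hap
    by_contra hbp
    have hb1 : b ≠ 1 := fun h => hbp (by rw [h, one_pow])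
    obtain ⟨Z, hZ, -, hZY, hm⟩ := hthird hX hY hXY ha hb hb1 ha1
    have h1 : b ^ p ∈ elC G Z l := by
      have := pow_mem hm p
      rwa [(show Commute a b from hdiff hX hY hXY ha hb).mul_pow, hap, one_mul] at this
    exact hbp (elC_inter hf hZY h1 (pow_mem hb p))
  have hexp : ∀ a ∈ elGrp hf l, a ^ p = 1 := by
    intro a ha
    obtain ⟨X, hX, hXc⟩ := elation_center hf ha
    have ha' : a ∈ elC G X l := ⟨ha.1, hXc⟩
    by_cases hXC : X = C
    · subst hXC
      obtain ⟨d, hd, hd1⟩ := hD1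
      have hdp := step hC hD hCD heC hd he1 (by rw [← hep, pow_orderOf_eq_one])
      exact step hD hC (Ne.symm hCD) hd ha' hd1 hdp
    · exact step hC hX (Ne.symm hXC) heC ha' he1 (by rw [← hep, pow_orderOf_eq_one])
  exact ⟨p, hp, fun g => ⟨1, by rw [pow_one]; exact Subtype.ext (hexp g g.2)⟩, hexp, hcomm⟩

variable [Finite G]

open Classical in
/-- Elements of `K` other than `1` fixing a point of the orbit `O`. -/
theorem card_fixing (hf : Faith G P) {l : L} {A : P} (hA : A ∉ l) [Fintype (axGrp G P l)]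
    [Fintype P] :
    (Finset.univ.filter fun g : axGrp G P l =>
        g ≠ 1 ∧ ∃ B ∈ MulAction.orbit (axGrp G P l) A, g • B = B).card =
      Nat.card (MulAction.orbit (axGrp G P l) A) *
        (Nat.card (MulAction.stabilizer (axGrp G P l) A) - 1) := by
  classical
  set O := MulAction.orbit (axGrp G P l) A with hO
  have heq : (Finset.univ.filter fun g : axGrp G P l => g ≠ 1 ∧ ∃ B ∈ O, g • B = B) =
      (Finset.univ.filter fun B : P => B ∈ O).biUnion
        (fun B => Finset.univ.filter fun g : axGrp G P l => g ≠ 1 ∧ g • B = B) := by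
    ext g
    simp only [Finset.mem_filter, Finset.mem_univ, true_and, Finset.mem_biUnion]
    exact ⟨fun ⟨h, B, h1, h2⟩ => ⟨B, h1, h, h2⟩, fun ⟨B, h1, h, h2⟩ => ⟨h, B, h1, h2⟩⟩
  have hoff : ∀ B ∈ O, B ∉ l := by
    rintro _ ⟨k, rfl⟩
    exact (show Axial (P := P) (k : G) l from k.2).not_mem hA
  have hdisj : ((Finset.univ.filter fun B : P => B ∈ O) : Set P).PairwiseDisjoint
      (fun B => Finset.univ.filter fun g : axGrp G P l => g ≠ 1 ∧ g • B = B) := by
    intro B hB B' hB' hne
    rw [Function.onFun, Finset.disjoint_left]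
    intro g hg hg'
    simp only [Finset.mem_filter, Finset.mem_univ, true_and, Finset.coe_filter, Set.mem_setOf_eq]
      at hB hB' hg hg'
    have hax : Axial (P := P) (g : G) l := g.2
    exact hne (center_unique (hax.central_of_fix (hoff B hB) hg.2)
      (hax.central_of_fix (hoff B' hB') hg'.2)
      (hf.moved (fun e => hg.1 (Subtype.ext e))))
  have hconst : ∀ B ∈ (Finset.univ.filter fun B : P => B ∈ O),
      (Finset.univ.filter fun g : axGrp G P l => g ≠ 1 ∧ g • B = B).card =
        Nat.card (MulAction.stabilizer (axGrp G P l) A) - 1 := by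
    intro B hB
    simp only [Finset.mem_filter, Finset.mem_univ, true_and] at hB
    obtain ⟨k, rfl⟩ := hB
    have e : Nat.card (MulAction.stabilizer (axGrp G P l) (k • A)) =
        Nat.card (MulAction.stabilizer (axGrp G P l) A) :=
      (Nat.card_congr (MulAction.stabilizerEquivStabilizer (g := k) rfl).toEquiv).symm
    rw [← e, Nat.card_eq_fintype_card, ← Finset.card_univ, ← Finset.card_erase_of_mem
      (Finset.mem_univ (1 : MulAction.stabilizer (axGrp G P l) (k • A)))]
    refine Finset.card_bij (fun g hg => ⟨g, (Finset.mem_filter.1 hg).2.2⟩)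
      (fun g hg => Finset.mem_erase.2 ⟨fun e => (Finset.mem_filter.1 hg).2.1
        (congrArg Subtype.val e), Finset.mem_univ _⟩)
      (fun a _ b _ e => congrArg Subtype.val e)
      (fun s hs => ⟨s.1, Finset.mem_filter.2 ⟨Finset.mem_univ _,
        fun e => (Finset.mem_erase.1 hs).1 (Subtype.ext e), s.2⟩, rfl⟩)
  rw [heq, Finset.card_biUnion hdisj, Finset.sum_const_nat hconst, Nat.card_coe_set_eq,
    ← Set.ncard_coe_finset]
  simp

/-- All homology centres of one axis form one orbit of the elations. -/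
theorem centers_orbit (hf : Faith G P) {l : L} {A : P} (hA : A ∉ l)
    (hA1 : ∃ g : G, g ≠ 1 ∧ Axial (P := P) g l ∧ g • A = A) :
    (∀ B : P, B ∉ l → (∃ g : G, g ≠ 1 ∧ Axial (P := P) g l ∧ g • B = B) →
      ∃ t ∈ elGrp hf l, t • A = B) := by
  classical
  cases nonempty_fintype G
  cases nonempty_fintype P
  obtain ⟨g₀, hg₀, hg₀a, hg₀A⟩ := hA1
  have orb : ∀ X : P, Nat.card (MulAction.orbit (axGrp G P l) X) * Nat.card (MulAction.stabilizer (axGrp G P l) X) =
      Nat.card (axGrp G P l) := fun X => by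
    rw [← Nat.card_prod, Nat.card_congr (MulAction.orbitProdStabilizerEquivGroup (axGrp G P l) X)]
  have stab2 : ∀ X : P, (∃ g : G, g ≠ 1 ∧ Axial (P := P) g l ∧ g • X = X) →
      2 ≤ Nat.card (MulAction.stabilizer (axGrp G P l) X) := by
    rintro X ⟨g, hg, hga, hgX⟩
    have : Nontrivial (MulAction.stabilizer (axGrp G P l) X) :=
      ⟨⟨⟨g, hga⟩, hgX⟩, 1, fun e => hg (congrArg (fun z : MulAction.stabilizer (axGrp G P l) X => (z.1 : G)) e)⟩
    exact Finite.one_lt_card
  have hoff : ∀ X : P, X ∉ l → ∀ B ∈ MulAction.orbit (axGrp G P l) X, B ∉ l := by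
    rintro X hX _ ⟨k, rfl⟩
    exact (show Axial (P := P) (k : G) l from k.2).not_mem hX
  have honeorbit : ∀ B : P, B ∉ l → (∃ g : G, g ≠ 1 ∧ Axial (P := P) g l ∧ g • B = B) →
      B ∈ MulAction.orbit (axGrp G P l) A := by
    intro B hB hB1
    by_contra hnot
    set ZA := Finset.univ.filter fun g : (axGrp G P l) => g ≠ 1 ∧ ∃ X ∈ MulAction.orbit (axGrp G P l) A, g • X = X
    set ZB := Finset.univ.filter fun g : (axGrp G P l) => g ≠ 1 ∧ ∃ X ∈ MulAction.orbit (axGrp G P l) B, g • X = X
    have hd : Disjoint ZA ZB := by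
      rw [Finset.disjoint_left]
      intro g hg hg'
      simp only [ZA, ZB, Finset.mem_filter, Finset.mem_univ, true_and] at hg hg'
      obtain ⟨hg1, X, hX, hgX⟩ := hg
      obtain ⟨-, Y, hY, hgY⟩ := hg'
      have hax : Axial (P := P) (g : G) l := g.2
      have := center_unique (hax.central_of_fix (hoff A hA X hX) hgX)
        (hax.central_of_fix (hoff B hB Y hY) hgY) (hf.moved (fun e => hg1 (Subtype.ext e)))
      subst this
      exact hnot ((MulAction.orbit_eq_iff.2 hX).symm.trans (MulAction.orbit_eq_iff.2 hY) ▸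
        MulAction.mem_orbit_self B)
    have h1 : (ZA ∪ ZB).card ≤ (Finset.univ.erase (1 : (axGrp G P l))).card :=
      Finset.card_le_card fun g hg => by
        simp only [ZA, ZB, Finset.mem_union, Finset.mem_filter] at hg
        rcases hg with h | h <;> exact Finset.mem_erase.2 ⟨h.2.1, Finset.mem_univ _⟩
    rw [Finset.card_union_of_disjoint hd, card_fixing hf hA, card_fixing hf hB,
      Finset.card_erase_of_mem (Finset.mem_univ _), Finset.card_univ, ← Nat.card_eq_fintype_card,
      Nat.mul_sub, Nat.mul_sub, orb, orb, mul_one, mul_one] at h1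
    have a2 := Nat.mul_le_mul_left (Nat.card (MulAction.orbit (axGrp G P l) A)) (stab2 A ⟨g₀, hg₀, hg₀a, hg₀A⟩)
    have b2 := Nat.mul_le_mul_left (Nat.card (MulAction.orbit (axGrp G P l) B)) (stab2 B hB1)
    rw [orb] at a2 b2
    have : 0 < Nat.card (axGrp G P l) := Nat.card_pos
    omega
  intro B hB hB1
  -- the elations are the complement of the elements fixing a point of the orbit
  set T := elGrp hf l
  set Z := Finset.univ.filter fun g : (axGrp G P l) => g ≠ 1 ∧ ∃ X ∈ MulAction.orbit (axGrp G P l) A, g • X = X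
  have hT : (Finset.univ.filter fun g : (axGrp G P l) => (g : G) ∈ T) = Finset.univ \ Z := by
    ext g
    simp only [Z, Finset.mem_filter, Finset.mem_univ, true_and, Finset.mem_sdiff, not_and, not_exists]
    constructor
    · intro hg hg1 X hX hgX
      exact hg1 (Subtype.ext (hg.2 X (hoff A hA X hX) hgX))
    · intro h
      refine ⟨g.2, fun p hp hgp => ?_⟩
      by_contra hg1
      exact h (fun e => hg1 (by rw [e]; rfl)) p (honeorbit p hp ⟨g, hg1, g.2, hgp⟩) hgp
  have hTc : Nat.card T = Nat.card (MulAction.orbit (axGrp G P l) A) := by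
    have h1 : Nat.card T = (Finset.univ.filter fun g : (axGrp G P l) => (g : G) ∈ T).card := by
      rw [← Fintype.card_subtype, ← Nat.card_eq_fintype_card]
      exact Nat.card_congr ⟨fun t => ⟨⟨t.1, t.2.1⟩, t.2⟩, fun g => ⟨g.1.1, g.2⟩, fun _ => rfl,
        fun _ => rfl⟩
    rw [h1, hT, Finset.card_sdiff_of_subset (Finset.subset_univ _), card_fixing hf hA,
      Finset.card_univ, ← Nat.card_eq_fintype_card, Nat.mul_sub, orb, mul_one]
    have := orb A
    have : Nat.card (MulAction.orbit (axGrp G P l) A) ≤ Nat.card (axGrp G P l) :=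
      le_trans (Nat.le_mul_of_pos_right _ Nat.card_pos) this.le
    omega
  let F : T → MulAction.orbit (axGrp G P l) A := fun t => ⟨(t : G) • A, ⟨⟨t.1, t.2.1⟩, rfl⟩⟩
  have hinj : Function.Injective F := fun a b e => by
    have e' : (a : G) • A = (b : G) • A := congrArg Subtype.val e
    have h1 : ((b : G)⁻¹ * a) • A = A := by rw [mul_smul, e', inv_smul_smul]
    exact Subtype.ext (inv_mul_eq_one.1 ((mul_mem (inv_mem b.2) a.2).2 A hA h1)).symm
  obtain ⟨t, ht⟩ := ((Nat.bijective_iff_injective_and_card F).2 ⟨hinj, hTc⟩).2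
    ⟨B, honeorbit B hB hB1⟩
  exact ⟨t, t.2, congrArg Subtype.val ht⟩

/-- Elations act semiregularly off the axis, so their number divides `n ^ 2`. -/
theorem card_elGrp_dvd (hf : Faith G P) (l : L) :
    Nat.card (elGrp hf l) ∣ ProjectivePlane.order P L ^ 2 := by
  classical
  cases nonempty_fintype P
  set T := elGrp hf l
  have hcard : Nat.card {p : P // p ∉ l} = ProjectivePlane.order P L ^ 2 := by
    rw [Nat.card_eq_fintype_card, Fintype.card_subtype_compl, ← Nat.card_eq_fintype_card,
      ← Nat.card_eq_fintype_card, card_on_line, card_points_eq (L := L)]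
    omega
  letI : MulAction T {p : P // p ∉ l} :=
    { smul := fun t p => ⟨(t : G) • p.1, (show Axial (P := P) (t : G) l from t.2.1).not_mem p.2⟩
      one_smul := fun p => Subtype.ext (one_smul G p.1)
      mul_smul := fun a b p => Subtype.ext (mul_smul (a : G) (b : G) p.1) }
  rw [← hcard, Nat.card_congr (MulAction.selfEquivSigmaOrbits T {p : P // p ∉ l})]
  cases nonempty_fintype (MulAction.orbitRel.Quotient T {p : P // p ∉ l})
  rw [Nat.card_sigma]
  refine Finset.dvd_sum fun ω _ => ?_
  have hbot : MulAction.stabilizer T ω.out = ⊥ := (Subgroup.eq_bot_iff_forall _).2 fun t ht =>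
    Subtype.ext (t.2.2 ω.out.1 ω.out.2 (congrArg Subtype.val ht))
  have h1 := Nat.card_congr (MulAction.orbitProdStabilizerEquivGroup T ω.out)
  rw [Nat.card_prod, hbot, Subgroup.card_bot, mul_one] at h1
  rw [h1]

end elation

end Cfsg.Agent.OstromWagner
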