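import Cfsg.Agent.Lib.OstromWagner.MaxTwo

/-!
A finite plane with 2-transitive collineation group has a nontrivial axial collineation.
-/

set_option autoImplicit false
set_option linter.unusedSectionVars false

namespace Cfsg.Agent.OstromWagner

open Configuration

universe uG uP uL

section orbits

variable {G : Type uG} [Group G] {α : Type*} [MulAction G α] [Finite α]

/-- If all orbit sizes in an invariant set are divisible by `d`, so is the size of the set. -/
theorem dvd_ncard_of_orbits (R : Subgroup G) (s : Set α) (hinv : ∀ r ∈ R, ∀ x ∈ s, r • x ∈ s)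
    {d : ℕ} (h : ∀ x ∈ s, d ∣ Nat.card (MulAction.orbit R x)) : d ∣ s.ncard := by
  letI : MulAction R s :=
    { smul := fun r x => ⟨(r : G) • x.1, hinv r r.2 x.1 x.2⟩
      one_smul := fun x => Subtype.ext (one_smul G x.1)
      mul_smul := fun a b x => Subtype.ext (mul_smul (a : G) (b : G) x.1) }
  rw [← Nat.card_coe_set_eq, Nat.card_congr (MulAction.selfEquivSigmaOrbits R s)]
  cases nonempty_fintype (MulAction.orbitRel.Quotient R s)
  rw [Nat.card_sigma]
  refine Finset.dvd_sum fun ω _ => ?_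
  have he : Subtype.val '' (MulAction.orbit R ω.out) = MulAction.orbit R ω.out.1 := by
    ext y
    constructor
    · rintro ⟨z, ⟨r, rfl⟩, rfl⟩; exact ⟨r, rfl⟩
    · rintro ⟨r, rfl⟩; exact ⟨r • ω.out, ⟨r, rfl⟩, rfl⟩
  have h1 := h ω.out.1 ω.out.2
  rw [← he, Nat.card_image_of_injective Subtype.val_injective] at h1
  exact h1

theorem card_orbit_mul [Finite G] (R : Subgroup G) (x : α) :
    Nat.card (MulAction.orbit R x) * Nat.card (MulAction.stabilizer R x) = Nat.card R := by
  rw [← Nat.card_prod, Nat.card_congr (MulAction.orbitProdStabilizerEquivGroup R x)]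

theorem card_stabilizer_eq (R : Subgroup G) (x : α) :
    Nat.card (MulAction.stabilizer R x) = Nat.card (R ⊓ MulAction.stabilizer G x : Subgroup G) :=
  Nat.card_congr ⟨fun r => ⟨r.1.1, r.1.2, r.2⟩, fun g => ⟨⟨g.1, g.2.1⟩, g.2.2⟩, fun _ => rfl,
    fun _ => rfl⟩

/-- A `p`-group on an invariant set of size prime to `p` has a fixed point. -/
theorem exists_fixed_mem [Finite G] {p : ℕ} [Fact p.Prime] {R : Subgroup G} (hR : IsPGroup p R)
    (s : Set α) (hinv : ∀ r ∈ R, ∀ x ∈ s, r • x ∈ s) (hs : ¬ p ∣ s.ncard) :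
    ∃ x ∈ s, ∀ r ∈ R, r • x = x := by
  by_contra hnone
  push Not at hnone
  refine hs (dvd_ncard_of_orbits R s hinv fun x hx => ?_)
  obtain ⟨k, hk⟩ := hR.card_orbit x
  rcases k with _ | k
  · obtain ⟨r, hr, hrx⟩ := hnone x hx
    have : Subsingleton (MulAction.orbit R x) := (Nat.card_eq_one_iff_unique.1 (by rw [hk, pow_zero])).1
    exact absurd (congrArg Subtype.val (Subsingleton.elim
      (⟨r • x, ⟨⟨r, hr⟩, rfl⟩⟩ : MulAction.orbit R x) ⟨x, MulAction.mem_orbit_self x⟩)) hrx
  · exact ⟨p ^ k, by rw [hk, pow_succ, mul_comm]⟩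

/-- A maximal-order `p`-subgroup of `K` is transitive on every `K`-orbit of `p`-power size. -/
theorem max_transitive [Finite G] {p : ℕ} [Fact p.Prime] {R K : Subgroup G} (hR : IsPGroup p R)
    (hRK : R ≤ K) (hmax : ∀ V : Subgroup G, IsPGroup p V → V ≤ K → Nat.card V ≤ Nat.card R) {x : α}
    {k : ℕ} (hk : Nat.card (MulAction.orbit K x) = p ^ k) {y : α}
    (hy : y ∈ MulAction.orbit K x) : ∃ r ∈ R, r • x = y := by
  let S : Sylow p K :=
    { toSubgroup := R.subgroupOf K
      isPGroup' := hR.of_equiv (Subgroup.subgroupOfEquivOfLe hRK).symm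
      is_maximal' := by
        intro V hV hle
        have h := Subgroup.eq_of_le_of_card_ge (H := R) (K := V.map K.subtype)
          (fun u hu => ⟨⟨u, hRK hu⟩, hle (Subgroup.mem_subgroupOf.2 hu), rfl⟩)
          (hmax _ (hV.map _) (Subgroup.map_subtype_le V))
        rw [h, Subgroup.subgroupOf, Subgroup.comap_map_eq_self_of_injective K.subtype_injective] }
  obtain ⟨s, hs, hsx⟩ := sylow_transitive S hk hy
  exact ⟨s, Subgroup.mem_subgroupOf.1 hs, hsx⟩

theorem ncard_pair_compl {β γ : Type*} [Finite β] [Finite γ] (q : β → γ → Prop) (c : ℕ)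
    (h : ∀ y : γ, {x : β | q x y}.ncard = c) : {x : β × γ | q x.1 x.2}.ncard = Nat.card γ * c := by
  cases nonempty_fintype γ
  rw [← Nat.card_coe_set_eq, Nat.card_congr (β := (y : γ) × {x : β | q x y})
    ⟨fun x => ⟨x.1.2, x.1.1, x.2⟩, fun x => ⟨(x.2.1, x.1), x.2.2⟩, fun _ => rfl, fun _ => rfl⟩,
    Nat.card_sigma]
  simp only [Nat.card_coe_set_eq, h, Finset.sum_const, Finset.card_univ, smul_eq_mul,
    Nat.card_eq_fintype_card]

end orbits

section plane

variable {G : Type uG} {P : Type uP} {L : Type uL} [Group G] [Finite G] [MulAction G P]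
  [MulAction G L] [Membership P L] [ProjectivePlane P L] [IsColl G P L] [Finite P] [Finite L]

theorem ncard_off_line (l : L) :
    {x : P | x ∉ l}.ncard = ProjectivePlane.order P L ^ 2 := by
  have h := Set.ncard_add_ncard_compl {x : P | x ∈ l}
  rw [ncard_on_line, card_points_eq (L := L)] at h
  change ProjectivePlane.order P L + 1 + {x : P | x ∉ l}.ncard = _ at h
  omega

theorem ncard_on_line_erase {l : L} {A : P} (hA : A ∈ l) :
    {x : P | x ∈ l ∧ x ≠ A}.ncard = ProjectivePlane.order P L := by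
  rw [show {x : P | x ∈ l ∧ x ≠ A} = {x : P | x ∈ l} \ {A} from Set.ext fun x => by simp,
    Set.ncard_sdiff_singleton_of_mem (by simpa using hA), ncard_on_line, Nat.add_sub_cancel]

theorem ncard_through_erase {l : L} {A : P} (hA : A ∈ l) :
    {m : L | A ∈ m ∧ m ≠ l}.ncard = ProjectivePlane.order P L :=
  (ncard_on_line_erase (P := Dual L) (L := Dual P) (l := A) (A := l) hA).trans
    (ProjectivePlane.Dual.order P L)

/-- Even order: a nontrivial axial collineation exists. -/
theorem exists_axial_even (hf : Faith G P) (htr : TwoTrans G P)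
    (heven : Even (ProjectivePlane.order P L)) :
    ∃ g : G, g ≠ 1 ∧ ∃ l : L, Axial (P := P) g l := by
  classical
  by_contra hNP
  push Not at hNP
  set n := ProjectivePlane.order P L with hn
  have h2n := two_le_order (P := P) (L := L)
  obtain ⟨A, B₀, hAB₀⟩ := exists_ne_points (P := P) L
  set K := MulAction.stabilizer G A
  have horbK : ∀ B : P, B ≠ A → Nat.card (MulAction.orbit K B) = n ^ 2 + n := by
    intro B hB
    have he : MulAction.orbit K B = {A}ᶜ := by
      ext C
      constructor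
      · rintro ⟨k, rfl⟩ h
        exact hB (MulAction.injective (k : G) ((Set.mem_singleton_iff.1 h).trans k.2.symm))
      · intro hC
        obtain ⟨g, hgA, hgB⟩ := htr A B A C (Ne.symm hB) (Ne.symm hC)
        exact ⟨⟨g, hgA⟩, hgB⟩
    rw [he, Nat.card_coe_set_eq, Set.ncard_compl, Set.ncard_singleton, card_points_eq (L := L), ← hn]
    omega
  have h2K : 2 ∣ Nat.card K := by
    rw [← card_orbit_mul K B₀, horbK B₀ (Ne.symm hAB₀)]
    obtain ⟨c, hc⟩ := heven
    exact Dvd.dvd.mul_right ⟨2 * c * c + c, by rw [hc]; ring⟩ _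
  obtain ⟨Q⟩ : Nonempty (Sylow 2 K) := inferInstance
  set T := (Q : Subgroup K).map K.subtype with hTdef
  have hT : IsPGroup 2 T := Q.isPGroup'.map _
  have hTK : T ≤ K := Subgroup.map_subtype_le _
  have hTcard : Nat.card T * (Q : Subgroup K).index = Nat.card K := by
    rw [hTdef, ← Nat.card_congr (Subgroup.equivMapOfInjective _ _ K.subtype_injective).toEquiv]
    exact Subgroup.card_mul_index _
  have hidx : ¬ 2 ∣ (Q : Subgroup K).index := Q.not_dvd_index
  have hTnt : Nontrivial T := by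
    refine Finite.one_lt_card_iff_nontrivial.1 ?_
    by_contra h
    have h1 : Nat.card T = 1 := by have : 0 < Nat.card T := Nat.card_pos; omega
    rw [h1, one_mul] at hTcard
    exact hidx (hTcard ▸ h2K)
  -- a fixed line through `A`
  obtain ⟨l, hAl, hTl⟩ := exists_fixed_mem hT {m : L | A ∈ m}
    (fun r hr m hm => by
      have := smul_mem_smul r (show A ∈ m from hm)
      rwa [show r • A = A from hTK hr] at this)
    (by rw [ncard_through]; obtain ⟨c, hc⟩ := heven; omega)
  have hcen : Nontrivial (Subgroup.center T) := hT.center_nontrivial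
  obtain ⟨w, hw⟩ := exists_prime_orderOf_dvd_card' (G := Subgroup.center T) 2 (by
    obtain ⟨k, hk⟩ := (hT.to_subgroup (Subgroup.center T)).exists_card_eq
    rcases k with _ | k
    · have := Finite.one_lt_card (α := Subgroup.center T)
      simp [hk] at this
    · exact ⟨2 ^ k, by rw [hk, pow_succ, mul_comm]⟩)
  set z : G := ((w : T) : G) with hz
  have hzT : z ∈ T := (w : T).2
  have hzc : ∀ t ∈ T, t * z = z * t := fun t ht =>
    congrArg Subtype.val (Subgroup.mem_center_iff.1 w.2 ⟨t, ht⟩)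
  have hz2 : z * z = 1 := by
    have h := pow_orderOf_eq_one w
    rw [hw, pow_two] at h
    exact congrArg (fun x : Subgroup.center T => ((x : T) : G)) h
  have hz1 : z ≠ 1 := fun e => by
    have : w = 1 := Subtype.ext (Subtype.ext e)
    simp [this] at hw
  have hzz : ∀ p : P, z • z • p = p := fun p => by rw [← mul_smul, hz2, one_smul]
  have hq0 : Quad L {p : P | z • p = p} := by
    by_contra hq0
    obtain ⟨k, hk⟩ := axial_of_involution hzz (hf.moved hz1) hq0
    exact hNP z hz1 k hk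
  set H := Subgroup.zpowers z
  have hfP : ∀ p : P, z • p = p ↔ p ∈ fixSet H P := fun p =>
    ⟨fun h v hv => MulAction.mem_stabilizer_iff.1
      ((Subgroup.zpowers_le (H := MulAction.stabilizer G p)).2 h hv),
      fun h => h z (Subgroup.mem_zpowers z)⟩
  have hfL : ∀ m : L, z • m = m ↔ m ∈ fixSet H L := fun m =>
    ⟨fun h v hv => MulAction.mem_stabilizer_iff.1
      ((Subgroup.zpowers_le (H := MulAction.stabilizer G m)).2 h hv),
      fun h => h z (Subgroup.mem_zpowers z)⟩
  have hq : Quad L (fixSet H P) := hq0.mono fun p hp => (hfP p).1 hp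
  have hnm := baer hzz (hf.moved hz1) hfP hfL hq
  rw [← hn] at hnm
  set S : Set P := {x : P | x ∈ l ∧ x ∈ fixSet H P} \ {A} with hS
  have hAfix : A ∈ fixSet H P := (hfP A).1 (hTK hzT)
  have hScard : S.ncard = fxOrder hq := by
    rw [hS, Set.ncard_sdiff_singleton_of_mem (show A ∈ {x : P | x ∈ l ∧ x ∈ fixSet H P} from ⟨hAl, hAfix⟩),
      ncard_fix_on_line hq ((hfL l).1 (hTl z hzT)), Nat.add_sub_cancel]
  obtain ⟨e, n', hn', hne⟩ := Nat.exists_eq_two_pow_mul_odd (n := n) (by omega)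
  have hdvd : 2 ^ e ∣ fxOrder hq := by
    rw [← hScard]
    refine dvd_ncard_of_orbits T S ?_ ?_
    · rintro t ht x ⟨⟨hxl, hxf⟩, hxA⟩
      refine ⟨⟨smul_mem_of_fix (hTl t ht) hxl, (hfP _).1 ?_⟩, fun h => hxA ?_⟩
      · rw [← mul_smul, ← hzc t ht, mul_smul, (hfP x).2 hxf]
      · exact MulAction.injective t ((Set.mem_singleton_iff.1 h).trans (hTK ht).symm)
    · rintro x ⟨-, hxA⟩
      obtain ⟨c, hc⟩ : Nat.card (MulAction.stabilizer T x) ∣ Nat.card (MulAction.stabilizer K x) := by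
        rw [card_stabilizer_eq, card_stabilizer_eq]
        exact Subgroup.card_dvd_of_le (inf_le_inf_right _ hTK)
      have h1 := card_orbit_mul K x
      rw [horbK x hxA, hc, ← hTcard, ← card_orbit_mul T x] at h1
      have hpos : 0 < Nat.card (MulAction.stabilizer T x) := Nat.card_pos
      have h2 : (n ^ 2 + n) * c = Nat.card (MulAction.orbit T x) * (Q : Subgroup K).index :=
        Nat.eq_of_mul_eq_mul_right hpos (by
          calc (n ^ 2 + n) * c * Nat.card (MulAction.stabilizer T x)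
              = (n ^ 2 + n) * (Nat.card (MulAction.stabilizer T x) * c) := by ring
            _ = _ := h1
            _ = _ := by ring)
      refine ((Nat.Coprime.pow_left e ((Nat.Prime.coprime_iff_not_dvd Nat.prime_two).2 hidx))
        ).dvd_of_dvd_mul_right ?_
      rw [← h2]
      exact Dvd.dvd.mul_right (show 2 ^ e ∣ n ^ 2 + n from
        ⟨n' * (n + 1), by rw [← mul_assoc, ← hne]; ring⟩) _
  obtain ⟨c, hc⟩ := hdvd
  rw [hc, hne] at hnm
  have he0 : e ≠ 0 := fun e0 => by
    rw [e0, pow_zero, one_mul] at hne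
    exact (Nat.not_even_iff_odd.2 hn') (hne ▸ heven)
  obtain ⟨f, hf'⟩ := Nat.exists_eq_succ_of_ne_zero he0
  have : n' = 2 ^ e * c ^ 2 := Nat.eq_of_mul_eq_mul_left (show 0 < 2 ^ e by positivity)
    (hnm.trans (by ring))
  rw [this, hf', pow_succ] at hn'
  exact (Nat.not_even_iff_odd.2 hn') ⟨2 ^ f * c ^ 2, by ring⟩

/-- A nontrivial axial collineation exists. -/
theorem exists_axial (hf : Faith G P) (htr : TwoTrans G P) :
    ∃ g : G, g ≠ 1 ∧ ∃ l : L, Axial (P := P) g l := by
  classical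
  rcases Nat.even_or_odd (ProjectivePlane.order P L) with hev | hodd
  · exact exists_axial_even hf htr hev
  set n := ProjectivePlane.order P L with hn
  have h2n := two_le_order (P := P) (L := L)
  obtain ⟨p, N, hp, hnp⟩ := prime_power_of_odd (L := L) hf htr hodd
  rw [← hn] at hnp
  have : Fact p.Prime := ⟨hp⟩
  have hpn : p ∣ n := by
    rw [hnp]
    exact dvd_pow_self _ (fun h => by rw [h, pow_zero] at hnp; omega)
  obtain ⟨X₀, -, -, l, -⟩ := @ProjectivePlane.exists_config P L _ _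
  set K := MulAction.stabilizer G l
  obtain ⟨R, -, hRK, hR, hRmax⟩ := exists_max_in (p := p) (U := (⊥ : Subgroup G)) (K := K)
    IsPGroup.of_bot bot_le
  have hRl : ∀ r ∈ R, r • l = l := fun r hr => hRK hr
  have hRmax' : ∀ V : Subgroup G, IsPGroup p V → V ≤ K → Nat.card V ≤ Nat.card R :=
    fun V h1 h2 => Nat.le_of_dvd Nat.card_pos (hRmax V h1 h2)
  obtain ⟨A, hAl', hA⟩ := exists_fixed_mem hR {x : P | x ∈ l}
    (fun r hr x hx => smul_mem_of_fix (l := l) (hRl r hr) hx)
    (by
      rw [ncard_on_line, ← hn]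
      intro h
      exact hp.not_dvd_one ((Nat.dvd_add_right hpn).1 h))
  have hAl : A ∈ l := hAl'
  have hKA : R ≤ K ⊓ MulAction.stabilizer G A := fun r hr => ⟨hRK hr, hA r hr⟩
  have hmaxA : ∀ V : Subgroup G, IsPGroup p V → V ≤ K ⊓ MulAction.stabilizer G A →
      Nat.card V ≤ Nat.card R := fun V h1 h2 => hRmax' V h1 (h2.trans inf_le_left)
  -- transitivity of the Sylow subgroup
  have htaff : ∀ X Y : P, X ∉ l → Y ∉ l → ∃ r ∈ R, r • X = Y := by
    intro X Y hX hY
    have he : MulAction.orbit K X = {x : P | x ∉ l} := by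
      ext x
      constructor
      · rintro ⟨k, rfl⟩ h
        exact hX (mem_of_smul_mem (k : G) ((show (k : G) • l = l from k.2).symm ▸ h))
      · intro hx
        obtain ⟨g, h1, h2⟩ := antiflag_trans (L := L) htr hX hx
        exact ⟨⟨g, h2⟩, h1⟩
    exact max_transitive hR hRK hRmax' (k := N * 2)
      (by rw [he, Nat.card_coe_set_eq, ncard_off_line, ← hn, hnp, pow_mul]) (he ▸ hY)
  have htline : ∀ X Y : P, X ∈ l → X ≠ A → Y ∈ l → Y ≠ A → ∃ r ∈ R, r • X = Y := by
    intro X Y hX hXA hY hYA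
    have he : MulAction.orbit (K ⊓ MulAction.stabilizer G A : Subgroup G) X =
        {x : P | x ∈ l ∧ x ≠ A} := by
      ext x
      constructor
      · rintro ⟨k, rfl⟩
        exact ⟨smul_mem_of_fix k.2.1 hX, fun h => hXA (MulAction.injective (k : G) (h.trans k.2.2.symm))⟩
      · rintro ⟨hx, hxA⟩
        obtain ⟨g, h1, h2⟩ := htr A X A x (Ne.symm hXA) (Ne.symm hxA)
        refine ⟨⟨g, ?_, h1⟩, h2⟩
        change g • l = l
        have := smul_join (L := L) g (Ne.symm hXA)
        rwa [h1, h2, join_eq (Ne.symm hXA) hAl hX, join_eq (Ne.symm hxA) hAl hx] at this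
    exact max_transitive hR hKA hmaxA (k := N)
      (by rw [he, Nat.card_coe_set_eq, ncard_on_line_erase hAl, ← hn, hnp]) (he ▸ ⟨hY, hYA⟩)
  have htlines : ∀ k m : L, A ∈ k → k ≠ l → A ∈ m → m ≠ l → ∃ r ∈ R, r • k = m := by
    intro k m hk hkl hm hml
    have he : MulAction.orbit (K ⊓ MulAction.stabilizer G A : Subgroup G) k =
        {x : L | A ∈ x ∧ x ≠ l} := by
      ext x
      constructor
      · rintro ⟨g, rfl⟩
        refine ⟨mem_smul_of_fix g.2.2 hk, fun h => hkl (MulAction.injective (g : G) (h.trans g.2.1.symm))⟩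
      · rintro ⟨hx, hxl⟩
        obtain ⟨g, h1, h2⟩ := twoTrans_lines (P := P) htr l k l x (Ne.symm hkl) (Ne.symm hxl)
        refine ⟨⟨g, h1, ?_⟩, h2⟩
        change g • A = A
        have := smul_meet (P := P) g (Ne.symm hkl)
        rwa [h1, h2, meet_eq (Ne.symm hkl) hAl hk, meet_eq (Ne.symm hxl) hAl hx] at this
    exact max_transitive hR hKA hmaxA (k := N)
      (by rw [he, Nat.card_coe_set_eq, ncard_through_erase hAl, ← hn, hnp]) (he ▸ ⟨hm, hml⟩)
  obtain ⟨X, hX⟩ := Nondegenerate.exists_point (P := P) l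
  have hRnt : Nontrivial R := by
    obtain ⟨Y, hY, hYX⟩ : ∃ Y : P, Y ∉ l ∧ Y ≠ X := by
      obtain ⟨k, hk, hkl, -⟩ := exists_ne_ne_through X l l
      obtain ⟨Y, hY, hYX, hYm⟩ := exists_ne_ne_mem k X (meet P k l)
      exact ⟨Y, fun h => hYm (meet_eq hkl hY h).symm, hYX⟩
    obtain ⟨r, hr, hrX⟩ := htaff X Y hX hY
    exact ⟨⟨r, hr⟩, 1, fun e => hYX (by rw [← hrX, show r = 1 from congrArg Subtype.val e, one_smul])⟩
  have hcen : Nontrivial (Subgroup.center R) := hR.center_nontrivial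
  obtain ⟨⟨⟨w, hwR⟩, hwc⟩, hw1⟩ := exists_ne (1 : Subgroup.center R)
  have hw1' : w ≠ 1 := fun e => hw1 (Subtype.ext (Subtype.ext e))
  have hwcomm : ∀ r ∈ R, r * w = w * r := fun r hr =>
    congrArg Subtype.val (Subgroup.mem_center_iff.1 hwc ⟨r, hr⟩)
  have hspread : ∀ {x : P}, w • x = x → ∀ r ∈ R, w • r • x = r • x := by
    intro x hx r hr; rw [← mul_smul, ← hwcomm r hr, mul_smul, hx]
  -- the easy cases
  by_cases hc1 : ∃ B : P, B ∈ l ∧ B ≠ A ∧ w • B = B
  · obtain ⟨B, hB, hBA, hwB⟩ := hc1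
    refine ⟨w, hw1', l, fun x hx => ?_⟩
    by_cases hxA : x = A
    · rw [hxA]; exact hA w hwR
    obtain ⟨r, hr, rfl⟩ := htline B x hB hBA hx hxA
    exact hspread hwB r hr
  by_cases hc2 : ∃ k : L, A ∈ k ∧ k ≠ l ∧ w • k = k
  · obtain ⟨k, hk, hkl, hwk⟩ := hc2
    have hcentral : Central (L := L) w A := fun m hm => by
      by_cases hml : m = l
      · rw [hml]; exact hRl w hwR
      obtain ⟨r, hr, rfl⟩ := htlines k m hk hkl hm hml
      rw [← mul_smul, ← hwcomm r hr, mul_smul, hwk]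
    exact ⟨w, hw1', hcentral.exists_axis⟩
  push Not at hc1 hc2
  have hwoff : ∀ x : P, x ∉ l → w • x ≠ x := fun x hx h => hw1' (hf w (fix_all_of_fix_off (m := l)
    fun y hy => by obtain ⟨r, hr, rfl⟩ := htaff x y hx hy; exact hspread h r hr))
  exfalso
  set X' := w • X with hX'
  have hXX' : X ≠ X' := Ne.symm (hwoff X hX)
  have hX'l : X' ∉ l := fun h => hX (mem_of_smul_mem w ((hRl w hwR).symm ▸ h))
  set m := join L X X' with hm
  have hml : m ≠ l := fun e => hX (e ▸ left_mem_join X X')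
  set D := meet P m l with hD
  have hDA : D ≠ A := fun e => by
    have hAm : A ∈ m := e ▸ meet_mem_left m l
    refine hc2 m hAm hml (line_eq (p := A) (q := X') (fun e' => hX'l (e' ▸ hAl))
      (mem_smul_of_fix (hA w hwR) hAm) (smul_mem_smul w (left_mem_join X X')) hAm (right_mem_join X X'))
  set Q := R ⊓ MulAction.stabilizer G X with hQdef
  have hQ : IsPGroup p Q := hR.to_le inf_le_left
  have hQX' : X' ∈ fixSet Q P := fun g hg => by
    rw [hX', ← mul_smul, hwcomm g hg.1, mul_smul, show g • X = X from hg.2]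
  have hQA : A ∈ fixSet Q P := fun g hg => hA g hg.1
  have hQm : ∀ g ∈ Q, g • m = m := fun g hg =>
    smul_line_fix hXX' hg.2 (hQX' g hg) (left_mem_join _ _) (right_mem_join _ _)
  have hQD : D ∈ fixSet Q P := fun g hg =>
    smul_point_fix hml (hQm g hg) (hRl g hg.1) (meet_mem_left _ _) (meet_mem_right _ _)
  have hQwD : w • D ∈ fixSet Q P := fun g hg => by
    rw [← mul_smul, hwcomm g hg.1, mul_smul, hQD g hg]
  have hwDl : w • D ∈ l := smul_mem_of_fix (hRl w hwR) (meet_mem_right m l)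
  have hwDA : w • D ≠ A := fun e => hDA (MulAction.injective w (e.trans (hA w hwR).symm))
  have hwDD : w • D ≠ D := hc1 D (meet_mem_right m l) hDA
  have hq : Quad L (fixSet Q P) := quad_of_two_two (l := l) (m := m) (Ne.symm hml) hQA hQwD
    (fun g hg => hg.2) hQX' (Ne.symm hwDA) hXX' hAl hwDl (left_mem_join _ _) (right_mem_join _ _)
    (fun h => hDA (meet_eq hml h hAl)) (fun h => hwDD (meet_eq hml h hwDl).symm) hX hX'l
  set q := fxOrder hq with hqdef
  have hlQ : l ∈ fixSet Q L := fun g hg => hRl g hg.1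
  have hpq : p ∣ q := by
    have hs : p ∣ ({x : P | x ∈ l} \ {x : P | x ∈ l ∧ x ∈ fixSet Q P}).ncard := by
      refine dvd_ncard_of_orbits Q _ ?_ ?_
      · rintro g hg x ⟨hxl, hx⟩
        refine ⟨smul_mem_of_fix (l := l) (hRl g hg.1) hxl, fun h => hx ⟨hxl, ?_⟩⟩
        have : g • x = x := MulAction.injective g (h.2 g hg)
        rw [← this]; exact h.2
      · rintro x ⟨hxl, hx⟩
        obtain ⟨k, hk⟩ := hQ.card_orbit x
        rcases k with _ | k
        · have : Subsingleton (MulAction.orbit Q x) :=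
            (Nat.card_eq_one_iff_unique.1 (by rw [hk, pow_zero])).1
          exact absurd ⟨hxl, fun g hg => congrArg Subtype.val (Subsingleton.elim
            (⟨g • x, ⟨⟨g, hg⟩, rfl⟩⟩ : MulAction.orbit Q x) ⟨x, MulAction.mem_orbit_self x⟩)⟩ hx
        · exact ⟨p ^ k, by rw [hk, pow_succ, mul_comm]⟩
    rw [Set.ncard_sdiff (fun x hx => hx.1) (Set.toFinite _), ncard_on_line,
      ncard_fix_on_line hq hlQ, ← hn, ← hqdef, Nat.add_sub_add_right] at hs
    have hle : q ≤ n := fxOrder_le hq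
    have h := Nat.dvd_sub hpn hs
    rwa [Nat.sub_sub_self hle] at h
  -- `Q` is a Sylow subgroup of the stabiliser of the antiflag
  have hn2 : 0 < n ^ 2 := by positivity
  have horbR : Nat.card (MulAction.orbit R X) = n ^ 2 := by
    rw [show MulAction.orbit R X = {x : P | x ∉ l} by
      ext x
      constructor
      · rintro ⟨k, rfl⟩ h
        exact hX (mem_of_smul_mem (k : G) ((hRl k k.2).symm ▸ h))
      · intro hx
        obtain ⟨r, hr, h⟩ := htaff X x hX hx
        exact ⟨⟨r, hr⟩, h⟩, Nat.card_coe_set_eq, ncard_off_line]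
  have hQcard : n ^ 2 * Nat.card Q = Nat.card R := by
    rw [← card_orbit_mul R X, horbR, card_stabilizer_eq]
  have hQmax : ∀ V : Subgroup G, IsPGroup p V → V ≤ K ⊓ MulAction.stabilizer G X →
      Nat.card V ≤ Nat.card Q := by
    intro V hV hVle
    have horbK : Nat.card (MulAction.orbit K X) = n ^ 2 := by
      rw [show MulAction.orbit K X = {x : P | x ∉ l} by
        ext x
        constructor
        · rintro ⟨k, rfl⟩ h
          exact hX (mem_of_smul_mem (k : G) ((show (k : G) • l = l from k.2).symm ▸ h))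
        · intro hx
          obtain ⟨r, hr, h⟩ := htaff X x hX hx
          exact ⟨⟨r, hRK hr⟩, h⟩, Nat.card_coe_set_eq, ncard_off_line]
    obtain ⟨k, hk⟩ := hV.exists_card_eq
    have hd : p ^ (N * 2 + k) ∣ Nat.card K := by
      rw [← card_orbit_mul K X, horbK, card_stabilizer_eq, pow_add, ← hk, pow_mul, ← hnp]
      exact mul_dvd_mul_left _ (Subgroup.card_dvd_of_le hVle)
    obtain ⟨W, hW⟩ := Sylow.exists_subgroup_card_pow_prime (G := K) p hd
    have := hRmax' (W.map K.subtype) ((IsPGroup.of_card hW).map _) (Subgroup.map_subtype_le _)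
    rw [← Nat.card_congr (Subgroup.equivMapOfInjective _ _ K.subtype_injective).toEquiv, hW,
      ← hQcard, pow_add, ← hk, pow_mul, ← hnp] at this
    exact Nat.le_of_mul_le_mul_left this hn2
  set NQ := Subgroup.normalizer (Q : Set G) with hNQ
  have htrQ : ∀ Y ∈ fixSet Q P, ∀ k ∈ fixSet Q L, Y ∉ k → ∃ g ∈ NQ, g • X = Y ∧ g • l = k := by
    intro Y hY k hk hYk
    obtain ⟨g, hg, hgx⟩ := witt (p := p) (x := (X, l)) (y := (Y, k)) hQ
      (fun u hu => Prod.ext hu.2 (hlQ u hu)) (fun u hu => Prod.ext (hY u hu) (hk u hu))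
      (fun V hV hUV hVs => (Subgroup.eq_of_le_of_card_ge hUV (hQmax V hV fun v hv =>
        ⟨congrArg Prod.snd (hVs hv), congrArg Prod.fst (hVs hv)⟩)).symm)
      (by obtain ⟨g, h1, h2⟩ := antiflag_trans (L := L) htr hX hYk; exact ⟨g, Prod.ext h1 h2⟩)
    exact ⟨g, hg, congrArg Prod.fst hgx, congrArg Prod.snd hgx⟩
  have hsmall : ∀ g ∈ NQ, IsPGroup p (Subgroup.zpowers g) → ∀ Y ∈ fixSet Q P, ∀ k ∈ fixSet Q L,
      Y ∉ k → g • Y = Y → g • k = k → g ∈ Q := by
    intro g hg hgp Y hY k hk hYk hgY hgk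
    obtain ⟨a, ha, haX, hal⟩ := htrQ Y hY k hk hYk
    set g' := a⁻¹ * g * a
    have hg'N : g' ∈ NQ := mul_mem (mul_mem (inv_mem ha) hg) ha
    have hg'p : IsPGroup p (Subgroup.zpowers g') := by
      have := hgp.map (MulAut.conj a⁻¹).toMonoidHom
      rwa [MonoidHom.map_zpowers, show (MulAut.conj a⁻¹).toMonoidHom g = g' by simp [g']] at this
    have hVs : Q ⊔ Subgroup.zpowers g' ≤ K ⊓ MulAction.stabilizer G X := by
      refine sup_le (fun u hu => ⟨hlQ u hu, hu.2⟩) (Subgroup.zpowers_le.2 ⟨?_, ?_⟩)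
      · change g' • l = l
        simp only [g', mul_smul, hal, hgk]
        rw [← hal, inv_smul_smul]
      · change g' • X = X
        simp only [g', mul_smul, haX, hgY]
        rw [← haX, inv_smul_smul]
    have hcard := hQmax _ (hQ.to_sup_of_normal_left' hg'p (Subgroup.zpowers_le.2 hg'N)) hVs
    have heq := Subgroup.eq_of_le_of_card_ge (le_sup_left : Q ≤ Q ⊔ Subgroup.zpowers g') hcard
    have hg'Q : g' ∈ Q := heq ▸ Subgroup.mem_sup_right (Subgroup.mem_zpowers g')
    have := (Subgroup.mem_normalizer_iff.1 ha g').1 hg'Q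
    simpa [g', mul_assoc] using this
  -- the orbit of the antiflag
  have hcardQ : Nat.card (fixSet Q P) = q ^ 2 + q + 1 := card_fixSet hq
  have horbN : Nat.card (MulAction.orbit NQ (X, l)) = (q ^ 2 + q + 1) * q ^ 2 := by
    letI := fxPlane hq
    rw [← card_fixSet_lines hq, ← Nat.card_congr (fxEquiv Q L), hqdef, fxOrder,
      ← ncard_pair_compl (fun (x : Fx Q P) (y : Fx Q L) => x ∉ y) _ (fun y => ncard_off_line y),
      ← Set.ncard_image_of_injective (f := fun x : Fx Q P × Fx Q L => (x.1.val, x.2.val)) _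
        (fun a b e => Prod.ext (Fx.ext (congrArg Prod.fst e)) (Fx.ext (congrArg Prod.snd e))),
      Nat.card_coe_set_eq]
    congr 1
    ext x
    constructor
    · rintro ⟨g, rfl⟩
      exact ⟨(g • (⟨X, fun u hu => hu.2⟩ : Fx Q P), g • (⟨l, hlQ⟩ : Fx Q L)),
        fun h => hX (mem_of_smul_mem (g : G) h), rfl⟩
    · rintro ⟨⟨Y, k⟩, hYk, rfl⟩
      obtain ⟨g, hg, h1, h2⟩ := htrQ Y.val Y.fix k.val k.fix hYk
      exact ⟨⟨g, hg⟩, Prod.ext h1 h2⟩
  obtain ⟨S, hQS, hSN, hS, hSmax⟩ := exists_max_in (p := p) hQ (Subgroup.le_normalizer : Q ≤ NQ)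
  obtain ⟨e, q', hq', hqe⟩ := Nat.exists_eq_pow_mul_and_not_dvd (n := q)
    (by have := two_le_fxOrder hq; omega) p hp.ne_one
  have he0 : e ≠ 0 := fun e0 => hq' (by rw [e0, pow_zero, one_mul] at hqe; rw [← hqe]; exact hpq)
  obtain ⟨kQ, hkQ⟩ := hQ.exists_card_eq
  have hSbig : p ^ (2 * e) * Nat.card Q ≤ Nat.card S := by
    have hd : p ^ (2 * e + kQ) ∣ Nat.card NQ := by
      rw [← card_orbit_mul NQ (X, l), horbN, pow_add]
      refine mul_dvd_mul (Dvd.dvd.mul_left ⟨q' ^ 2, by rw [hqe]; ring⟩ _) ?_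
      rw [card_stabilizer_eq, ← hkQ]
      exact Subgroup.card_dvd_of_le (le_inf Subgroup.le_normalizer
        (fun u hu => Prod.ext hu.2 (hlQ u hu)))
    obtain ⟨W, hW⟩ := Sylow.exists_subgroup_card_pow_prime (G := NQ) p hd
    have := Nat.le_of_dvd Nat.card_pos
      (hSmax (W.map NQ.subtype) ((IsPGroup.of_card hW).map _) (Subgroup.map_subtype_le _))
    rw [← Nat.card_congr (Subgroup.equivMapOfInjective _ _ NQ.subtype_injective).toEquiv, hW,
      pow_add, ← hkQ] at this
    exact this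
  have hinvS : ∀ r ∈ S, ∀ x ∈ fixSet Q P, r • x ∈ fixSet Q P := fun r hr x hx =>
    ((⟨r, hSN hr⟩ : NQ) • (⟨x, hx⟩ : Fx Q P)).fix
  obtain ⟨B, hB, hSB⟩ := exists_fixed_mem hS (fixSet Q P) hinvS (by
    rw [← Nat.card_coe_set_eq, hcardQ]
    intro h
    exact hp.not_dvd_one ((Nat.dvd_add_right (Dvd.dvd.add (dvd_pow hpq two_ne_zero) hpq)).1 h))
  obtain ⟨C, ⟨hC, hCB⟩, horb⟩ : ∃ C ∈ fixSet Q P \ {B},
      ¬ p ^ (e + 1) ∣ Nat.card (MulAction.orbit S C) := by
    by_contra hall
    push Not at hall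
    have hd := dvd_ncard_of_orbits S (fixSet Q P \ {B}) (fun r hr x hx => ⟨hinvS r hr x hx.1,
      fun h => hx.2 (MulAction.injective r ((Set.mem_singleton_iff.1 h).trans (hSB r hr).symm))⟩) hall
    rw [Set.ncard_sdiff_singleton_of_mem hB, ← Nat.card_coe_set_eq, hcardQ,
      Nat.add_sub_cancel, show q ^ 2 + q = p ^ e * (q' * (q + 1)) by rw [← mul_assoc, ← hqe]; ring,
      pow_succ, Nat.mul_dvd_mul_iff_left (pow_pos hp.pos e)] at hd
    rcases hp.dvd_mul.1 hd with h | h
    · exact hq' h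
    · exact hp.not_dvd_one ((Nat.dvd_add_right hpq).1 h)
  obtain ⟨j, hj⟩ := hS.card_orbit C
  have hje : j ≤ e := by
    by_contra h
    exact horb (hj ▸ pow_dvd_pow p (by omega))
  have hbig : Nat.card Q < Nat.card (S ⊓ MulAction.stabilizer G C : Subgroup G) := by
    by_contra hle
    push Not at hle
    have h1 := card_orbit_mul S C
    rw [hj, card_stabilizer_eq] at h1
    have h2 : p ^ j * Nat.card (S ⊓ MulAction.stabilizer G C : Subgroup G) ≤ p ^ e * Nat.card Q :=
      Nat.mul_le_mul (Nat.pow_le_pow_right hp.pos hje) hle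
    have h3 : p ^ e < p ^ (2 * e) := Nat.pow_lt_pow_right hp.one_lt (by omega)
    have := Nat.mul_lt_mul_of_pos_right h3 (show 0 < Nat.card Q from Nat.card_pos)
    omega
  obtain ⟨g, hgS, hgQ⟩ : ∃ g ∈ S ⊓ MulAction.stabilizer G C, g ∉ Q := by
    by_contra h
    push Not at h
    have := Subgroup.card_dvd_of_le h
    have := Nat.le_of_dvd Nat.card_pos this
    omega
  -- `g` fixes two points but no antiflag of the subplane
  letI := fxPlane hq
  have hgp : IsPGroup p (Subgroup.zpowers g) := hS.to_le (Subgroup.zpowers_le.2 hgS.1)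
  let gN : NQ := ⟨g, hSN hgS.1⟩
  have hBfix : gN • (⟨B, hB⟩ : Fx Q P) = ⟨B, hB⟩ := Fx.ext (hSB g hgS.1)
  have hCfix : gN • (⟨C, hC⟩ : Fx Q P) = ⟨C, hC⟩ := Fx.ext hgS.2
  have hne : (⟨B, hB⟩ : Fx Q P) ≠ ⟨C, hC⟩ := fun h => hCB (congrArg Fx.val h).symm
  have hnoanti : ∀ (Y : Fx Q P) (k : Fx Q L), gN • Y = Y → gN • k = k → Y ∈ k := by
    intro Y k hY hk
    by_contra hYk
    exact hgQ (hsmall g (hSN hgS.1) hgp Y.val Y.fix k.val k.fix hYk (congrArg Fx.val hY)
      (congrArg Fx.val hk))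
  have h1 : {k : Fx Q L | gN • k = k}.ncard ≤ 1 :=
    (Set.ncard_le_one (Set.toFinite _)).2 fun k hk k' hk' =>
      line_eq hne (hnoanti _ k hBfix hk) (hnoanti _ k hCfix hk)
        (hnoanti _ k' hBfix hk') (hnoanti _ k' hCfix hk')
  have h2 : 1 < {x : Fx Q P | gN • x = x}.ncard :=
    (Set.one_lt_ncard (Set.toFinite _)).2 ⟨_, hBfix, _, hCfix, hne⟩
  rw [ncard_fix_eq (P := Fx Q P) (L := Fx Q L) gN] at h2
  omega

end plane

end Cfsg.Agent.OstromWagner
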