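import Cfsg.Agent.Lib.OstromWagner.HomPlane

/-!
The order of a homology plane is a prime power.
-/

set_option autoImplicit false
set_option linter.unusedSectionVars false

namespace Cfsg.Agent.OstromWagner

open Configuration

universe uG uP uL

section order

variable {G : Type uG} {P : Type uP} {L : Type uL} [Group G] [Finite G] [MulAction G P]
  [MulAction G L] [Membership P L] [ProjectivePlane P L] [IsColl G P L] [Finite P] [Finite L]

open Classical in
/-- Elations are partitioned by their centres. -/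
theorem sum_centres (hf : Faith G P) (l : L) [Fintype P] :
    ∑ C ∈ Finset.univ.filter (fun C : P => C ∈ l), (Nat.card (elC G C l) - 1) =
      Nat.card (elGrp hf l) - 1 := by
  cases nonempty_fintype G
  have h1 : ∀ S : Subgroup G,
      Nat.card S - 1 = (Finset.univ.filter fun g : G => g ∈ S ∧ g ≠ 1).card := by
    intro S
    rw [Nat.card_eq_fintype_card, Fintype.card_subtype, show (Finset.univ.filter fun g : G =>
      g ∈ S ∧ g ≠ 1) = (Finset.univ.filter fun g : G => g ∈ S).erase 1 by ext; simp [and_comm],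
      Finset.card_erase_of_mem (by simp [one_mem])]
  simp only [h1]
  rw [← Finset.card_biUnion]
  · congr 1
    ext g
    simp only [Finset.mem_biUnion, Finset.mem_filter, Finset.mem_univ, true_and]
    constructor
    · rintro ⟨C, hC, hg, hg1⟩
      exact ⟨elC_le hf hC hg, hg1⟩
    · rintro ⟨hg, hg1⟩
      obtain ⟨C, hC, hgC⟩ := elation_center hf hg
      exact ⟨C, hC, ⟨hg.1, hgC⟩, hg1⟩
  · intro C _ C' _ hne
    rw [Function.onFun, Finset.disjoint_left]
    intro g hg hg'
    simp only [Finset.mem_filter] at hg hg'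
    exact hg.2.2 (elC_inter hf hne hg.2.1 hg'.2.1)

theorem one_le_card (S : Subgroup G) : 1 ≤ Nat.card S := Nat.card_pos

theorem exists_ne_one_of_two_le {S : Subgroup G} (h : 2 ≤ Nat.card S) : ∃ g ∈ S, g ≠ 1 := by
  have := Finite.one_lt_card_iff_nontrivial.1 (show 1 < Nat.card S by omega)
  obtain ⟨⟨g, hg⟩, hne⟩ := exists_ne (1 : S)
  exact ⟨g, hg, fun e => hne (Subtype.ext e)⟩

variable (H : HomPlane G P L)
include H

theorem prime_power_of_big (l : L) (hl : 2 ≤ Nat.card (elGrp H.faith l)) :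
    ∃ p i : ℕ, p.Prime ∧ ProjectivePlane.order P L = p ^ i := by
  classical
  cases nonempty_fintype P
  set r := ProjectivePlane.order P L
  set s := Nat.card (elGrp H.faith l) with hs
  set f : P → ℕ := fun C => Nat.card (elC G C l) with hf
  have hcardl : (Finset.univ.filter fun C : P => C ∈ l).card = r + 1 := by
    rw [← Fintype.card_subtype, ← Nat.card_eq_fintype_card]; exact card_on_line l
  obtain ⟨C₀, hC₀, hmax⟩ := Finset.exists_max_image (Finset.univ.filter fun C : P => C ∈ l) f
    (Finset.card_pos.1 (by omega))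
  simp only [Finset.mem_filter, Finset.mem_univ, true_and] at hC₀ hmax
  -- the partner relation
  have hpart : ∀ C : P, C ∈ l → C ≠ C₀ → f C * f C₀ = s := by
    intro C hC hne
    obtain ⟨A, x, g, g', hg, -, -, hle⟩ := partner H l hC
    have hDl : meet P x l ∈ l := meet_mem_right x l
    exact le_antisymm (card_elC_mul_le H l hC hC₀ hne)
      (hle.trans (Nat.mul_le_mul_left _ (hmax _ hDl)))
  have hH : 0 < f C₀ := Nat.card_pos
  obtain ⟨C₁, hC₁, hC₁₀, -⟩ := exists_ne_ne_mem l C₀ C₀
  set a := f C₁ with ha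
  have hall : ∀ C : P, C ∈ l → C ≠ C₀ → f C = a := fun C hC hne =>
    Nat.eq_of_mul_eq_mul_right hH ((hpart C hC hne).trans (hpart C₁ hC₁ hC₁₀).symm)
  have hsum := sum_centres H.faith l
  rw [← Finset.add_sum_erase _ _ (show C₀ ∈ Finset.univ.filter (fun C : P => C ∈ l) by simp [hC₀]),
    Finset.sum_const_nat (m := a - 1) (fun C hC => by
      simp only [Finset.mem_erase, Finset.mem_filter] at hC
      rw [← hall C hC.2.2 hC.1]),
    Finset.card_erase_of_mem (by simp [hC₀]), hcardl, Nat.add_sub_cancel] at hsum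
  change (f C₀ - 1) + r * (a - 1) = s - 1 at hsum
  have hmul : a * f C₀ = s := hpart C₁ hC₁ hC₁₀
  have ha1 : 1 ≤ a := one_le_card _
  by_cases h2 : 2 ≤ a
  · -- two centres: elementary abelian, and `H = r`
    obtain ⟨b, hb⟩ := Nat.exists_eq_add_of_le h2
    have hr : f C₀ = r := by
      rw [hb] at hsum hmul
      have e : 2 + b - 1 = b + 1 := by omega
      rw [e] at hsum
      have : r * (b + 1) = f C₀ * (b + 1) := by
        have hm2 : (b + 1) * f C₀ + f C₀ = s := by rw [← hmul]; ring
        rw [Nat.mul_comm (f C₀) (b + 1)]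
        omega
      exact (Nat.eq_of_mul_eq_mul_right (by omega) this).symm
    obtain ⟨p, hp, hT, -, -⟩ := elGrp_elementary H.faith hC₀ hC₁ (Ne.symm hC₁₀)
      (exists_ne_one_of_two_le (h2.trans (hmax C₁ hC₁))) (exists_ne_one_of_two_le h2)
    have : Fact p.Prime := ⟨hp⟩
    obtain ⟨i, hi⟩ := IsPGroup.iff_card.1 (hT.to_le (elC_le H.faith hC₀))
    exact ⟨p, i, hp, hr.symm.trans hi⟩
  -- all elations have centre `C₀`
  have haeq : a = 1 := by omega
  rw [haeq, one_mul] at hmul
  have hone : ∀ C : P, C ∈ l → C ≠ C₀ → f C = 1 := fun C hC hne => (hall C hC hne).trans haeq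
  obtain ⟨g₀, A₀, hA₀⟩ := all_axes H l
  set k := join L A₀ C₀
  have hkl : k ≠ l := fun e => hA₀.2.2.2.2 (e ▸ left_mem_join A₀ C₀)
  have hAk : ∀ (g : G) (A : P), Hm g A l → A ∈ k := by
    intro g A hg
    obtain ⟨t, ht, rfl⟩ := centers_trans H hA₀ hg
    obtain ⟨Z, hZ, hZc⟩ := elation_center H.faith ht
    by_cases ht1 : t = 1
    · rw [ht1, one_smul]; exact left_mem_join _ _
    have hZ0 : Z = C₀ := by
      by_contra hne
      have h1 := hone Z hZ hne
      exact ht1 (congrArg Subtype.val
        ((Nat.card_eq_one_iff_unique.1 h1).1.elim ⟨t, ht.1, hZc⟩ (1 : elC G Z l)))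
    subst hZ0
    exact smul_mem_of_fix (hZc k (right_mem_join _ _)) (left_mem_join _ _)
  have hcent : ∀ C : P, C ∈ l → C ≠ C₀ → ∃ g : G, Hm g C k := by
    intro C hC hne
    obtain ⟨A, x, g, g', hg, hg', hAx, hle⟩ := partner H l hC
    have hDl : meet P x l ∈ l := meet_mem_right x l
    have hD0 : meet P x l = C₀ := by
      by_contra hD
      have h1 := hone C hC hne
      have h2 := hone _ hDl hD
      simp only [hf] at h1 h2
      rw [h1, h2] at hle
      omega
    have hAC : A ≠ C₀ := fun e => hg'.2.2.2.2 (e ▸ hC₀)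
    rw [← line_eq hAC hAx (hD0 ▸ meet_mem_left x l) (hAk g' A hg') (right_mem_join A₀ C₀)]
    exact ⟨g, hg⟩
  set E := elC G C₀ k
  have hCk : ∀ C : P, C ∈ l → C ≠ C₀ → C ∉ k := fun C hC hne h =>
    hne (point_eq hkl h hC (right_mem_join _ _) hC₀)
  have hEl : ∀ u : E, (u : G) • l = l := fun u => u.2.2 l hC₀
  let F : E → {C : P // C ∈ l ∧ C ≠ C₀} := fun u => ⟨(u : G) • C₁, smul_mem_of_fix (hEl u) hC₁,
    fun e => hC₁₀ (MulAction.injective (u : G) (e.trans (u.2.2.smul_point).symm))⟩
  have hbij : Function.Bijective F := by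
    refine ⟨fun u v e => ?_, fun C => ?_⟩
    · have e' : (u : G) • C₁ = (v : G) • C₁ := congrArg Subtype.val e
      have h1 : ((v : G)⁻¹ * u) • C₁ = C₁ := by rw [mul_smul, e', inv_smul_smul]
      exact Subtype.ext (inv_mul_eq_one.1
        ((elC_le H.faith (right_mem_join A₀ C₀) (mul_mem (inv_mem v.2) u.2)).2 C₁
          (hCk C₁ hC₁ hC₁₀) h1)).symm
    · obtain ⟨g, hg⟩ := hcent C₁ hC₁ hC₁₀
      obtain ⟨g', hg'⟩ := hcent C.1 C.2.1 C.2.2
      obtain ⟨u, hu, huC⟩ := centers_trans H hg hg'
      by_cases hu1 : u = 1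
      · exact ⟨1, Subtype.ext (by simp only [F, OneMemClass.coe_one, one_smul]; rw [hu1, one_smul] at huC; exact huC)⟩
      obtain ⟨Y, hYk, hY⟩ := elation_center H.faith hu
      have hmoved : u • C₁ ≠ C₁ := fun e => hu1 (hu.2 C₁ (hCk C₁ hC₁ hC₁₀) e)
      have hYl : Y ∈ l := by
        have h1 := hY (join L Y C₁) (left_mem_join _ _)
        have h2 := smul_mem_of_fix h1 (right_mem_join Y C₁)
        rw [← line_eq hmoved h2 (right_mem_join Y C₁) (huC.symm ▸ C.2.1) hC₁]
        exact left_mem_join _ _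
      have hY0 : Y = C₀ := point_eq hkl hYk hYl (right_mem_join _ _) hC₀
      exact ⟨⟨u, hu.1, hY0 ▸ hY⟩, Subtype.ext huC⟩
  have hEcard : Nat.card E = r := by
    rw [Nat.card_eq_of_bijective F hbij, Nat.card_eq_fintype_card, Fintype.card_subtype,
      show (Finset.univ.filter fun C : P => C ∈ l ∧ C ≠ C₀) =
        (Finset.univ.filter fun C : P => C ∈ l).erase C₀ by ext; simp [and_comm],
      Finset.card_erase_of_mem (by simp [hC₀]), hcardl, Nat.add_sub_cancel]
  -- two axes for the centre `C₀`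
  obtain ⟨g, hgl, hg1⟩ := exists_ne_one_of_two_le (show 2 ≤ Nat.card (elC G C₀ l) by
    change 2 ≤ f C₀; omega)
  obtain ⟨g', hgk, hg'1⟩ := exists_ne_one_of_two_le (show 2 ≤ Nat.card E by
    rw [hEcard]; exact two_le_order)
  obtain ⟨p, hp, hT, -, -⟩ := elGrp_elementary (P := Dual L) (L := Dual P) (H.faith.lines (L := L))
    (l := C₀) (C := l) (D := k) hC₀ (right_mem_join A₀ C₀) (Ne.symm hkl)
    ⟨g, ⟨hgl.2, hgl.1⟩, hg1⟩ ⟨g', ⟨hgk.2, hgk.1⟩, hg'1⟩
  have : Fact p.Prime := ⟨hp⟩
  have hle : E ≤ elGrp (P := Dual L) (L := Dual P) (H.faith.lines (L := L)) C₀ := fun u hu =>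
    mem_elGrp_of_center (P := Dual L) (L := Dual P) _ hu.2 (C := k) (right_mem_join A₀ C₀) hu.1
  obtain ⟨i, hi⟩ := IsPGroup.iff_card.1 (hT.to_le hle)
  exact ⟨p, i, hp, hEcard.symm.trans hi⟩

/-- A polarity without absolute points does not exist. -/
theorem not_all_small : ¬ ((∀ l : L, Nat.card (elGrp H.faith l) ≤ 1) ∧
    ∀ C : P, Nat.card (elGrp H.dual.faith (show Dual P from C)) ≤ 1) := by
  classical
  rintro ⟨hL, hP⟩
  cases nonempty_fintype P
  choose gC ax hax using all_centres H
  have haxinj : Function.Injective ax := by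
    intro C D e
    obtain ⟨t, ht, rfl⟩ := centers_trans H (hax C) (e ▸ hax D)
    have hsub := Finite.card_le_one_iff_subsingleton.1 (hL (ax C))
    have ht1 : t = 1 := congrArg Subtype.val (hsub.elim ⟨t, ht⟩ (1 : elGrp H.faith (ax C)))
    rw [ht1, one_smul]
  have haxuniq : ∀ (C : P) (g : G) (x : L), Hm g C x → x = ax C := by
    intro C g x hg
    obtain ⟨t, ht, rfl⟩ := centers_trans H.dual (hax C).dual hg.dual
    have hsub := Finite.card_le_one_iff_subsingleton.1 (hP C)
    have ht1 : t = 1 := congrArg Subtype.val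
      (hsub.elim ⟨t, ht⟩ (1 : elGrp H.dual.faith (show Dual P from C)))
    rw [ht1]; exact one_smul G _
  have hsymm : ∀ C D : P, D ∈ ax C → C ∈ ax D := by
    intro C D hD
    have h1 : gC D • ax C = ax C := (hax D).2.2.1 _ hD
    have h2 := (hax C).conj (gC D)
    rw [h1] at h2
    have h3 : gC D • C = C := haxinj ((haxuniq _ _ _ h2).symm)
    exact ((hax D).fixed H.faith h3).resolve_right fun e => (hax C).2.2.2.2 (e ▸ hD)
  set r := ProjectivePlane.order P L
  obtain ⟨q, hq, hqr⟩ := Nat.exists_prime_and_dvd (n := r) (by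
    have := two_le_order (P := P) (L := L); omega)
  have : Fact q.Prime := ⟨hq⟩
  let A : Matrix P P (ZMod q) := Matrix.of fun C D => if D ∈ ax C then 1 else 0
  let J : Matrix P P (ZMod q) := Matrix.of fun _ _ => 1
  have hr : (r : ZMod q) = 0 := (CharP.cast_eq_zero_iff (ZMod q) q r).2 hqr
  have hrow : ∀ C : P, (Finset.univ.filter fun D => D ∈ ax C).card = r + 1 := fun C => by
    rw [← Fintype.card_subtype, ← Nat.card_eq_fintype_card]; exact card_on_line _
  have hA2 : A * A = J := by
    ext C E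
    simp only [Matrix.mul_apply, A, J, Matrix.of_apply, ite_mul, one_mul, zero_mul]
    rw [Finset.sum_ite, Finset.sum_const_zero, add_zero]
    by_cases hCE : C = E
    · subst hCE
      rw [Finset.sum_congr rfl (fun D hD => if_pos (hsymm C D (Finset.mem_filter.1 hD).2)),
        Finset.sum_const, hrow, nsmul_eq_mul, mul_one, Nat.cast_add, hr, Nat.cast_one, zero_add]
    · have hne : ax C ≠ ax E := fun e => hCE (haxinj e)
      rw [Finset.sum_ite, Finset.sum_const_zero, add_zero, Finset.filter_filter, Finset.sum_const,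
        show (Finset.univ.filter fun D => D ∈ ax C ∧ E ∈ ax D) = {meet P (ax C) (ax E)} by
          ext D
          simp only [Finset.mem_filter, Finset.mem_univ, true_and, Finset.mem_singleton]
          exact ⟨fun h => (meet_eq hne h.1 (hsymm _ _ h.2)).symm, fun h => h ▸
            ⟨meet_mem_left _ _, hsymm _ _ (meet_mem_right _ _)⟩⟩,
        Finset.card_singleton, one_smul]
  have hAJ : A * J = J := by
    ext C E
    simp only [Matrix.mul_apply, A, J, Matrix.of_apply, mul_one, Finset.sum_boole, hrow,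
      Nat.cast_add, hr, Nat.cast_one, zero_add]
  have hpow : ∀ i, A ^ (i + 2) = J := fun i => by
    induction i with
    | zero => rw [zero_add, pow_two, hA2]
    | succ i ih => rw [show i + 1 + 2 = (i + 2) + 1 by omega, pow_succ', ih, hAJ]
  have htrA : Matrix.trace A = 0 := Finset.sum_eq_zero fun C _ => if_neg (hax C).2.2.2.2
  have htrJ : Matrix.trace J = 1 := by
    have h1 : (Fintype.card P : ZMod q) = 1 := by
      rw [← Nat.card_eq_fintype_card, card_points_eq (L := L)]
      push_cast
      change (r : ZMod q) ^ 2 + (r : ZMod q) + 1 = 1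
      rw [hr]; ring
    simpa [Matrix.trace, J] using h1
  obtain ⟨i, hi⟩ := Nat.exists_eq_add_of_le hq.two_le
  have := ZMod.trace_pow_card A
  rw [htrA, show A ^ q = J by have := hpow (q - 2); rwa [Nat.sub_add_cancel hq.two_le] at this, htrJ, zero_pow hq.ne_zero] at this
  exact one_ne_zero this

/-- The order of a homology plane is a prime power. -/
theorem HomPlane.prime_power : ∃ p i : ℕ, p.Prime ∧ ProjectivePlane.order P L = p ^ i := by
  by_cases h1 : ∀ l : L, Nat.card (elGrp H.faith l) ≤ 1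
  · by_cases h2 : ∀ C : P, Nat.card (elGrp H.dual.faith (show Dual P from C)) ≤ 1
    · exact absurd ⟨h1, h2⟩ (not_all_small H)
    · push Not at h2
      obtain ⟨C, hC⟩ := h2
      obtain ⟨p, i, hp, h⟩ := prime_power_of_big H.dual _ hC
      exact ⟨p, i, hp, by rwa [ProjectivePlane.Dual.order] at h⟩
  · push Not at h1
    obtain ⟨l, hl⟩ := h1
    exact prime_power_of_big H l hl

end order

end Cfsg.Agent.OstromWagner
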