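import Cfsg.Agent.Lib.OstromWagner.Elation

/-!
Planes of odd order in which every involution is a homology and every pair of points (and of lines)
is fixed by an involution: the order is a power of a prime.
-/

set_option autoImplicit false
set_option linter.unusedSectionVars false

namespace Cfsg.Agent.OstromWagner

open Configuration

universe uG uP uL

/-- An involutory homology with centre `C` and axis `l`. -/
def Hm {G P L : Type*} [Group G] [MulAction G P] [MulAction G L] [Membership P L] (g : G) (C : P)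
    (l : L) : Prop :=
  g * g = 1 ∧ g ≠ 1 ∧ Central (L := L) g C ∧ Axial (P := P) g l ∧ C ∉ l

/-- Odd order, all involutions are homologies, every pair is fixed by an involution. -/
structure HomPlane (G P L : Type*) [Group G] [MulAction G P] [MulAction G L]
    [Membership P L] [ProjectivePlane P L] : Prop where
  faith : Faith G P
  odd : Odd (ProjectivePlane.order P L)
  inv : ∀ g : G, g * g = 1 → g ≠ 1 → ∃ (C : P) (l : L), Hm g C l
  pairP : ∀ B C : P, B ≠ C → ∃ g : G, g * g = 1 ∧ g ≠ 1 ∧ g • B = B ∧ g • C = C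
  pairL : ∀ b c : L, b ≠ c → ∃ g : G, g * g = 1 ∧ g ≠ 1 ∧ g • b = b ∧ g • c = c

section hm

variable {G : Type uG} {P : Type uP} {L : Type uL} [Group G] [Finite G] [MulAction G P]
  [MulAction G L] [Membership P L] [ProjectivePlane P L] [IsColl G P L] [Finite P] [Finite L]

theorem Hm.dual {g : G} {C : P} {l : L} (h : Hm g C l) : Hm (P := Dual L) (L := Dual P) g l C :=
  ⟨h.1, h.2.1, h.2.2.2.1.dual, h.2.2.1.dual, h.2.2.2.2⟩

theorem Hm.of_dual {g : G} {C : P} {l : L} (h : Hm (P := Dual L) (L := Dual P) g l C) :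
    Hm g C l :=
  ⟨h.1, h.2.1, h.2.2.2.1, h.2.2.1, h.2.2.2.2⟩

theorem HomPlane.dual (H : HomPlane G P L) : HomPlane G (Dual L) (Dual P) where
  faith := H.faith.lines (L := L)
  odd := by rw [ProjectivePlane.Dual.order]; exact H.odd
  inv g h1 h2 := by
    obtain ⟨C, l, h⟩ := H.inv g h1 h2
    exact ⟨l, C, h.dual⟩
  pairP := H.pairL
  pairL := H.pairP

theorem Hm.moved (hf : Faith G P) {g : G} {C : P} {l : L} (h : Hm g C l) : ∃ p : P, g • p ≠ p :=
  hf.moved h.2.1

theorem Hm.conj {g : G} {C : P} {l : L} (h : Hm g C l) (k : G) :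
    Hm (k * g * k⁻¹) (k • C) (k • l) := by
  refine ⟨?_, ?_, h.2.2.1.smul k, h.2.2.2.1.smul k, fun hm => h.2.2.2.2 (mem_of_smul_mem k hm)⟩
  · calc k * g * k⁻¹ * (k * g * k⁻¹) = k * (g * g) * k⁻¹ := by simp [mul_assoc]
      _ = 1 := by rw [h.1]; simp
  · exact fun e => h.2.1 (conj_eq_one_iff.1 e)

theorem Hm.fixed (hf : Faith G P) {g : G} {C : P} {l : L} (h : Hm g C l) {X : P}
    (hX : g • X = X) : X ∈ l ∨ X = C :=
  fixed_point_cases h.2.2.2.1 h.2.2.1 (h.moved hf) hX

theorem mul_self_comm {a b : G} (ha : a * a = 1) (hb : b * b = 1) (hc : a * b = b * a) :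
    (a * b) * (a * b) = 1 := by
  calc (a * b) * (a * b) = a * (b * a) * b := by simp [mul_assoc]
    _ = (a * a) * (b * b) := by rw [← hc]; simp [mul_assoc]
    _ = 1 := by rw [ha, hb, one_mul]

/-- An involution fixing a triangle `C, D, E` with `D, E` on `k`, `C, E` on `k'`. -/
theorem triangle_cases (hf : Faith G P) {g : G} {X C D E : P} {x k k' : L} (hg : Hm g X x)
    (hCk : C ∉ k) (hDk : D ∈ k) (hEk : E ∈ k) (hCk' : C ∈ k') (hEk' : E ∈ k') (hDk' : D ∉ k')
    (hC : g • C = C) (hD : g • D = D) (hE : g • E = E) :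
    (X = E ∧ x = join L C D) ∨ (X = C ∧ x = k) ∨ (X = D ∧ x = k') := by
  have hCD : C ≠ D := fun e => hCk (e ▸ hDk)
  have hCE : C ≠ E := fun e => hCk (e ▸ hEk)
  have hDE : D ≠ E := fun e => hDk' (e ▸ hEk')
  rcases hg.fixed hf hC with hCx | rfl
  · rcases hg.fixed hf hD with hDx | rfl
    · rcases hg.fixed hf hE with hEx | rfl
      · exact absurd (line_eq hDE hDx hEx hDk hEk ▸ hCx) hCk
      · exact Or.inl ⟨rfl, (join_eq hCD hCx hDx).symm⟩
    · rcases hg.fixed hf hE with hEx | h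
      · exact Or.inr (Or.inr ⟨rfl, line_eq hCE hCx hEx hCk' hEk'⟩)
      · exact absurd h.symm hDE
  · rcases hg.fixed hf hD with hDx | h
    · rcases hg.fixed hf hE with hEx | h
      · exact Or.inr (Or.inl ⟨rfl, line_eq hDE hDx hEx hDk hEk⟩)
      · exact absurd h.symm hCE
    · exact absurd h.symm hCD

variable (H : HomPlane G P L)
include H

theorem mul_axis {a b : G} {C D : P} {k k' : L} (ha : Hm a C k) (hb : Hm b D k')
    (hc : a * b = b * a) (hCk' : C ∈ k') (hDk : D ∈ k) (hCD : C ≠ D) :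
    ∃ (g : G) (E : P), Hm g E (join L C D) := by
  have hkk : k ≠ k' := fun e => ha.2.2.2.2 (e ▸ hCk')
  have hE1 := meet_mem_left (P := P) k k'
  have hE2 := meet_mem_right (P := P) k k'
  have hne : a * b ≠ 1 := fun e => by
    have hab : a = b := by
      calc a = a * (b * b) := by rw [hb.1, mul_one]
        _ = b := by rw [← mul_assoc, e, one_mul]
    subst hab
    exact hCD (center_unique ha.2.2.1 hb.2.2.1 (ha.moved H.faith))
  obtain ⟨X, x, hX⟩ := H.inv _ (mul_self_comm ha.1 hb.1 hc) hne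
  rcases triangle_cases H.faith hX ha.2.2.2.2 hDk hE1 hCk' hE2 hb.2.2.2.2
    (by rw [mul_smul, hb.2.2.2.1 C hCk', ha.2.2.1.smul_point])
    (by rw [mul_smul, hb.2.2.1.smul_point, ha.2.2.2.1 D hDk])
    (by rw [mul_smul, hb.2.2.2.1 _ hE2, ha.2.2.2.1 _ hE1]) with ⟨-, rfl⟩ | ⟨-, rfl⟩ | ⟨-, rfl⟩
  · exact ⟨_, X, hX⟩
  · have : Axial (P := P) b x := by
      have := ha.2.2.2.1.inv.mul hX.2.2.2.1
      rwa [inv_mul_cancel_left] at this
    exact absurd (axis_unique this hb.2.2.2.1 (hb.moved H.faith)) hkk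
  · have : Axial (P := P) a x := by
      have := hX.2.2.2.1.mul hb.2.2.2.1.inv
      rwa [mul_inv_cancel_right] at this
    exact absurd (axis_unique ha.2.2.2.1 this (ha.moved H.faith)) hkk

/-- Two homologies, each centre on the other's axis: the line of the centres is an axis. -/
theorem crossing {a b : G} {C D : P} {k k' : L} (ha : Hm a C k) (hb : Hm b D k') (hCk' : C ∈ k')
    (hDk : D ∈ k) (hCD : C ≠ D) : ∃ (g : G) (E : P), Hm g E (join L C D) := by
  have hfix : ∀ {X : P}, a • X = X → b • X = X → ∀ t : ℕ, (a * b) ^ t • X = X := fun hA hB t =>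
    MulAction.mem_stabilizer_iff.1
      (pow_mem (mul_mem (MulAction.mem_stabilizer_iff.2 hA) (MulAction.mem_stabilizer_iff.2 hB)) t)
  have hbi : b⁻¹ = b := inv_eq_of_mul_eq_one_right hb.1
  have hai : a⁻¹ = a := inv_eq_of_mul_eq_one_right ha.1
  have hab : a * (a * b) * a⁻¹ = (a * b)⁻¹ := by
    rw [mul_inv_rev, hai, hbi, ← mul_assoc a a b, ha.1, one_mul]
  have hconj : ∀ t : ℕ, a * (a * b) ^ t * a⁻¹ = ((a * b) ^ t)⁻¹ := fun t => by
    rw [← conj_pow, hab, inv_pow]
  have hC : ∀ t : ℕ, (a * b) ^ t • C = C := hfix ha.2.2.1.smul_point (hb.2.2.2.1 C hCk')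
  rcases Nat.even_or_odd' (orderOf (a * b)) with ⟨t, ht | ht⟩
  · -- even order: a central involution
    have hpos := orderOf_pos (a * b)
    set j := (a * b) ^ t with hj
    have hjj : j * j = 1 := by rw [hj, ← pow_add, ← two_mul, ← ht, pow_orderOf_eq_one]
    have hj1 : j ≠ 1 := fun e => by
      have := orderOf_le_of_pow_eq_one (x := a * b) (n := t) (by omega) e
      omega
    have hji : j⁻¹ = j := inv_eq_of_mul_eq_one_right hjj
    have hja : a * j = j * a := by
      have := hconj t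
      rw [← hj, hji, mul_inv_eq_iff_eq_mul] at this
      exact this
    have hjb : j * b = b * j := by
      have h1 : j * (a * b) = (a * b) * j := (Commute.pow_self (a * b) t).eq
      have h2 : b = a⁻¹ * (a * b) := by rw [inv_mul_cancel_left]
      calc j * b = j * (a * (a * b)) := by rw [← mul_assoc a a b, ha.1, one_mul]
        _ = (j * a) * (a * b) := by rw [mul_assoc]
        _ = a * (j * (a * b)) := by rw [← hja, mul_assoc]
        _ = a * (a * b) * j := by rw [h1, mul_assoc a (a * b) j]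
        _ = b * j := by rw [← mul_assoc a a b, ha.1, one_mul]
    obtain ⟨X, x, hX⟩ := H.inv j hjj hj1
    rcases triangle_cases H.faith hX ha.2.2.2.2 hDk (meet_mem_left k k') hCk'
      (meet_mem_right k k') hb.2.2.2.2 (hC t) (hfix (ha.2.2.2.1 D hDk) hb.2.2.1.smul_point t)
      (hfix (ha.2.2.2.1 _ (meet_mem_left k k')) (hb.2.2.2.1 _ (meet_mem_right k k')) t) with
      ⟨-, rfl⟩ | ⟨rfl, rfl⟩ | ⟨rfl, rfl⟩
    · exact ⟨_, X, hX⟩
    · exact mul_axis H hX hb hjb hCk' hDk hCD
    · exact mul_axis H ha hX hja hCk' hDk hCD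
  · -- odd order: the two homologies would be conjugate fixing `C`
    exfalso
    have h1 : (a * b) ^ t * a * ((a * b) ^ t)⁻¹ = b := by
      have h2 : ((a * b) ^ t)⁻¹ = a * (a * b) ^ t * a⁻¹ := (hconj t).symm
      have h3 : (a * b) ^ t * (a * b) ^ t = (a * b)⁻¹ := by
        refine eq_inv_of_mul_eq_one_left ?_
        rw [← pow_add, ← pow_succ, show t + t + 1 = 2 * t + 1 by omega, ← ht, pow_orderOf_eq_one]
      calc (a * b) ^ t * a * ((a * b) ^ t)⁻¹
          = (a * b) ^ t * (a * a) * (a * b) ^ t * a⁻¹ := by rw [h2]; simp [mul_assoc]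
        _ = (a * b)⁻¹ * a⁻¹ := by rw [ha.1, mul_one, h3]
        _ = b := by rw [mul_inv_rev, hai, hbi, mul_assoc, ha.1, mul_one]
    have h2 := ha.2.2.1.smul ((a * b) ^ t)
    rw [h1, hC t] at h2
    exact hCD (center_unique h2 hb.2.2.1 (hb.moved H.faith))

/-- Every line is the axis of an involutory homology. -/
theorem all_axes (l : L) : ∃ g C, Hm (G := G) (P := P) g C l := by
  by_contra hl
  have hedge : ∀ B C : P, B ∈ l → C ∈ l → B ≠ C →
      (∃ g x, Hm (G := G) (L := L) g B x ∧ C ∈ x) ∨ ∃ g x, Hm (G := G) (L := L) g C x ∧ B ∈ x := by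
    intro B C hB hC hBC
    obtain ⟨g, h1, h2, hgB, hgC⟩ := H.pairP B C hBC
    obtain ⟨X, x, hX⟩ := H.inv g h1 h2
    rcases hX.fixed H.faith hgB with hBx | rfl
    · rcases hX.fixed H.faith hgC with hCx | rfl
      · obtain rfl := line_eq hBC hBx hCx hB hC
        exact absurd ⟨g, X, hX⟩ hl
      · exact Or.inr ⟨g, x, hX, hBx⟩
    · rcases hX.fixed H.faith hgC with hCx | h
      · exact Or.inl ⟨g, x, hX, hCx⟩
      · exact absurd h.symm hBC
  obtain ⟨B₀, hB₀, -⟩ := exists_ne_ne_mem l (meet P l l) (meet P l l)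
  obtain ⟨C₀, hC₀, hBC₀, -⟩ := exists_ne_ne_mem l B₀ B₀
  obtain ⟨C, D, hC, hD, h, x, hh, hDx⟩ : ∃ C D : P, C ∈ l ∧ D ∈ l ∧
      ∃ g x, Hm (G := G) (L := L) g C x ∧ D ∈ x := by
    rcases hedge B₀ C₀ hB₀ hC₀ (Ne.symm hBC₀) with h | h
    · exact ⟨B₀, C₀, hB₀, hC₀, h⟩
    · exact ⟨C₀, B₀, hC₀, hB₀, h⟩
  obtain ⟨E, hE, hEC, hED⟩ := exists_ne_ne_mem l C D
  have hmove : h • E ≠ E := by
    intro he
    rcases hh.fixed H.faith he with hEx | rfl
    · exact hh.2.2.2.2 (line_eq hED hEx hDx hE hD ▸ hC)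
    · exact hEC rfl
  have hE' : h • E ∈ l := smul_mem_of_fix (hh.2.2.1 l hC) hE
  have hback : h • h • E = E := by rw [← mul_smul, hh.1, one_smul]
  rcases hedge E (h • E) hE hE' (Ne.symm hmove) with ⟨g, y, hg, hy⟩ | ⟨g, y, hg, hy⟩
  · obtain ⟨g', X, hX⟩ := crossing H hg (hg.conj h) (by
      have := smul_mem_smul h hy; rwa [hback] at this) hy (Ne.symm hmove)
    rw [join_eq (Ne.symm hmove) hE hE'] at hX
    exact hl ⟨g', X, hX⟩
  · have hc := hg.conj h
    rw [hback] at hc
    obtain ⟨g', X, hX⟩ := crossing H hc hg hy (smul_mem_smul h hy) (Ne.symm hmove)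
    rw [join_eq (Ne.symm hmove) hE hE'] at hX
    exact hl ⟨g', X, hX⟩

theorem all_centres (C : P) : ∃ g l, Hm (G := G) (L := L) g C l := by
  obtain ⟨g, l, h⟩ := all_axes H.dual C
  exact ⟨g, l, Hm.of_dual (P := P) (L := L) h⟩

/-- Two centres for the same axis differ by an elation. -/
theorem centers_trans {g g' : G} {A B : P} {l : L} (hg : Hm g A l) (hg' : Hm g' B l) :
    ∃ t ∈ elGrp H.faith l, t • A = B :=
  centers_orbit H.faith hg.2.2.2.2 ⟨g, hg.2.1, hg.2.2.2.1, hg.2.2.1.smul_point⟩ B hg'.2.2.2.2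
    ⟨g', hg'.2.1, hg'.2.2.2.1, hg'.2.2.1.smul_point⟩

theorem card_centres (l : L) :
    {A : P | ∃ g : G, Hm g A l}.ncard = Nat.card (elGrp H.faith l) := by
  obtain ⟨g, A, hg⟩ := all_axes H l
  have heq : {B : P | ∃ g : G, Hm g B l} = Set.range (fun t : elGrp H.faith l => (t : G) • A) := by
    ext B
    constructor
    · rintro ⟨g', hg'⟩
      obtain ⟨t, ht, rfl⟩ := centers_trans H hg hg'
      exact ⟨⟨t, ht⟩, rfl⟩
    · rintro ⟨t, rfl⟩
      refine ⟨(t : G) * g * (t : G)⁻¹, ?_⟩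
      have := hg.conj (t : G)
      rwa [(show Axial (P := P) (t : G) l from t.2.1).smul_line] at this
  rw [heq, Set.ncard_range_of_injective]
  intro a b e
  have h1 : ((b : G)⁻¹ * a) • A = A := by
    rw [mul_smul]; exact inv_smul_eq_iff.2 e
  exact Subtype.ext (inv_mul_eq_one.1 ((mul_mem (inv_mem b.2) a.2).2 A hg.2.2.2.2 h1)).symm

theorem odd_card_elGrp (l : L) : Odd (Nat.card (elGrp H.faith l)) :=
  (Odd.pow H.odd).of_dvd_nat (card_elGrp_dvd H.faith l)

/-- For every point `C` of `l`: some `D ∈ l` with `s ≤ |E(C,l)| * |E(D,l)|`. -/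
theorem partner (l : L) {C : P} (hC : C ∈ l) :
    ∃ (A : P) (x : L) (g g' : G), Hm g C x ∧ Hm g' A l ∧ A ∈ x ∧
      Nat.card (elGrp H.faith l) ≤ Nat.card (elC G C l) * Nat.card (elC G (meet P x l) l) := by
  classical
  obtain ⟨h, x, hh⟩ := all_centres H C
  have hhl : h • l = l := hh.2.2.1 l hC
  set S := {A : P | ∃ g : G, Hm g A l}
  have hinv : ∀ A ∈ S, h • A ∈ S := by
    rintro A ⟨g, hg⟩
    have := hg.conj h
    rw [hhl] at this
    exact ⟨_, this⟩
  -- a fixed centre
  obtain ⟨A, ⟨g', hg'⟩, hA⟩ : ∃ A ∈ S, h • A = A := by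
    cases nonempty_fintype S
    let σ : Equiv.Perm S := Function.Involutive.toPerm (fun A => ⟨h • A.1, hinv A.1 A.2⟩)
      (fun A => Subtype.ext (by simp [← mul_smul, hh.1]))
    have hσ : σ ^ 2 ^ 1 = 1 := by
      ext A
      rw [pow_one, pow_two]
      exact (by rw [← mul_smul, hh.1, one_smul] : h • h • (A : P) = A)
    have hodd : ¬ 2 ∣ Fintype.card S := by
      rw [← Nat.card_eq_fintype_card, Nat.card_coe_set_eq, card_centres H l]
      exact (odd_card_elGrp H l).not_two_dvd_nat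
    obtain ⟨A, hA⟩ := Equiv.Perm.exists_fixed_point_of_prime (p := 2) (n := 1) hodd hσ
    exact ⟨A.1, A.2, congrArg Subtype.val hA⟩
  have hAx : A ∈ x := (hh.fixed H.faith hA).resolve_right (fun e => hg'.2.2.2.2 (e ▸ hC))
  refine ⟨A, x, h, g', hh, hg', hAx, ?_⟩
  set D := meet P x l
  have hDx : D ∈ x := meet_mem_left x l
  have hDl : D ∈ l := meet_mem_right x l
  set T := elGrp H.faith l
  have hT : ∀ t : T, Axial (P := P) (t : G) l := fun t => t.2.1
  -- the stabiliser of `x`
  have hstab : Nat.card (MulAction.stabilizer T x) ≤ Nat.card (elC G D l) := by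
    have hmem : ∀ t : MulAction.stabilizer T x, ((t : T) : G) ∈ elC G D l := fun t => by
      refine ⟨hT _, ?_⟩
      by_cases h1 : ((t : T) : G) = 1
      · intro m _; rw [h1, one_smul]
      obtain ⟨Y, hYl, hY⟩ := elation_center H.faith (t : T).2
      rcases fixed_line_cases (hT _) hY (H.faith.moved h1) (k := x) t.2 with hYx | hxl
      · have hxl : x ≠ l := fun e => hh.2.2.2.2 (e ▸ hC)
        rwa [show D = Y from meet_eq hxl hYx hYl]
      · exact absurd (hxl ▸ hC) hh.2.2.2.2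
    exact Nat.card_le_card_of_injective (fun t => (⟨_, hmem t⟩ : elC G D l))
      (fun a b e => Subtype.ext (Subtype.ext (congrArg (fun z : elC G D l => (z : G)) e)))
  -- the orbit of `x`
  have horb : Nat.card (MulAction.orbit T x) ≤ Nat.card (elC G C l) := by
    have hex : ∀ y : MulAction.orbit T x, ∃ u : elC G C l, (u : G) • x = y.1 := by
      rintro ⟨_, t, rfl⟩
      change ∃ u : elC G C l, (u : G) • x = (t : G) • x
      by_cases he : (t : G) • x = x
      · exact ⟨1, by rw [he]; exact one_smul _ _⟩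
      have hc := hh.conj (t : G)
      rw [hT t C hC] at hc
      obtain ⟨u, hu, hux⟩ := centers_trans H.dual hh.dual hc.dual
      have hux' : u • x = (t : G) • x := hux
      have hu1 : u ≠ 1 := fun e => he (by rw [← hux', e, one_smul])
      have huC : Central (L := L) u C := hu.1
      obtain ⟨y, hy⟩ := huC.exists_axis
      have hyC : C ∈ y := by
        by_contra hCy
        exact hu1 (hu.2 y hCy hy.smul_line)
      have hQ : meet P y x ∈ (t : G) • x := by
        rw [← hux', ← hy _ (meet_mem_left y x)]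
        exact smul_mem_smul u (meet_mem_right y x)
      have hQD : meet P y x = D := point_eq (Ne.symm he) (meet_mem_right y x) hQ hDx
        (mem_smul_of_fix (hT t D hDl) hDx)
      have hCD : C ≠ D := fun e => hh.2.2.2.2 (e ▸ hDx)
      have hyl : y = l := line_eq hCD hyC (hQD ▸ meet_mem_left y x) hC hDl
      exact ⟨⟨u, hyl ▸ hy, huC⟩, hux'⟩
    choose u hu using hex
    exact Nat.card_le_card_of_injective u (fun a b e => Subtype.ext (by rw [← hu a, ← hu b, e]))
  calc Nat.card T = Nat.card (MulAction.orbit T x) * Nat.card (MulAction.stabilizer T x) := by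
        rw [← Nat.card_prod, Nat.card_congr (MulAction.orbitProdStabilizerEquivGroup T x)]
    _ ≤ _ := Nat.mul_le_mul horb hstab

theorem card_elC_mul_le (l : L) {C D : P} (hC : C ∈ l) (hD : D ∈ l) (hCD : C ≠ D) :
    Nat.card (elC G C l) * Nat.card (elC G D l) ≤ Nat.card (elGrp H.faith l) := by
  rw [← Nat.card_prod]
  refine Nat.card_le_card_of_injective
    (fun x => (⟨(x.1 : G) * (x.2 : G),
      mul_mem (elC_le H.faith hC x.1.2) (elC_le H.faith hD x.2.2)⟩ : elGrp H.faith l)) ?_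
  rintro ⟨a, b⟩ ⟨a', b'⟩ e
  have e' : (a : G) * b = a' * b' := congrArg Subtype.val e
  have h1 : (a' : G)⁻¹ * a = b' * (b : G)⁻¹ := by
    rw [eq_mul_inv_iff_mul_eq, mul_assoc, e', inv_mul_cancel_left]
  have h2 : (a' : G)⁻¹ * a = 1 := elC_inter H.faith hCD (mul_mem (inv_mem a'.2) a.2)
    (h1 ▸ mul_mem b'.2 (inv_mem b.2))
  have ha : a = a' := Subtype.ext (inv_mul_eq_one.1 h2).symm
  subst ha
  exact Prod.ext rfl (Subtype.ext (mul_left_cancel e'))

end hm

end Cfsg.Agent.OstromWagner
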