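import Cfsg.Agent.Lib.OstromWagner.Coll

/-!
The fixed subplane of a group with a fixed quadrangle, Baer's theorem, and 2-groups on planes of
odd order.
-/

set_option autoImplicit false
set_option linter.unusedSectionVars false

namespace Cfsg.Agent.OstromWagner

open Configuration

universe uG uP uL

/-- The elements fixed by a subgroup. -/
@[ext]
structure Fx {G : Type uG} [Group G] (H : Subgroup G) (X : Type uP) [MulAction G X] where
  /-- the underlying element -/
  val : X
  fix : ∀ h ∈ H, h • val = val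

/-- The set of elements fixed by a subgroup. -/
def fixSet {G : Type uG} [Group G] (H : Subgroup G) (X : Type uP) [MulAction G X] : Set X :=
  {x | ∀ h ∈ H, h • x = x}

section fx

variable {G : Type uG} [Group G] {H : Subgroup G} {X : Type uP} [MulAction G X]

/-- `Fx` as a subtype. -/
def fxEquiv (H : Subgroup G) (X : Type uP) [MulAction G X] : Fx H X ≃ fixSet H X :=
  ⟨fun x => ⟨x.val, x.fix⟩, fun x => ⟨x.1, x.2⟩, fun _ => rfl, fun _ => rfl⟩

instance instFiniteFx [Finite X] : Finite (Fx H X) := Finite.of_equiv _ (fxEquiv H X).symm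

instance instMulActionFx : MulAction (Subgroup.normalizer (H : Set G)) (Fx H X) where
  smul g x := ⟨(g : G) • x.val, fun h hh => by
    have := x.fix _ ((Subgroup.mem_normalizer_iff''.1 g.2 h).1 hh)
    rwa [mul_smul, mul_smul, inv_smul_eq_iff] at this⟩
  one_smul _ := Fx.ext (one_smul G _)
  mul_smul a b x := Fx.ext (mul_smul (a : G) (b : G) x.val)

theorem fx_smul_val (g : Subgroup.normalizer (H : Set G)) (x : Fx H X) :
    (g • x).val = (g : G) • x.val := rfl

theorem fx_smul_eq_iff (g : Subgroup.normalizer (H : Set G)) (x : Fx H X) :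
    g • x = x ↔ (g : G) • x.val = x.val := by rw [Fx.ext_iff, fx_smul_val]

end fx

section plane

variable {G : Type uG} {P : Type uP} {L : Type uL} [Group G] [MulAction G P] [MulAction G L]
  [Membership P L] [ProjectivePlane P L] [IsColl G P L] [Finite P] [Finite L] {H : Subgroup G}

instance instMemFx : Membership (Fx H P) (Fx H L) := ⟨fun l p => p.val ∈ l.val⟩

theorem fx_mem_iff {p : Fx H P} {l : Fx H L} : p ∈ l ↔ p.val ∈ l.val := Iff.rfl

instance instIsCollFx : IsColl (Subgroup.normalizer (H : Set G)) (Fx H P) (Fx H L) :=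
  ⟨fun g p l => IsColl.smul_mem_iff (g : G) p.val l.val⟩

theorem join_fix {p q : P} (hne : p ≠ q) (hp : p ∈ fixSet H P) (hq : q ∈ fixSet H P) :
    join L p q ∈ fixSet H L := fun h hh =>
  smul_line_fix hne (hp h hh) (hq h hh) (left_mem_join p q) (right_mem_join p q)

theorem meet_fix {l m : L} (hne : l ≠ m) (hl : l ∈ fixSet H L) (hm : m ∈ fixSet H L) :
    meet P l m ∈ fixSet H P := fun h hh =>
  smul_point_fix hne (hl h hh) (hm h hh) (meet_mem_left _ _) (meet_mem_right _ _)

theorem fx_val_ne {p q : Fx H P} (h : p ≠ q) : p.val ≠ q.val := fun e => h (Fx.ext e)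

/-- A fixed quadrangle makes the fixed points and lines into a projective plane. -/
noncomputable def fxPlane (hq : Quad L (fixSet H P)) : ProjectivePlane (Fx H P) (Fx H L) where
  exists_point l := by
    obtain ⟨a, ha, b, hb, c, hc, -, -, habc, -⟩ := hq
    by_contra hall
    push Not at hall
    exact habc l.val (hall ⟨a, ha⟩) (hall ⟨b, hb⟩) (hall ⟨c, hc⟩)
  exists_line p := by
    obtain ⟨a, ha, b, hb, c, hc, -, -, habc, -⟩ := hq
    by_contra hall
    push Not at hall
    have h1 : p.val ∈ join L a b := hall ⟨_, join_fix habc.ne12 ha hb⟩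
    have h2 : p.val ∈ join L a c := hall ⟨_, join_fix habc.ne13 ha hc⟩
    have h3 : p.val ∈ join L b c := hall ⟨_, join_fix habc.ne23 hb hc⟩
    have hne : join L a b ≠ join L a c := fun e => habc.not_mem (e ▸ right_mem_join a c)
    rw [point_eq hne h1 h2 (left_mem_join a b) (left_mem_join a c)] at h3
    exact habc _ h3 (left_mem_join b c) (right_mem_join b c)
  eq_or_eq {p₁ p₂ l₁ l₂} h11 h21 h12 h22 := by
    rcases Nondegenerate.eq_or_eq (P := P) (L := L) h11 h21 h12 h22 with h | h
    · exact Or.inl (Fx.ext h)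
    · exact Or.inr (Fx.ext h)
  mkPoint {l₁ l₂} h := ⟨meet P l₁.val l₂.val, meet_fix (fun e => h (Fx.ext e)) l₁.fix l₂.fix⟩
  mkPoint_ax {_ _} _ := ⟨meet_mem_left _ _, meet_mem_right _ _⟩
  mkLine {p₁ p₂} h := ⟨join L p₁.val p₂.val, join_fix (fun e => h (Fx.ext e)) p₁.fix p₂.fix⟩
  mkLine_ax {_ _} _ := ⟨left_mem_join _ _, right_mem_join _ _⟩
  exists_config := by
    obtain ⟨a, ha, b, hb, c, hc, d, hd, habc, habd, hacd, hbcd⟩ := hq
    refine ⟨⟨a, ha⟩, ⟨b, hb⟩, ⟨c, hc⟩, ⟨_, join_fix hacd.ne13 ha hd⟩, ⟨_, join_fix habc.ne23 hb hc⟩,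
      ⟨_, join_fix hbcd.ne13 hb hd⟩, ?_, ?_, ?_, left_mem_join b c, left_mem_join b d, ?_,
      right_mem_join b c, ?_⟩
    · exact fun h => habc _ h (left_mem_join b c) (right_mem_join b c)
    · exact fun h => habd _ h (left_mem_join b d) (right_mem_join b d)
    · exact fun h => habd _ (left_mem_join a d) h (right_mem_join a d)
    · exact fun h => hacd _ (left_mem_join a d) h (right_mem_join a d)
    · exact fun h => hbcd _ (left_mem_join b d) h (right_mem_join b d)

/-- The order of the fixed subplane. -/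
noncomputable def fxOrder (hq : Quad L (fixSet H P)) : ℕ :=
  @ProjectivePlane.order (Fx H P) (Fx H L) _ (fxPlane hq)

theorem two_le_fxOrder (hq : Quad L (fixSet H P)) : 2 ≤ fxOrder hq :=
  @two_le_order (Fx H P) (Fx H L) _ (fxPlane hq) _ _

theorem card_fixSet (hq : Quad L (fixSet H P)) :
    Nat.card (fixSet H P) = fxOrder hq ^ 2 + fxOrder hq + 1 := by
  rw [← Nat.card_congr (fxEquiv H P)]
  exact @card_points_eq (Fx H P) (Fx H L) _ (fxPlane hq) _ _

theorem card_fixSet_lines (hq : Quad L (fixSet H P)) :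
    Nat.card (fixSet H L) = fxOrder hq ^ 2 + fxOrder hq + 1 := by
  rw [← Nat.card_congr (fxEquiv H L)]
  exact @card_lines_eq (Fx H P) (Fx H L) _ (fxPlane hq) _ _

theorem ncard_fix_on_line (hq : Quad L (fixSet H P)) {l : L} (hl : l ∈ fixSet H L) :
    {p : P | p ∈ l ∧ p ∈ fixSet H P}.ncard = fxOrder hq + 1 := by
  letI := fxPlane hq
  rw [← Nat.card_coe_set_eq, fxOrder, ← card_on_line (P := Fx H P) (⟨l, hl⟩ : Fx H L)]
  exact Nat.card_congr
    ⟨fun p => ⟨⟨p.1, p.2.2⟩, p.2.1⟩, fun p => ⟨p.1.val, p.2, p.1.fix⟩, fun _ => rfl, fun _ => rfl⟩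

theorem fxOrder_le (hq : Quad L (fixSet H P)) : fxOrder hq ≤ ProjectivePlane.order P L := by
  obtain ⟨a, ha, b, hb, c, hc, -, -, habc, -⟩ := id hq
  have h1 := ncard_fix_on_line hq (join_fix habc.ne12 ha hb)
  have h2 := Set.ncard_le_ncard (s := {p : P | p ∈ join L a b ∧ p ∈ fixSet H P})
    (t := {p : P | p ∈ join L a b}) (fun p hp => hp.1) (Set.toFinite _)
  rw [h1, ncard_on_line] at h2
  omega

/-- Orders of subplanes are determined by their point sets. -/
theorem fxOrder_inj {G' : Type*} {P' : Type*} {L' : Type*} [Group G'] [MulAction G' P']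
    [MulAction G' L'] [Membership P' L'] [ProjectivePlane P' L'] [IsColl G' P' L'] [Finite P']
    [Finite L'] {H' : Subgroup G'} (hq : Quad L (fixSet H P)) (hq' : Quad L' (fixSet H' P'))
    (h : Nat.card (fixSet H P) = Nat.card (fixSet H' P')) : fxOrder hq = fxOrder hq' := by
  rw [card_fixSet hq, card_fixSet hq'] at h
  rcases lt_trichotomy (fxOrder hq) (fxOrder hq') with h' | h' | h'
  · nlinarith
  · exact h'
  · nlinarith

/-- Baer: an involutory collineation with a fixed quadrangle has a fixed subplane of order `√n`. -/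
theorem baer {z : G} (hz : ∀ p : P, z • z • p = p) (hne : ∃ p : P, z • p ≠ p)
    (hfP : ∀ p : P, z • p = p ↔ p ∈ fixSet H P) (hfL : ∀ l : L, z • l = l ↔ l ∈ fixSet H L)
    (hq : Quad L (fixSet H P)) : ProjectivePlane.order P L = fxOrder hq ^ 2 := by
  classical
  cases nonempty_fintype P
  cases nonempty_fintype L
  set n := ProjectivePlane.order P L
  set m := fxOrder hq
  have hswap : ∀ X : P, z • X ≠ X → z • join L X (z • X) = join L X (z • X) := by
    intro X hX
    rw [smul_join z (Ne.symm hX), hz]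
    exact join_eq hX (right_mem_join _ _) (left_mem_join _ _)
  have hle := fxOrder_le hq
  have key : (Finset.univ.filter fun X : P => z • X ≠ X).card =
      (Finset.univ.filter fun l : L => z • l = l).card * (n - m) := by
    rw [Finset.card_eq_sum_card_fiberwise (f := fun X => join L X (z • X))
      (t := Finset.univ.filter fun l : L => z • l = l)
      (fun X hX => by
        simp only [Finset.coe_filter, Finset.mem_univ, true_and, Set.mem_setOf_eq] at hX ⊢
        exact hswap X hX), ← smul_eq_mul, ← Finset.sum_const]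
    refine Finset.sum_congr rfl fun l hl => ?_
    have hl : z • l = l := by simpa using hl
    have h1 : {p : P | p ∈ l}.ncard = n + 1 := ncard_on_line l
    have h2 : {p : P | p ∈ l ∧ p ∈ fixSet H P}.ncard = m + 1 := ncard_fix_on_line hq ((hfL l).1 hl)
    have h3 : (Finset.univ.filter fun X : P => z • X ≠ X).filter (fun X => join L X (z • X) = l) =
        ({p : P | p ∈ l} \ {p : P | p ∈ l ∧ p ∈ fixSet H P}).toFinset := by
      ext X
      simp only [Finset.mem_filter, Finset.mem_univ, true_and, Set.mem_toFinset, Set.mem_diff,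
        Set.mem_setOf_eq, ← hfP]
      constructor
      · rintro ⟨hX, rfl⟩
        exact ⟨left_mem_join _ _, fun h => hX h.2⟩
      · rintro ⟨hXl, hX⟩
        exact ⟨fun h => hX ⟨hXl, h⟩,
          join_eq (Ne.symm fun h => hX ⟨hXl, h⟩) hXl (smul_mem_of_fix hl hXl)⟩
    rw [h3, ← Set.ncard_eq_toFinset_card', Set.ncard_diff (fun p hp => hp.1) (Set.toFinite _), h1, h2]
    omega
  have hf : (Finset.univ.filter fun X : P => z • X = X).card = m ^ 2 + m + 1 := by
    rw [← card_fixSet hq, Nat.card_coe_set_eq, ← Set.ncard_coe_finset]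
    congr 1
    ext p; simp [hfP]
  have hfl : (Finset.univ.filter fun l : L => z • l = l).card = m ^ 2 + m + 1 := by
    rw [← card_fixSet_lines hq, Nat.card_coe_set_eq, ← Set.ncard_coe_finset]
    congr 1
    ext p; simp [hfL]
  have hsum := Finset.card_filter_add_card_filter_not (s := (Finset.univ : Finset P))
    (fun X : P => z • X = X)
  rw [Finset.card_univ, ProjectivePlane.card_points P L, hf, key, hfl] at hsum
  obtain ⟨d, hd⟩ := Nat.exists_eq_add_of_le hle
  have hd0 : d ≠ 0 := by
    rintro rfl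
    obtain ⟨p, hp⟩ := hne
    have : (Finset.univ.filter fun X : P => z • X ≠ X).card = 0 := by
      rw [key, show n - m = 0 by omega, mul_zero]
    exact (Finset.card_eq_zero.1 this ▸ Finset.notMem_empty p) (by simp [hp])
  change m ^ 2 + m + 1 + (m ^ 2 + m + 1) * (n - m) = n ^ 2 + n + 1 at hsum
  rw [show n - m = d by omega, show n = m + d from hd] at hsum
  have h5 : (m ^ 2 + m + 1) * d = (2 * m + d + 1) * d := by nlinarith
  have h6 := Nat.eq_of_mul_eq_mul_right (Nat.pos_of_ne_zero hd0) h5
  rw [show n = m + d from hd]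
  omega

end plane

/-- A 2-group with a fixed quadrangle on a plane of odd order. -/
theorem chain_aux : ∀ (n : ℕ) (G : Type uG) (P : Type uP) (L : Type uL) [Group G] [Finite G]
    [MulAction G P] [MulAction G L] [Membership P L] [ProjectivePlane P L] [IsColl G P L]
    [Finite P] [Finite L], ProjectivePlane.order P L = n → Odd n → IsPGroup 2 G →
    ∀ hq : Quad L (fixSet (⊤ : Subgroup G) P), ∃ i : ℕ, n = fxOrder hq ^ i := by
  intro n
  induction n using Nat.strong_induction_on with
  | _ n ih =>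
  intro G P L _ _ _ _ _ _ _ _ _ hn hodd hG hq
  by_cases htriv : ∀ (g : G) (p : P), g • p = p
  · refine ⟨1, ?_⟩
    have h1 := card_fixSet hq
    have h2 : Nat.card (fixSet (⊤ : Subgroup G) P) = Nat.card P :=
      Nat.card_congr ⟨fun p => p.1, fun p => ⟨p, fun g _ => htriv g p⟩, fun _ => rfl, fun _ => rfl⟩
    rw [h2, card_points_eq (L := L), hn] at h1
    rw [pow_one]
    nlinarith
  push Not at htriv
  set f := MulAction.toPermHom G P
  have hrange : IsPGroup 2 f.range := hG.of_surjective f.rangeRestrict f.rangeRestrict_surjective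
  have hnt : Nontrivial f.range := by
    obtain ⟨g, p, hgp⟩ := htriv
    refine ⟨⟨f g, g, rfl⟩, 1, fun e => hgp ?_⟩
    exact Equiv.Perm.congr_fun (congrArg Subtype.val e) p
  have hcen : Nontrivial (Subgroup.center f.range) := hrange.center_nontrivial
  obtain ⟨w, hw⟩ := exists_prime_orderOf_dvd_card' (G := Subgroup.center f.range) 2 (by
    obtain ⟨k, hk⟩ := (hrange.to_subgroup (Subgroup.center f.range)).exists_card_eq
    rcases k with _ | k
    · have := Finite.one_lt_card (α := Subgroup.center f.range)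
      simp [hk] at this
    · exact ⟨2 ^ k, by rw [hk, pow_succ, mul_comm]⟩)
  obtain ⟨z, hz⟩ := (w : f.range).2
  have hcomm : ∀ g : G, f g * f z = f z * f g := fun g => by
    have := (Subgroup.mem_center_iff.1 w.2 ⟨f g, g, rfl⟩)
    rw [hz]; exact congrArg Subtype.val this
  have hsq : f z * f z = 1 := by
    have h := pow_orderOf_eq_one w
    rw [hw, pow_two] at h
    rw [hz]; exact congrArg (fun x : Subgroup.center f.range => ((x : f.range) : Equiv.Perm P)) h
  have hz2 : ∀ p : P, z • z • p = p := fun p => Equiv.Perm.congr_fun hsq p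
  have hzne : ∃ p : P, z • p ≠ p := by
    by_contra h
    push Not at h
    have : w = 1 := Subtype.ext (Subtype.ext (hz.symm.trans (Equiv.ext h)))
    simp [this] at hw
  set H : Subgroup G := (Subgroup.zpowers (f z)).comap f with hH
  have hnormal : H.Normal := ⟨fun h hh g => by
    obtain ⟨i, hi⟩ := hh
    refine ⟨i, ?_⟩
    simp only at hi ⊢
    rw [map_mul, map_mul, map_inv, ← hi, ((show Commute (f g) (f z) from hcomm g).zpow_right i).eq,
      mul_inv_cancel_right]⟩
  have hzH : z ∈ H := Subgroup.mem_zpowers (f z)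
  have hfP : ∀ p : P, z • p = p ↔ p ∈ fixSet H P := by
    refine fun p => ⟨fun hp h hh => ?_, fun h => h z hzH⟩
    obtain ⟨i, hi⟩ := hh
    change f h p = p
    rw [← show f z ^ i = f h from hi]
    exact Equiv.Perm.zpow_apply_eq_self_of_apply_eq_self hp i
  have hfL : ∀ l : L, z • l = l ↔ l ∈ fixSet H L := by
    refine fun l => ⟨fun hl h hh => ?_, fun h => h z hzH⟩
    obtain ⟨i, hi⟩ := hh
    have h1 : ∀ p : P, (h * (z ^ i)⁻¹) • p = p := fun p => by
      change f (h * (z ^ i)⁻¹) p = p
      rw [map_mul, map_inv, map_zpow, show f z ^ i = f h from hi, mul_inv_cancel]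
      rfl
    have h2 := fix_lines_of_fix_points h1 l
    have h3 : (z ^ i)⁻¹ • l = l :=
      MulAction.mem_stabilizer_iff.1 (inv_mem (zpow_mem (MulAction.mem_stabilizer_iff.2 hl) i))
    rwa [mul_smul, h3] at h2
  have hqH : Quad L (fixSet H P) := hq.mono fun p hp h _ => hp h trivial
  have hb := baer hz2 hzne hfP hfL hqH
  have hm2 := two_le_fxOrder hqH
  rw [hn] at hb
  have hlt : fxOrder hqH < n := by rw [hb]; nlinarith
  have hmodd : Odd (fxOrder hqH) := by
    rw [hb] at hodd
    exact (Nat.odd_pow_iff two_ne_zero).1 hodd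
  letI := fxPlane hqH
  set N := Subgroup.normalizer (H : Set G)
  have htop : ∀ g : G, g ∈ N := fun g => by rw [show N = ⊤ from Subgroup.normalizer_eq_top (H := H)]; trivial
  have hq' : Quad (Fx H L) (fixSet (⊤ : Subgroup N) (Fx H P)) := by
    obtain ⟨a, ha, b, hb, c, hc, d, hd, habc, habd, hacd, hbcd⟩ := id hq
    have mk : ∀ x ∈ fixSet (⊤ : Subgroup G) P, x ∈ fixSet H P := fun x hx h _ => hx h trivial
    refine ⟨⟨a, mk a ha⟩, fun g _ => Fx.ext (ha g trivial), ⟨b, mk b hb⟩,
      fun g _ => Fx.ext (hb g trivial), ⟨c, mk c hc⟩, fun g _ => Fx.ext (hc g trivial), ⟨d, mk d hd⟩,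
      fun g _ => Fx.ext (hd g trivial), ?_, ?_, ?_, ?_⟩
    · exact fun l h1 h2 h3 => habc l.val h1 h2 h3
    · exact fun l h1 h2 h3 => habd l.val h1 h2 h3
    · exact fun l h1 h2 h3 => hacd l.val h1 h2 h3
    · exact fun l h1 h2 h3 => hbcd l.val h1 h2 h3
  obtain ⟨i, hi⟩ := ih _ hlt N (Fx H P) (Fx H L) rfl hmodd (hG.to_subgroup N) hq'
  have heq : fxOrder hq' = fxOrder hq := fxOrder_inj hq' hq (Nat.card_congr
    ⟨fun p => ⟨p.1.val, fun g _ => congrArg Fx.val (p.2 ⟨g, htop g⟩ trivial)⟩,
     fun p => ⟨⟨p.1, fun h _ => p.2 h trivial⟩, fun g _ => Fx.ext (p.2 g trivial)⟩,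
     fun _ => rfl, fun _ => rfl⟩)
  refine ⟨2 * i, ?_⟩
  rw [hb, hi, heq, ← pow_mul, mul_comm]

/-- A 2-subgroup with a fixed quadrangle on a plane of odd order. -/
theorem chain {G : Type uG} {P : Type uP} {L : Type uL} [Group G] [Finite G] [MulAction G P]
    [MulAction G L] [Membership P L] [ProjectivePlane P L] [IsColl G P L] [Finite P] [Finite L]
    {U : Subgroup G} (hU : IsPGroup 2 U) (hodd : Odd (ProjectivePlane.order P L))
    (hq : Quad L (fixSet U P)) : ∃ i : ℕ, ProjectivePlane.order P L = fxOrder hq ^ i := by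
  have hfix : fixSet (⊤ : Subgroup U) P = fixSet U P :=
    Set.ext fun p => ⟨fun h g hg => h ⟨g, hg⟩ trivial, fun h g _ => h g g.2⟩
  have hq' : Quad L (fixSet (⊤ : Subgroup U) P) := hfix ▸ hq
  obtain ⟨i, hi⟩ := chain_aux _ U P L rfl hodd hU hq'
  exact ⟨i, hi.trans (by rw [fxOrder_inj hq' hq (by rw [hfix])])⟩

end Cfsg.Agent.OstromWagner
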