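import Cfsg.Agent.Lib.OstromWagner.HomOrder
import Cfsg.Agent.Lib.OstromWagner.Subplane

/-!
Odd order: a maximal 2-subgroup with a fixed quadrangle leads to a homology plane, hence the order
is a prime power.
-/

set_option autoImplicit false
set_option linter.unusedSectionVars false

namespace Cfsg.Agent.OstromWagner

open Configuration

universe uG uP uL

section twogroup

variable {G : Type uG} [Group G] [Finite G]

/-- The first power outside `U` of a 2-element. -/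
theorem exists_two_power_step {U : Subgroup G} {y : G} (hy : IsPGroup 2 (Subgroup.zpowers y))
    (hyU : y ∉ U) : ∃ k : ℕ, y ^ 2 ^ k ∉ U ∧ y ^ 2 ^ k * y ^ 2 ^ k ∈ U := by
  classical
  obtain ⟨e, he⟩ := hy ⟨y, Subgroup.mem_zpowers y⟩
  have hex : ∃ k, y ^ 2 ^ k ∈ U := by
    have := congrArg Subtype.val he
    simp only [SubmonoidClass.coe_pow, OneMemClass.coe_one] at this
    exact ⟨e, by rw [this]; exact one_mem _⟩
  obtain ⟨k, hk⟩ : ∃ k, Nat.find hex = k + 1 := Nat.exists_eq_succ_of_ne_zero (fun h => hyU (by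
    have := Nat.find_spec hex; rwa [h, pow_zero, pow_one] at this))
  refine ⟨k, fun h => ?_, ?_⟩
  · have := Nat.find_min' hex h; omega
  · have := Nat.find_spec hex
    rwa [hk, pow_succ, pow_mul, pow_two] at this

theorem isPGroup_zpowers_pow {y : G} (hy : IsPGroup 2 (Subgroup.zpowers y)) (k : ℕ) :
    IsPGroup 2 (Subgroup.zpowers (y ^ k)) :=
  hy.to_le (Subgroup.zpowers_le.2 (pow_mem (Subgroup.mem_zpowers y) k))

theorem sup_zpowers_isPGroup {U : Subgroup G} (hU : IsPGroup 2 U) {y : G}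
    (hy : IsPGroup 2 (Subgroup.zpowers y)) (hyN : y ∈ Subgroup.normalizer (U : Set G)) :
    IsPGroup 2 (U ⊔ Subgroup.zpowers y : Subgroup G) :=
  hU.to_sup_of_normal_left' hy (Subgroup.zpowers_le.2 hyN)

/-- In a 2-group, a proper subgroup is normalised by an element outside it. -/
theorem exists_normalizer_gt {U S : Subgroup G} (hS : IsPGroup 2 S) (hUS : U < S) :
    ∃ y ∈ S, y ∉ U ∧ y ∈ Subgroup.normalizer (U : Set G) := by
  have hne : U.subgroupOf S < ⊤ := lt_top_iff_ne_top.2 fun h =>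
    hUS.not_ge (Subgroup.subgroupOf_eq_top.1 h)
  have := hS.isNilpotent
  obtain ⟨y, hy, hy'⟩ := SetLike.exists_of_lt (normalizerCondition_of_isNilpotent _ hne)
  refine ⟨y, y.2, fun h => hy' (Subgroup.mem_subgroupOf.2 h),
    Subgroup.mem_normalizer_iff.2 fun h => ⟨fun hh => ?_, fun hh => ?_⟩⟩
  · exact Subgroup.mem_subgroupOf.1
      ((Subgroup.mem_normalizer_iff.1 hy ⟨h, hUS.le hh⟩).1 (Subgroup.mem_subgroupOf.2 hh))
  · have hS' : (y : G) * h * (y : G)⁻¹ ∈ S := hUS.le hh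
    have hhS : h ∈ S := by
      have := mul_mem (mul_mem (inv_mem y.2) hS') y.2
      simpa [mul_assoc] using this
    exact Subgroup.mem_subgroupOf.1
      ((Subgroup.mem_normalizer_iff.1 hy ⟨h, hhS⟩).2 (Subgroup.mem_subgroupOf.2 hh))

variable {α : Type*} [MulAction G α]

/-- Each pair fixed by `U` is fixed by an involution of `N(U)/U`. -/
theorem exists_pair_involution {U : Subgroup G} (hU : IsPGroup 2 U) (htr : TwoTrans G α)
    (htwo : ∀ y ∈ Subgroup.normalizer (U : Set G), IsPGroup 2 (Subgroup.zpowers y) → y ∉ U →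
      y * y ∈ U → ∃ D ∈ fixSet U α, ∃ E ∈ fixSet U α, D ≠ E ∧ y • D = D ∧ y • E = E)
    {B C : α} (hB : B ∈ fixSet U α) (hC : C ∈ fixSet U α) (hBC : B ≠ C) :
    ∃ y ∈ Subgroup.normalizer (U : Set G), IsPGroup 2 (Subgroup.zpowers y) ∧ y ∉ U ∧ y * y ∈ U ∧
      y • B = B ∧ y • C = C := by
  set K := MulAction.stabilizer G B ⊓ MulAction.stabilizer G C with hK
  obtain ⟨S, hUS, hSK, hS, hSmax⟩ :=
    exists_max_in (K := K) hU (fun u hu => ⟨hB u hu, hC u hu⟩)
  rcases eq_or_lt_of_le hUS with rfl | hlt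
  swap
  · obtain ⟨y, hyS, hyU, hyN⟩ := exists_normalizer_gt hS hlt
    have hy : IsPGroup 2 (Subgroup.zpowers y) := hS.to_le (Subgroup.zpowers_le.2 hyS)
    obtain ⟨k, h1, h2⟩ := exists_two_power_step hy hyU
    have hk : y ^ 2 ^ k ∈ K := pow_mem (hSK hyS) _
    exact ⟨_, pow_mem hyN _, isPGroup_zpowers_pow hy _, h1, h2, hk.1, hk.2⟩
  exfalso
  -- no 2-group fixing two points is larger than `U`
  have hsmall : ∀ D E : α, D ≠ E → ∀ V : Subgroup G, IsPGroup 2 V →
      V ≤ MulAction.stabilizer G D → V ≤ MulAction.stabilizer G E → Nat.card V ≤ Nat.card U := by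
    intro D E hDE V hV hVD hVE
    obtain ⟨g, hgD, hgE⟩ := htr D E B C hDE hBC
    set W := V.map (MulAut.conj g).toMonoidHom
    have hWK : W ≤ K := by
      rintro _ ⟨v, hv, rfl⟩
      constructor
      · show (g * v * g⁻¹) • B = B
        rw [← hgD, mul_smul, mul_smul, inv_smul_smul, show v • D = D from hVD hv]
      · show (g * v * g⁻¹) • C = C
        rw [← hgE, mul_smul, mul_smul, inv_smul_smul, show v • E = E from hVE hv]
    have hcard : Nat.card W = Nat.card V :=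
      (Nat.card_congr (Subgroup.equivMapOfInjective V _ (MulAut.conj g).injective).toEquiv).symm
    exact hcard ▸ Nat.le_of_dvd Nat.card_pos (hSmax W (hV.map _) hWK)
  obtain ⟨n, hn, hnBC⟩ := witt (p := 2) (x := (B, C)) (y := (C, B)) hU
    (fun u hu => Prod.ext (hB u hu) (hC u hu)) (fun u hu => Prod.ext (hC u hu) (hB u hu))
    (fun V hV hUV hVs => (Subgroup.eq_of_le_of_card_ge hUV (hsmall B C hBC V hV
      (fun v hv => congrArg Prod.fst (hVs hv)) (fun v hv => congrArg Prod.snd (hVs hv)))).symm)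
    (by obtain ⟨g, h1, h2⟩ := htr B C C B hBC (Ne.symm hBC); exact ⟨g, Prod.ext h1 h2⟩)
  have hnB : n • B = C := congrArg Prod.fst hnBC
  have hnC : n • C = B := congrArg Prod.snd hnBC
  obtain ⟨b, hb, hn2⟩ := exists_odd_pow_two_elt n
  have hn'U : n ^ b ∉ U := fun h => hBC (by
    have h' := hB _ h
    rw [smul_odd_pow (by rw [hnB, hnC]) hb, hnB] at h'
    exact h'.symm)
  obtain ⟨k, h1, h2⟩ := exists_two_power_step hn2 hn'U
  set y := (n ^ b) ^ 2 ^ k
  have hyN : y ∈ Subgroup.normalizer (U : Set G) := pow_mem (pow_mem hn _) _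
  have hy2 := isPGroup_zpowers_pow hn2 (2 ^ k)
  obtain ⟨D, hD, E, hE, hDE, hyD, hyE⟩ := htwo y hyN hy2 h1 h2
  have hle := hsmall D E hDE _ (sup_zpowers_isPGroup hU hy2 hyN)
    (sup_le (fun u hu => hD u hu) (Subgroup.zpowers_le.2 hyD))
    (sup_le (fun u hu => hE u hu) (Subgroup.zpowers_le.2 hyE))
  have := Subgroup.eq_of_le_of_card_ge
    (le_sup_left : U ≤ U ⊔ Subgroup.zpowers y) hle
  exact h1 (this ▸ Subgroup.mem_sup_right (Subgroup.mem_zpowers y))

end twogroup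

section plane

variable {G : Type uG} {P : Type uP} {L : Type uL} [Group G] [Finite G] [MulAction G P]
  [MulAction G L] [Membership P L] [ProjectivePlane P L] [IsColl G P L] [Finite P] [Finite L]

theorem exists_quad_bot : Quad L (fixSet (⊥ : Subgroup G) P) := by
  have hall : ∀ p : P, p ∈ fixSet (⊥ : Subgroup G) P := fun p h hh => by
    rw [Subgroup.mem_bot.1 hh, one_smul]
  obtain ⟨p₁, p₂, p₃, l₁, l₂, l₃, h₁₂, h₁₃, h₂₁, h₂₂, h₂₃, h₃₁, h₃₂, h₃₃⟩ :=
    @ProjectivePlane.exists_config P L _ _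
  have h23 : p₂ ≠ p₃ := fun e => h₃₃ (e ▸ h₂₃)
  have hne : l₂ ≠ l₃ := fun e => h₃₃ (e ▸ h₃₂)
  obtain ⟨a, ha, ha2, hab⟩ : ∃ a : P, a ∈ l₃ ∧ a ≠ p₂ ∧ a ∉ join L p₁ p₃ := by
    have h13 : p₁ ≠ p₃ := fun e => h₁₂ (e ▸ h₃₂)
    have hj : join L p₁ p₃ ≠ l₃ := fun e => h₁₃ (e ▸ left_mem_join p₁ p₃)
    obtain ⟨a, ha, ha2, ham⟩ := exists_ne_ne_mem l₃ p₂ (meet P (join L p₁ p₃) l₃)
    exact ⟨a, ha, ha2, fun h => ham (meet_eq hj h ha).symm⟩
  have h13 : p₁ ≠ p₃ := fun e => h₁₂ (e ▸ h₃₂)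
  exact ⟨p₂, hall _, a, hall _, p₁, hall _, p₃, hall _,
    nc_of_not_mem (Ne.symm ha2) h₂₃ ha h₁₃, nc_of_not_mem (Ne.symm ha2) h₂₃ ha h₃₃,
    fun m hm2 hm1 hm3 => h₁₂ (line_eq h23 hm2 hm3 h₂₂ h₃₂ ▸ hm1),
    fun m hma hm1 hm3 => hab (join_eq h13 hm1 hm3 ▸ hma)⟩

/-- On a plane of odd order with 2-transitive collineation group the order is a prime power. -/
theorem prime_power_of_odd (hf : Faith G P) (htr : TwoTrans G P)
    (hodd : Odd (ProjectivePlane.order P L)) :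
    ∃ p i : ℕ, p.Prime ∧ ProjectivePlane.order P L = p ^ i := by
  classical
  obtain ⟨U, ⟨hU, hq⟩, hmax'⟩ := Set.Finite.exists_maximalFor
    (fun U : Subgroup G => Nat.card U) {U : Subgroup G | IsPGroup 2 U ∧ Quad L (fixSet U P)}
    (Set.toFinite _) ⟨⊥, IsPGroup.of_bot, exists_quad_bot⟩
  have hmax : ∀ V : Subgroup G, IsPGroup 2 V → Quad L (fixSet V P) → U ≤ V → V = U :=
    fun V hV hqV hUV => (Subgroup.eq_of_le_of_card_ge hUV
      (hmax' ⟨hV, hqV⟩ (Nat.le_of_dvd Nat.card_pos (Subgroup.card_dvd_of_le hUV)))).symm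
  obtain ⟨i, hi⟩ := chain hU hodd hq
  letI := fxPlane hq
  have hrodd : Odd (fxOrder hq) := by
    rcases i with _ | i
    · have := two_le_order (P := P) (L := L); rw [hi, pow_zero] at this; omega
    · rw [hi] at hodd
      exact (Nat.odd_pow_iff (Nat.succ_ne_zero i)).1 hodd
  let N := Subgroup.normalizer (U : Set G)
  let f := toColl N (Fx U P) (Fx U L)
  -- 2-elements acting trivially lie in `U`
  have hker : ∀ y : N, IsPGroup 2 (Subgroup.zpowers (y : G)) → f y = 1 → (y : G) ∈ U := by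
    intro y hy h1
    have hfix : ∀ p ∈ fixSet U P, (y : G) • p = p := fun p hp => by
      have := congrArg (fun m => m • (⟨p, hp⟩ : Fx U P)) h1
      simp only [one_smul] at this
      exact congrArg Fx.val this
    have := hmax _ (sup_zpowers_isPGroup hU hy y.2) (hq.mono fun p hp v hv =>
      MulAction.mem_stabilizer_iff.1 ((sup_le (a := U) (b := Subgroup.zpowers (y : G))
        (c := MulAction.stabilizer G p) (fun u hu => hp u hu)
        (Subgroup.zpowers_le.2 (hfix p hp))) hv)) le_sup_left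
    exact this ▸ Subgroup.mem_sup_right (Subgroup.mem_zpowers (y : G))
  have hUker : ∀ y : N, (y : G) ∈ U → f y = 1 := fun y hy =>
    collGroup_faith _ fun p => Fx.ext (p.fix _ hy)
  have hfaith : Faith f.range (Fx U P) := fun m h => Subtype.ext (collGroup_faith _ h)
  -- involutions are homologies
  have hinv : ∀ m : f.range, m * m = 1 → m ≠ 1 → ∃ (C : Fx U P) (l : Fx U L), Hm m C l := by
    intro m hm2 hm1
    obtain ⟨g, hg⟩ := m.2
    obtain ⟨b, hb, hgb⟩ := exists_odd_pow_two_elt (g : G)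
    have hfb : f (g ^ b) = f g := by
      obtain ⟨c, rfl⟩ := hb
      have h2 : f g * f g = 1 := by rw [hg]; exact congrArg Subtype.val hm2
      rw [map_pow, pow_succ, pow_mul, pow_two, h2, one_pow, one_mul]
    have hinvol : ∀ p : Fx U P, m • m • p = p := fun p => by rw [← mul_smul, hm2, one_smul]
    have hmoved : ∃ p : Fx U P, m • p ≠ p := hfaith.moved hm1
    have hnq : ¬ Quad (Fx U L) {p : Fx U P | m • p = p} := by
      rintro ⟨a, ha, b', hb', c, hc, d, hd, h1, h2, h3, h4⟩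
      have hgN : ((g ^ b : N) : G) ∈ N := (g ^ b).2
      have mk : ∀ x : Fx U P, m • x = x →
          x.val ∈ fixSet (U ⊔ Subgroup.zpowers ((g : G) ^ b)) P := by
        intro x hx v hv
        refine MulAction.mem_stabilizer_iff.1 ((sup_le (a := U)
          (b := Subgroup.zpowers ((g : G) ^ b)) (c := MulAction.stabilizer G x.val)
          (fun u hu => x.fix u hu) (Subgroup.zpowers_le.2 ?_)) hv)
        have : f (g ^ b) • x = x := by rw [hfb, hg]; exact hx
        exact congrArg Fx.val this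
      have nc : ∀ {x y z : Fx U P}, NC (Fx U L) x y z → NC L x.val y.val z.val := by
        intro x y z h k hx hy hz
        have hne : x.val ≠ y.val := fx_val_ne h.ne12
        exact h ⟨k, join_eq hne hx hy ▸ join_fix hne x.fix y.fix⟩ hx hy hz
      have hV := hmax _ (sup_zpowers_isPGroup hU hgb (pow_mem g.2 b)) ⟨a.val, mk a ha, b'.val,
        mk b' hb', c.val, mk c hc, d.val, mk d hd, nc h1, nc h2, nc h3, nc h4⟩ le_sup_left
      refine hm1 (Subtype.ext ?_)
      rw [← hg, ← hfb]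
      exact hUker _ (hV ▸ Subgroup.mem_sup_right (Subgroup.mem_zpowers ((g : G) ^ b)))
    obtain ⟨l, hl⟩ := axial_of_involution hinvol hmoved hnq
    obtain ⟨C, hC⟩ := hl.exists_center
    refine ⟨C, l, hm2, hm1, hC, hl, fun hCl => ?_⟩
    -- an elation moves an even number of points
    cases nonempty_fintype (Fx U P)
    let σ : Equiv.Perm {p : Fx U P // p ∉ l} := Function.Involutive.toPerm
      (fun p => ⟨m • p.1, hl.not_mem p.2⟩) (fun p => Subtype.ext (hinvol p.1))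
    have hσ : σ ^ 2 ^ 1 = 1 := by
      refine Equiv.ext fun p => Subtype.ext ?_
      rw [pow_one, pow_two]
      exact hinvol p.1
    have hodd' : ¬ 2 ∣ Fintype.card {p : Fx U P // p ∉ l} := by
      rw [Fintype.card_subtype_compl, ← Nat.card_eq_fintype_card, ← Nat.card_eq_fintype_card,
        card_on_line, card_points_eq (L := Fx U L)]
      have : ¬ 2 ∣ fxOrder hq ^ 2 := (Odd.pow hrodd).not_two_dvd_nat
      change ¬ 2 ∣ fxOrder hq ^ 2 + fxOrder hq + 1 - (fxOrder hq + 1)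
      rwa [Nat.add_assoc, Nat.add_sub_cancel]
    obtain ⟨p, hp⟩ := Equiv.Perm.exists_fixed_point_of_prime (p := 2) (n := 1) hodd' hσ
    rcases fixed_point_cases hl hC hmoved (congrArg Subtype.val hp) with h | h
    · exact p.2 h
    · exact p.2 (h ▸ hCl)
  have hstep : ∀ y (hy : y ∈ N), IsPGroup 2 (Subgroup.zpowers y) → y ∉ U → y * y ∈ U →
      ∃ (m : f.range) (C : Fx U P) (l : Fx U L), (m : collGroup (Fx U P) (Fx U L)) = f ⟨y, hy⟩ ∧
        Hm m C l := by
    intro y hy hy2 hyU hyy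
    let m : f.range := ⟨f ⟨y, hy⟩, ⟨y, hy⟩, rfl⟩
    have h1 : m * m = 1 := Subtype.ext (by
      change f ⟨y, hy⟩ * f ⟨y, hy⟩ = 1
      rw [← map_mul]; exact hUker _ hyy)
    obtain ⟨C, l, h⟩ := hinv m h1 fun e => hyU (hker ⟨y, hy⟩ hy2 (congrArg Subtype.val e))
    exact ⟨m, C, l, rfl, h⟩
  have hinvol : ∀ y (hy : y ∈ N), IsPGroup 2 (Subgroup.zpowers y) → y ∉ U → y * y ∈ U →
      ∃ m : f.range, m * m = 1 ∧ m ≠ 1 ∧
        (m : collGroup (Fx U P) (Fx U L)) = f ⟨y, hy⟩ := by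
    intro y hy hy2 hyU hyy
    obtain ⟨m, C, l, hm, h⟩ := hstep y hy hy2 hyU hyy
    exact ⟨m, h.1, h.2.1, hm⟩
  have hp2 : ∀ y ∈ N, IsPGroup 2 (Subgroup.zpowers y) → y ∉ U → y * y ∈ U →
      ∃ D ∈ fixSet U P, ∃ E ∈ fixSet U P, D ≠ E ∧ y • D = D ∧ y • E = E := by
    intro y hy hy2 hyU hyy
    obtain ⟨m, C, l, hm, h⟩ := hstep y hy hy2 hyU hyy
    obtain ⟨q, hq', hqC, -⟩ := exists_ne_ne_mem l C C
    have tr : ∀ x : Fx U P, m • x = x → y • x.val = x.val := fun x hx => by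
      have : f ⟨y, hy⟩ • x = x := by rw [← hm]; exact hx
      exact congrArg Fx.val this
    exact ⟨C.val, C.fix, q.val, q.fix, fx_val_ne (Ne.symm hqC), tr C h.2.2.1.smul_point,
      tr q (h.2.2.2.1 q hq')⟩
  have hl2 : ∀ y ∈ N, IsPGroup 2 (Subgroup.zpowers y) → y ∉ U → y * y ∈ U →
      ∃ D ∈ fixSet U L, ∃ E ∈ fixSet U L, D ≠ E ∧ y • D = D ∧ y • E = E := by
    intro y hy hy2 hyU hyy
    obtain ⟨m, C, l, hm, h⟩ := hstep y hy hy2 hyU hyy
    obtain ⟨k, hk, hkl, -⟩ := exists_ne_ne_through C l l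
    have tr : ∀ x : Fx U L, m • x = x → y • x.val = x.val := fun x hx => by
      have : f ⟨y, hy⟩ • x = x := by rw [← hm]; exact hx
      exact congrArg Fx.val this
    exact ⟨l.val, l.fix, k.val, k.fix, fun e => hkl (Fx.ext e.symm), tr l h.2.2.2.1.smul_line,
      tr k (h.2.2.1 k hk)⟩
  have hplane : HomPlane f.range (Fx U P) (Fx U L) := by
    refine ⟨hfaith, hrodd, hinv, fun B C hBC => ?_, fun b c hbc => ?_⟩
    · obtain ⟨y, hy, hy2, hyU, hyy, hB, hC⟩ :=
        exists_pair_involution hU htr hp2 B.fix C.fix (fx_val_ne hBC)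
      obtain ⟨m, h1, h2, hm⟩ := hinvol y hy hy2 hyU hyy
      refine ⟨m, h1, h2, ?_, ?_⟩ <;> rw [Subgroup.smul_def, hm]
      · exact Fx.ext hB
      · exact Fx.ext hC
    · obtain ⟨y, hy, hy2, hyU, hyy, hB, hC⟩ :=
        exists_pair_involution hU (twoTrans_lines (P := P) htr) hl2 b.fix c.fix
          (fun e => hbc (Fx.ext e))
      obtain ⟨m, h1, h2, hm⟩ := hinvol y hy hy2 hyU hyy
      refine ⟨m, h1, h2, ?_, ?_⟩ <;> rw [Subgroup.smul_def, hm]
      · exact Fx.ext hB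
      · exact Fx.ext hC
  obtain ⟨p, j, hp, hj⟩ := hplane.prime_power
  refine ⟨p, j * i, hp, ?_⟩
  rw [hi, pow_mul, ← hj]
  rfl

end plane

end Cfsg.Agent.OstromWagner
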