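import Cfsg.Agent.Lib.OstromWagner.Exists

/-!
All elation groups are full (Gleason's argument).
-/

set_option autoImplicit false
set_option linter.unusedSectionVars false

namespace Cfsg.Agent.OstromWagner

open Configuration

universe uG uP uL

section plane

variable {G : Type uG} {P : Type uP} {L : Type uL} [Group G] [Finite G] [MulAction G P]
  [MulAction G L] [Membership P L] [ProjectivePlane P L] [IsColl G P L] [Finite P] [Finite L]
  (hf : Faith G P) (htr : TwoTrans G P)

include htr in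
/-- Conjugate flags have elation groups of the same order. -/
theorem card_elC_eq {C D : P} {l m : L} (hC : C ∈ l) (hD : D ∈ m) :
    Nat.card (elC G C l) = Nat.card (elC G D m) := by
  obtain ⟨g, rfl, rfl⟩ := flag_trans (L := L) htr hC hD
  refine Nat.card_congr ⟨fun u => ⟨g * u * g⁻¹, u.2.1.smul g, u.2.2.smul g⟩,
    fun u => ⟨g⁻¹ * u * g, ?_, ?_⟩, fun u => Subtype.ext (by simp [mul_assoc]),
    fun u => Subtype.ext (by simp [mul_assoc])⟩
  · have := u.2.1.smul g⁻¹
    rwa [inv_inv, inv_smul_smul] at this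
  · have := u.2.2.smul g⁻¹
    rwa [inv_inv, inv_smul_smul] at this

include hf htr

/-- Every flag carries a nontrivial elation. -/
theorem two_le_card_elC {C : P} {l : L} (hC : C ∈ l) : 2 ≤ Nat.card (elC G C l) := by
  obtain ⟨g, hg, m, hm⟩ := exists_axial (L := L) hf htr
  obtain ⟨t, ht, ht1⟩ : ∃ t ∈ elGrp hf m, t ≠ 1 := by
    obtain ⟨A, hA⟩ := hm.exists_center
    by_cases hAm : A ∈ m
    · exact ⟨g, mem_elGrp_of_center hf hm hAm hA, hg⟩
    obtain ⟨k, hk, hkm, -⟩ := exists_ne_ne_through A m m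
    obtain ⟨B, hBk, hBA, hBm⟩ := exists_ne_ne_mem k A (meet P k m)
    have hBoff : B ∉ m := fun h => hBm (meet_eq hkm hBk h).symm
    obtain ⟨s, hsA, hsm⟩ := antiflag_trans (L := L) htr hAm hBoff
    have hc := hm.smul s
    rw [hsm] at hc
    have hcA := hA.smul s
    rw [hsA] at hcA
    obtain ⟨t, ht, htA⟩ := centers_orbit hf hAm ⟨g, hg, hm, hA.smul_point⟩ B hBoff
      ⟨_, fun e => hg (conj_eq_one_iff.1 e), hc, hcA.smul_point⟩
    exact ⟨t, ht, fun e => hBA (by rw [← htA, e, one_smul])⟩
  obtain ⟨D, hD, hDc⟩ := elation_center hf ht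
  rw [card_elC_eq htr hC hD]
  have : Nontrivial (elC G D m) :=
    ⟨⟨⟨t, ht.1, hDc⟩, 1, fun e => ht1 (congrArg Subtype.val e)⟩⟩
  exact Finite.one_lt_card

/-- Elations with a given axis form an elementary abelian group. -/
theorem elGrp_abelian (l : L) : ∃ p : ℕ, p.Prime ∧ IsPGroup p (elGrp hf l) ∧
    (∀ a ∈ elGrp hf l, a ^ p = 1) ∧ ∀ a ∈ elGrp hf l, ∀ b ∈ elGrp hf l, a * b = b * a := by
  obtain ⟨C, hC, -⟩ := exists_ne_ne_mem l (meet P l l) (meet P l l)
  obtain ⟨D, hD, hDC, -⟩ := exists_ne_ne_mem l C C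
  exact elGrp_elementary hf hC hD (Ne.symm hDC) (exists_ne_one_of_two_le (two_le_card_elC hf htr hC))
    (exists_ne_one_of_two_le (two_le_card_elC hf htr hD))

theorem elC_inj {C : P} {l : L} (hC : C ∈ l) {x : P} (hx : x ∉ l) :
    Function.Injective (fun u : elC G C l => (u : G) • x) := fun u v e => by
  have h1 : ((v : G)⁻¹ * u) • x = x := by rw [mul_smul]; exact inv_smul_eq_iff.2 e
  exact Subtype.ext (inv_mul_eq_one.1
    ((elC_le hf hC (mul_mem (inv_mem v.2) u.2)).2 x hx h1)).symm

/-- Gleason: the elation groups have order `n`. -/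
theorem card_elC {C : P} {l : L} (hC : C ∈ l) :
    Nat.card (elC G C l) = ProjectivePlane.order P L := by
  classical
  cases nonempty_fintype P
  set n := ProjectivePlane.order P L with hn
  have h2n := two_le_order (P := P) (L := L)
  set h := Nat.card (elC G C l) with hh
  have h2 : 2 ≤ h := two_le_card_elC hf htr hC
  have hsum := sum_centres hf l
  rw [Finset.sum_const_nat (m := h - 1) (fun D hD => by
    rw [card_elC_eq htr (Finset.mem_filter.1 hD).2 hC]),
    show (Finset.univ.filter fun D : P => D ∈ l).card = n + 1 by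
      rw [← Fintype.card_subtype, ← Nat.card_eq_fintype_card]; exact card_on_line l] at hsum
  have hT := card_elGrp_dvd hf l
  rw [← hn] at hT
  have hhn : h ∣ n := by
    obtain ⟨m, hCm, hml, -⟩ := exists_ne_ne_through C l l
    rw [hn, ← ncard_on_line_erase (l := m) (A := C) hCm]
    refine dvd_ncard_of_orbits (elC G C l) _ ?_ ?_
    · rintro u hu x ⟨hxm, hxC⟩
      exact ⟨smul_mem_of_fix (hu.2 m hCm) hxm,
        fun e => hxC (MulAction.injective u (e.trans hu.2.smul_point.symm))⟩
    · rintro x ⟨hxm, hxC⟩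
      have hxl : x ∉ l := fun h' => hxC (point_eq hml hxm h' hCm hC)
      rw [show Nat.card (MulAction.orbit (elC G C l) x) = h from
        Nat.card_congr (Equiv.ofInjective _ (elC_inj hf htr hC hxl)).symm]
  obtain ⟨c, hc⟩ := hhn
  obtain ⟨b, hb⟩ := Nat.exists_eq_add_of_le h2
  have hT1 : 1 ≤ Nat.card (elGrp hf l) := Nat.card_pos
  have hTeq : Nat.card (elGrp hf l) = h * (1 + c * (b + 1)) := by
    rw [show h - 1 = b + 1 by omega, hc] at hsum
    have : h * (1 + c * (b + 1)) = (h * c + 1) * (b + 1) + 1 := by rw [hb]; ring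
    omega
  rw [hTeq, hc, mul_pow, pow_two h, mul_assoc h h (c ^ 2)] at hT
  have hd := Nat.dvd_of_mul_dvd_mul_left (by omega) hT
  have hcop : Nat.Coprime (1 + c * (b + 1)) (c ^ 2) :=
    (((Nat.coprime_add_mul_left_left 1 c (b + 1)).2 (Nat.coprime_one_left c)).pow_right 2)
  have hle := Nat.le_of_dvd (by omega) (hcop.dvd_of_dvd_mul_right hd)
  have hc1 : c = 1 := by
    rcases c with _ | _ | c
    · omega
    · rfl
    · rw [hb] at hle; nlinarith
  rw [hc, hc1, mul_one]

theorem card_elGrp_eq (l : L) :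
    Nat.card (elGrp hf l) = ProjectivePlane.order P L ^ 2 := by
  classical
  cases nonempty_fintype P
  have hsum := sum_centres hf l
  rw [Finset.sum_const_nat (m := ProjectivePlane.order P L - 1) (fun D hD => by
    rw [card_elC hf htr (Finset.mem_filter.1 hD).2]),
    show (Finset.univ.filter fun D : P => D ∈ l).card = ProjectivePlane.order P L + 1 by
      rw [← Fintype.card_subtype, ← Nat.card_eq_fintype_card]; exact card_on_line l] at hsum
  have := two_le_order (P := P) (L := L)
  have hT1 : 1 ≤ Nat.card (elGrp hf l) := Nat.card_pos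
  obtain ⟨k, hk⟩ : ∃ k, ProjectivePlane.order P L = k + 1 := ⟨ProjectivePlane.order P L - 1, by omega⟩
  rw [hk, Nat.add_sub_cancel] at hsum
  rw [hk]
  have : (k + 1) ^ 2 = (k + 1 + 1) * k + 1 := by ring
  omega

/-- Elations with given centre and axis are transitive on each further line through the centre. -/
theorem elC_trans {C : P} {l m : L} (hC : C ∈ l) (hCm : C ∈ m) (hml : m ≠ l) {x y : P}
    (hx : x ∈ m) (hxC : x ≠ C) (hy : y ∈ m) (hyC : y ≠ C) :
    ∃ u ∈ elC G C l, u • x = y := by
  have hxl : x ∉ l := fun h => hxC (point_eq hml hx h hCm hC)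
  have hsub : Set.range (fun u : elC G C l => (u : G) • x) ⊆ {z : P | z ∈ m ∧ z ≠ C} := by
    rintro _ ⟨u, rfl⟩
    exact ⟨smul_mem_of_fix (u.2.2 m hCm) hx,
      fun e => hxC (MulAction.injective (u : G) (e.trans u.2.2.smul_point.symm))⟩
  have heq := Set.eq_of_subset_of_ncard_le hsub (by
    rw [Set.ncard_range_of_injective (elC_inj hf htr hC hxl), card_elC hf htr hC,
      ncard_on_line_erase hCm]) (Set.toFinite _)
  obtain ⟨u, hu⟩ := heq.ge (show y ∈ {z : P | z ∈ m ∧ z ≠ C} from ⟨hy, hyC⟩)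
  exact ⟨u, u.2, hu⟩

/-- All elations with a given axis are transitive off the axis. -/
theorem elGrp_trans {l : L} {x y : P} (hx : x ∉ l) (hy : y ∉ l) :
    ∃ t ∈ elGrp hf l, t • x = y := by
  have hinj : Function.Injective (fun t : elGrp hf l => (t : G) • x) := fun u v e => by
    have h1 : ((v : G)⁻¹ * u) • x = x := by rw [mul_smul]; exact inv_smul_eq_iff.2 e
    exact Subtype.ext (inv_mul_eq_one.1 ((mul_mem (inv_mem v.2) u.2).2 x hx h1)).symm
  have hsub : Set.range (fun t : elGrp hf l => (t : G) • x) ⊆ {z : P | z ∉ l} := by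
    rintro _ ⟨t, rfl⟩
    exact (show Axial (P := P) (t : G) l from t.2.1).not_mem hx
  have heq := Set.eq_of_subset_of_ncard_le hsub (by
    rw [Set.ncard_range_of_injective hinj, card_elGrp_eq hf htr, ncard_off_line]) (Set.toFinite _)
  obtain ⟨t, ht⟩ := heq.ge (show y ∈ {z : P | z ∉ l} from hy)
  exact ⟨t, t.2, ht⟩

end plane

end Cfsg.Agent.OstromWagner
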